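import Cfsg.Agent.Lib.Spor.ON.Defs

set_option autoImplicit false
set_option maxRecDepth 100000
set_option Elab.async false
set_option exponentiation.threshold 100000

namespace Cfsg.Agent.Spor.ON
open Cfsg.Agent.PG

theorem cl6_0_0 : chkOn A 17 0 1 (cl6_l) = true := by decide +kernel

theorem cl6_0_1 : chkOn A 17 1 1 (cl6_l) = true := by decide +kernel

theorem cl6_0_2 : chkOn A 17 2 1 (cl6_l) = true := by decide +kernel

theorem cl6_0_3 : chkOn A 17 3 1 (cl6_l) = true := by decide +kernel

theorem cl6_0_4 : chkOn A 17 4 1 (cl6_l) = true := by decide +kernel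

theorem cl6_0_5 : chkOn A 17 5 1 (cl6_l) = true := by decide +kernel

theorem cl6_0_6 : chkOn A 17 6 1 (cl6_l) = true := by decide +kernel

theorem cl6_0_7 : chkOn A 17 7 1 (cl6_l) = true := by decide +kernel

theorem cl6_0_8 : chkOn A 17 8 1 (cl6_l) = true := by decide +kernel

theorem cl6_0_9 : chkOn A 17 9 1 (cl6_l) = true := by decide +kernel

theorem cl6_0_10 : chkOn A 17 10 1 (cl6_l) = true := by decide +kernel

theorem cl6_0_11 : chkOn A 17 11 1 (cl6_l) = true := by decide +kernel

theorem cl6_0_12 : chkOn A 17 12 1 (cl6_l) = true := by decide +kernel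

theorem cl6_0_13 : chkOn A 17 13 1 (cl6_l) = true := by decide +kernel

theorem cl6_0_14 : chkOn A 17 14 1 (cl6_l) = true := by decide +kernel

theorem cl6_0_15 : chkOn A 17 15 1 (cl6_l) = true := by decide +kernel

theorem cl6_0_16 : chkOn A 17 16 1 (cl6_l) = true := by decide +kernel

theorem ok6 : plainOK A 6 7 1 tr6 ce6 = true := by decide +kernel

theorem orb6 : orbCardB A 14 6 1 2 2 = true := by decide +kernel

theorem cl5_0_0 : chkOn A 17 0 1 (cl5_l) = true := by decide +kernel

theorem cl5_0_1 : chkOn A 17 1 1 (cl5_l) = true := by decide +kernel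

theorem cl5_0_2 : chkOn A 17 2 1 (cl5_l) = true := by decide +kernel

theorem cl5_0_3 : chkOn A 17 3 1 (cl5_l) = true := by decide +kernel

theorem cl5_0_4 : chkOn A 17 4 1 (cl5_l) = true := by decide +kernel

theorem cl5_0_5 : chkOn A 17 5 1 (cl5_l) = true := by decide +kernel

theorem cl5_0_6 : chkOn A 17 6 1 (cl5_l) = true := by decide +kernel

theorem cl5_0_7 : chkOn A 17 7 1 (cl5_l) = true := by decide +kernel

theorem cl5_0_8 : chkOn A 17 8 1 (cl5_l) = true := by decide +kernel

theorem cl5_0_9 : chkOn A 17 9 1 (cl5_l) = true := by decide +kernel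

theorem cl5_0_10 : chkOn A 17 10 1 (cl5_l) = true := by decide +kernel

theorem cl5_0_11 : chkOn A 17 11 1 (cl5_l) = true := by decide +kernel

theorem cl5_0_12 : chkOn A 17 12 1 (cl5_l) = true := by decide +kernel

theorem cl5_0_13 : chkOn A 17 13 1 (cl5_l) = true := by decide +kernel

theorem cl5_0_14 : chkOn A 17 14 1 (cl5_l) = true := by decide +kernel

theorem cl5_0_15 : chkOn A 17 15 1 (cl5_l) = true := by decide +kernel

theorem cl5_0_16 : chkOn A 17 16 1 (cl5_l) = true := by decide +kernel

theorem ok5 : plainOK A 5 6 0 tr5 ce5 = true := by decide +kernel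

theorem orb5 : orbCardB A 14 5 0 2 2 = true := by decide +kernel

theorem cl4_0_0 : chkOn A 17 0 1 (cl4_l) = true := by decide +kernel

theorem cl4_0_1 : chkOn A 17 1 1 (cl4_l) = true := by decide +kernel

theorem cl4_0_2 : chkOn A 17 2 1 (cl4_l) = true := by decide +kernel

theorem cl4_0_3 : chkOn A 17 3 1 (cl4_l) = true := by decide +kernel

theorem cl4_0_4 : chkOn A 17 4 1 (cl4_l) = true := by decide +kernel

theorem cl4_0_5 : chkOn A 17 5 1 (cl4_l) = true := by decide +kernel

theorem cl4_0_6 : chkOn A 17 6 1 (cl4_l) = true := by decide +kernel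

theorem cl4_0_7 : chkOn A 17 7 1 (cl4_l) = true := by decide +kernel

theorem cl4_0_8 : chkOn A 17 8 1 (cl4_l) = true := by decide +kernel

theorem cl4_0_9 : chkOn A 17 9 1 (cl4_l) = true := by decide +kernel

theorem cl4_0_10 : chkOn A 17 10 1 (cl4_l) = true := by decide +kernel

theorem cl4_0_11 : chkOn A 17 11 1 (cl4_l) = true := by decide +kernel

theorem cl4_0_12 : chkOn A 17 12 1 (cl4_l) = true := by decide +kernel

theorem cl4_0_13 : chkOn A 17 13 1 (cl4_l) = true := by decide +kernel

theorem cl4_0_14 : chkOn A 17 14 1 (cl4_l) = true := by decide +kernel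

theorem cl4_0_15 : chkOn A 17 15 1 (cl4_l) = true := by decide +kernel

theorem cl4_0_16 : chkOn A 17 16 1 (cl4_l) = true := by decide +kernel

theorem ok4 : plainOK A 4 5 3534 tr4 ce4 = true := by decide +kernel

theorem orb4 : orbCardB A 14 4 3534 2 2 = true := by decide +kernel

theorem cl3_0_0 : chkOn A 17 0 1 (cl3_l) = true := by decide +kernel

theorem cl3_0_1 : chkOn A 17 1 1 (cl3_l) = true := by decide +kernel

theorem cl3_0_2 : chkOn A 17 2 1 (cl3_l) = true := by decide +kernel

theorem cl3_0_3 : chkOn A 17 3 1 (cl3_l) = true := by decide +kernel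

theorem cl3_0_4 : chkOn A 17 4 1 (cl3_l) = true := by decide +kernel

theorem cl3_0_5 : chkOn A 17 5 1 (cl3_l) = true := by decide +kernel

theorem cl3_0_6 : chkOn A 17 6 1 (cl3_l) = true := by decide +kernel

theorem cl3_0_7 : chkOn A 17 7 1 (cl3_l) = true := by decide +kernel

theorem cl3_0_8 : chkOn A 17 8 1 (cl3_l) = true := by decide +kernel

theorem cl3_0_9 : chkOn A 17 9 1 (cl3_l) = true := by decide +kernel

theorem cl3_0_10 : chkOn A 17 10 1 (cl3_l) = true := by decide +kernel

theorem cl3_0_11 : chkOn A 17 11 1 (cl3_l) = true := by decide +kernel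

theorem cl3_0_12 : chkOn A 17 12 1 (cl3_l) = true := by decide +kernel

theorem cl3_0_13 : chkOn A 17 13 1 (cl3_l) = true := by decide +kernel

theorem cl3_0_14 : chkOn A 17 14 1 (cl3_l) = true := by decide +kernel

theorem cl3_0_15 : chkOn A 17 15 1 (cl3_l) = true := by decide +kernel

theorem cl3_0_16 : chkOn A 17 16 1 (cl3_l) = true := by decide +kernel

theorem ok3 : plainOK A 3 4 2467 tr3 ce3 = true := by decide +kernel

theorem orb3 : orbCardB A 14 3 2467 3 4 = true := by decide +kernel

theorem cl2_0_0 : chkOn A 17 0 1 (cl2_l) = true := by decide +kernel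

theorem cl2_0_1 : chkOn A 17 1 1 (cl2_l) = true := by decide +kernel

theorem cl2_0_2 : chkOn A 17 2 1 (cl2_l) = true := by decide +kernel

theorem cl2_0_3 : chkOn A 17 3 1 (cl2_l) = true := by decide +kernel

theorem cl2_0_4 : chkOn A 17 4 1 (cl2_l) = true := by decide +kernel

theorem cl2_0_5 : chkOn A 17 5 1 (cl2_l) = true := by decide +kernel

theorem cl2_0_6 : chkOn A 17 6 1 (cl2_l) = true := by decide +kernel

theorem cl2_0_7 : chkOn A 17 7 1 (cl2_l) = true := by decide +kernel

theorem cl2_0_8 : chkOn A 17 8 1 (cl2_l) = true := by decide +kernel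

theorem cl2_0_9 : chkOn A 17 9 1 (cl2_l) = true := by decide +kernel

theorem cl2_0_10 : chkOn A 17 10 1 (cl2_l) = true := by decide +kernel

theorem cl2_0_11 : chkOn A 17 11 1 (cl2_l) = true := by decide +kernel

theorem cl2_0_12 : chkOn A 17 12 1 (cl2_l) = true := by decide +kernel

theorem cl2_0_13 : chkOn A 17 13 1 (cl2_l) = true := by decide +kernel

theorem cl2_0_14 : chkOn A 17 14 1 (cl2_l) = true := by decide +kernel

theorem cl2_0_15 : chkOn A 17 15 1 (cl2_l) = true := by decide +kernel

theorem cl2_0_16 : chkOn A 17 16 1 (cl2_l) = true := by decide +kernel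

theorem ok2 : dcOK A 2 4 2794 2467 3 cj2 reps2 = true := by decide +kernel

theorem orb2 : orbCardB A 14 2 2794 4 21 = true := by decide +kernel

theorem cl1_0_0 : chkOn A 17 0 1 ((cl1_l).take 29) = true := by decide +kernel

theorem cl1_0_1 : chkOn A 17 1 1 ((cl1_l).take 29) = true := by decide +kernel

theorem cl1_0_2 : chkOn A 17 2 1 ((cl1_l).take 29) = true := by decide +kernel

theorem cl1_0_3 : chkOn A 17 3 1 ((cl1_l).take 29) = true := by decide +kernel

theorem cl1_0_4 : chkOn A 17 4 1 ((cl1_l).take 29) = true := by decide +kernel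

theorem cl1_0_5 : chkOn A 17 5 1 ((cl1_l).take 29) = true := by decide +kernel

theorem cl1_0_6 : chkOn A 17 6 1 ((cl1_l).take 29) = true := by decide +kernel

theorem cl1_0_7 : chkOn A 17 7 1 ((cl1_l).take 29) = true := by decide +kernel

theorem cl1_0_8 : chkOn A 17 8 1 ((cl1_l).take 29) = true := by decide +kernel

theorem cl1_0_9 : chkOn A 17 9 1 ((cl1_l).take 29) = true := by decide +kernel

theorem cl1_0_10 : chkOn A 17 10 1 ((cl1_l).take 29) = true := by decide +kernel

theorem cl1_0_11 : chkOn A 17 11 1 ((cl1_l).take 29) = true := by decide +kernel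

theorem cl1_0_12 : chkOn A 17 12 1 ((cl1_l).take 29) = true := by decide +kernel

theorem cl1_0_13 : chkOn A 17 13 1 ((cl1_l).take 29) = true := by decide +kernel

theorem cl1_0_14 : chkOn A 17 14 1 ((cl1_l).take 29) = true := by decide +kernel

theorem cl1_0_15 : chkOn A 17 15 1 ((cl1_l).take 29) = true := by decide +kernel

theorem cl1_0_16 : chkOn A 17 16 1 ((cl1_l).take 29) = true := by decide +kernel

theorem cl1_1_0 : chkOn A 17 0 1 (((cl1_l).drop 29).take 13) = true := by decide +kernel

theorem cl1_1_1 : chkOn A 17 1 1 (((cl1_l).drop 29).take 13) = true := by decide +kernel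

theorem cl1_1_2 : chkOn A 17 2 1 (((cl1_l).drop 29).take 13) = true := by decide +kernel

theorem cl1_1_3 : chkOn A 17 3 1 (((cl1_l).drop 29).take 13) = true := by decide +kernel

theorem cl1_1_4 : chkOn A 17 4 1 (((cl1_l).drop 29).take 13) = true := by decide +kernel

theorem cl1_1_5 : chkOn A 17 5 1 (((cl1_l).drop 29).take 13) = true := by decide +kernel

theorem cl1_1_6 : chkOn A 17 6 1 (((cl1_l).drop 29).take 13) = true := by decide +kernel

theorem cl1_1_7 : chkOn A 17 7 1 (((cl1_l).drop 29).take 13) = true := by decide +kernel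

theorem cl1_1_8 : chkOn A 17 8 1 (((cl1_l).drop 29).take 13) = true := by decide +kernel

theorem cl1_1_9 : chkOn A 17 9 1 (((cl1_l).drop 29).take 13) = true := by decide +kernel

theorem cl1_1_10 : chkOn A 17 10 1 (((cl1_l).drop 29).take 13) = true := by decide +kernel

theorem cl1_1_11 : chkOn A 17 11 1 (((cl1_l).drop 29).take 13) = true := by decide +kernel

theorem cl1_1_12 : chkOn A 17 12 1 (((cl1_l).drop 29).take 13) = true := by decide +kernel

theorem cl1_1_13 : chkOn A 17 13 1 (((cl1_l).drop 29).take 13) = true := by decide +kernel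

theorem cl1_1_14 : chkOn A 17 14 1 (((cl1_l).drop 29).take 13) = true := by decide +kernel

theorem cl1_1_15 : chkOn A 17 15 1 (((cl1_l).drop 29).take 13) = true := by decide +kernel

theorem cl1_1_16 : chkOn A 17 16 1 (((cl1_l).drop 29).take 13) = true := by decide +kernel

theorem cl1_2_0 : chkOn A 17 0 1 ((((cl1_l).drop 29).drop 13).take 14) = true := by decide +kernel

theorem cl1_2_1 : chkOn A 17 1 1 ((((cl1_l).drop 29).drop 13).take 14) = true := by decide +kernel


end Cfsg.Agent.Spor.ON
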