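import Cfsg.Agent.Lib.Spor.ON.Defs

set_option autoImplicit false
set_option maxRecDepth 100000
set_option Elab.async false
set_option exponentiation.threshold 100000

namespace Cfsg.Agent.Spor.ON
open Cfsg.Agent.PG

theorem cl1_2_2 : chkOn A 17 2 1 ((((cl1_l).drop 29).drop 13).take 14) = true := by decide +kernel

theorem cl1_2_3 : chkOn A 17 3 1 ((((cl1_l).drop 29).drop 13).take 14) = true := by decide +kernel

theorem cl1_2_4 : chkOn A 17 4 1 ((((cl1_l).drop 29).drop 13).take 14) = true := by decide +kernel

theorem cl1_2_5 : chkOn A 17 5 1 ((((cl1_l).drop 29).drop 13).take 14) = true := by decide +kernel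

theorem cl1_2_6 : chkOn A 17 6 1 ((((cl1_l).drop 29).drop 13).take 14) = true := by decide +kernel

theorem cl1_2_7 : chkOn A 17 7 1 ((((cl1_l).drop 29).drop 13).take 14) = true := by decide +kernel

theorem cl1_2_8 : chkOn A 17 8 1 ((((cl1_l).drop 29).drop 13).take 14) = true := by decide +kernel

theorem cl1_2_9 : chkOn A 17 9 1 ((((cl1_l).drop 29).drop 13).take 14) = true := by decide +kernel

theorem cl1_2_10 : chkOn A 17 10 1 ((((cl1_l).drop 29).drop 13).take 14) = true := by decide +kernel

theorem cl1_2_11 : chkOn A 17 11 1 ((((cl1_l).drop 29).drop 13).take 14) = true := by decide +kernel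

theorem cl1_2_12 : chkOn A 17 12 1 ((((cl1_l).drop 29).drop 13).take 14) = true := by decide +kernel

theorem cl1_2_13 : chkOn A 17 13 1 ((((cl1_l).drop 29).drop 13).take 14) = true := by decide +kernel

theorem cl1_2_14 : chkOn A 17 14 1 ((((cl1_l).drop 29).drop 13).take 14) = true := by decide +kernel

theorem cl1_2_15 : chkOn A 17 15 1 ((((cl1_l).drop 29).drop 13).take 14) = true := by decide +kernel

theorem cl1_2_16 : chkOn A 17 16 1 ((((cl1_l).drop 29).drop 13).take 14) = true := by decide +kernel

theorem cl1_3_0 : chkOn A 17 0 1 (((((cl1_l).drop 29).drop 13).drop 14).take 14) = true := by decide +kernel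

theorem cl1_3_1 : chkOn A 17 1 1 (((((cl1_l).drop 29).drop 13).drop 14).take 14) = true := by decide +kernel

theorem cl1_3_2 : chkOn A 17 2 1 (((((cl1_l).drop 29).drop 13).drop 14).take 14) = true := by decide +kernel

theorem cl1_3_3 : chkOn A 17 3 1 (((((cl1_l).drop 29).drop 13).drop 14).take 14) = true := by decide +kernel

theorem cl1_3_4 : chkOn A 17 4 1 (((((cl1_l).drop 29).drop 13).drop 14).take 14) = true := by decide +kernel

theorem cl1_3_5 : chkOn A 17 5 1 (((((cl1_l).drop 29).drop 13).drop 14).take 14) = true := by decide +kernel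

theorem cl1_3_6 : chkOn A 17 6 1 (((((cl1_l).drop 29).drop 13).drop 14).take 14) = true := by decide +kernel

theorem cl1_3_7 : chkOn A 17 7 1 (((((cl1_l).drop 29).drop 13).drop 14).take 14) = true := by decide +kernel

theorem cl1_3_8 : chkOn A 17 8 1 (((((cl1_l).drop 29).drop 13).drop 14).take 14) = true := by decide +kernel

theorem cl1_3_9 : chkOn A 17 9 1 (((((cl1_l).drop 29).drop 13).drop 14).take 14) = true := by decide +kernel

theorem cl1_3_10 : chkOn A 17 10 1 (((((cl1_l).drop 29).drop 13).drop 14).take 14) = true := by decide +kernel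

theorem cl1_3_11 : chkOn A 17 11 1 (((((cl1_l).drop 29).drop 13).drop 14).take 14) = true := by decide +kernel

theorem cl1_3_12 : chkOn A 17 12 1 (((((cl1_l).drop 29).drop 13).drop 14).take 14) = true := by decide +kernel

theorem cl1_3_13 : chkOn A 17 13 1 (((((cl1_l).drop 29).drop 13).drop 14).take 14) = true := by decide +kernel

theorem cl1_3_14 : chkOn A 17 14 1 (((((cl1_l).drop 29).drop 13).drop 14).take 14) = true := by decide +kernel

theorem cl1_3_15 : chkOn A 17 15 1 (((((cl1_l).drop 29).drop 13).drop 14).take 14) = true := by decide +kernel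

theorem cl1_3_16 : chkOn A 17 16 1 (((((cl1_l).drop 29).drop 13).drop 14).take 14) = true := by decide +kernel

theorem cl1_4_0 : chkOn A 17 0 1 ((((((cl1_l).drop 29).drop 13).drop 14).drop 14).take 11) = true := by decide +kernel

theorem cl1_4_1 : chkOn A 17 1 1 ((((((cl1_l).drop 29).drop 13).drop 14).drop 14).take 11) = true := by decide +kernel

theorem cl1_4_2 : chkOn A 17 2 1 ((((((cl1_l).drop 29).drop 13).drop 14).drop 14).take 11) = true := by decide +kernel

theorem cl1_4_3 : chkOn A 17 3 1 ((((((cl1_l).drop 29).drop 13).drop 14).drop 14).take 11) = true := by decide +kernel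

theorem cl1_4_4 : chkOn A 17 4 1 ((((((cl1_l).drop 29).drop 13).drop 14).drop 14).take 11) = true := by decide +kernel

theorem cl1_4_5 : chkOn A 17 5 1 ((((((cl1_l).drop 29).drop 13).drop 14).drop 14).take 11) = true := by decide +kernel

theorem cl1_4_6 : chkOn A 17 6 1 ((((((cl1_l).drop 29).drop 13).drop 14).drop 14).take 11) = true := by decide +kernel

theorem cl1_4_7 : chkOn A 17 7 1 ((((((cl1_l).drop 29).drop 13).drop 14).drop 14).take 11) = true := by decide +kernel

theorem cl1_4_8 : chkOn A 17 8 1 ((((((cl1_l).drop 29).drop 13).drop 14).drop 14).take 11) = true := by decide +kernel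

theorem cl1_4_9 : chkOn A 17 9 1 ((((((cl1_l).drop 29).drop 13).drop 14).drop 14).take 11) = true := by decide +kernel

theorem cl1_4_10 : chkOn A 17 10 1 ((((((cl1_l).drop 29).drop 13).drop 14).drop 14).take 11) = true := by decide +kernel

theorem cl1_4_11 : chkOn A 17 11 1 ((((((cl1_l).drop 29).drop 13).drop 14).drop 14).take 11) = true := by decide +kernel

theorem cl1_4_12 : chkOn A 17 12 1 ((((((cl1_l).drop 29).drop 13).drop 14).drop 14).take 11) = true := by decide +kernel

theorem cl1_4_13 : chkOn A 17 13 1 ((((((cl1_l).drop 29).drop 13).drop 14).drop 14).take 11) = true := by decide +kernel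

theorem cl1_4_14 : chkOn A 17 14 1 ((((((cl1_l).drop 29).drop 13).drop 14).drop 14).take 11) = true := by decide +kernel

theorem cl1_4_15 : chkOn A 17 15 1 ((((((cl1_l).drop 29).drop 13).drop 14).drop 14).take 11) = true := by decide +kernel

theorem cl1_4_16 : chkOn A 17 16 1 ((((((cl1_l).drop 29).drop 13).drop 14).drop 14).take 11) = true := by decide +kernel

theorem cl1_5_0 : chkOn A 17 0 1 (((((((cl1_l).drop 29).drop 13).drop 14).drop 14).drop 11).take 14) = true := by decide +kernel

theorem cl1_5_1 : chkOn A 17 1 1 (((((((cl1_l).drop 29).drop 13).drop 14).drop 14).drop 11).take 14) = true := by decide +kernel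

theorem cl1_5_2 : chkOn A 17 2 1 (((((((cl1_l).drop 29).drop 13).drop 14).drop 14).drop 11).take 14) = true := by decide +kernel

theorem cl1_5_3 : chkOn A 17 3 1 (((((((cl1_l).drop 29).drop 13).drop 14).drop 14).drop 11).take 14) = true := by decide +kernel

theorem cl1_5_4 : chkOn A 17 4 1 (((((((cl1_l).drop 29).drop 13).drop 14).drop 14).drop 11).take 14) = true := by decide +kernel

theorem cl1_5_5 : chkOn A 17 5 1 (((((((cl1_l).drop 29).drop 13).drop 14).drop 14).drop 11).take 14) = true := by decide +kernel

theorem cl1_5_6 : chkOn A 17 6 1 (((((((cl1_l).drop 29).drop 13).drop 14).drop 14).drop 11).take 14) = true := by decide +kernel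

theorem cl1_5_7 : chkOn A 17 7 1 (((((((cl1_l).drop 29).drop 13).drop 14).drop 14).drop 11).take 14) = true := by decide +kernel

theorem cl1_5_8 : chkOn A 17 8 1 (((((((cl1_l).drop 29).drop 13).drop 14).drop 14).drop 11).take 14) = true := by decide +kernel

theorem cl1_5_9 : chkOn A 17 9 1 (((((((cl1_l).drop 29).drop 13).drop 14).drop 14).drop 11).take 14) = true := by decide +kernel

theorem cl1_5_10 : chkOn A 17 10 1 (((((((cl1_l).drop 29).drop 13).drop 14).drop 14).drop 11).take 14) = true := by decide +kernel

theorem cl1_5_11 : chkOn A 17 11 1 (((((((cl1_l).drop 29).drop 13).drop 14).drop 14).drop 11).take 14) = true := by decide +kernel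

theorem cl1_5_12 : chkOn A 17 12 1 (((((((cl1_l).drop 29).drop 13).drop 14).drop 14).drop 11).take 14) = true := by decide +kernel


end Cfsg.Agent.Spor.ON
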