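import Cfsg.Agent.Lib.Spor.ON.Defs

set_option autoImplicit false
set_option maxRecDepth 100000
set_option Elab.async false
set_option exponentiation.threshold 100000

namespace Cfsg.Agent.Spor.ON
open Cfsg.Agent.PG

theorem cl0_15_1 : chkOn A 17 1 1 (((((((((((((((((cl0_l).drop 23).drop 9).drop 10).drop 10).drop 9).drop 9).drop 8).drop 8).drop 8).drop 8).drop 8).drop 8).drop 8).drop 8).drop 8).take 8) = true := by decide +kernel

theorem cl0_15_2 : chkOn A 17 2 1 (((((((((((((((((cl0_l).drop 23).drop 9).drop 10).drop 10).drop 9).drop 9).drop 8).drop 8).drop 8).drop 8).drop 8).drop 8).drop 8).drop 8).drop 8).take 8) = true := by decide +kernel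

theorem cl0_15_3 : chkOn A 17 3 1 (((((((((((((((((cl0_l).drop 23).drop 9).drop 10).drop 10).drop 9).drop 9).drop 8).drop 8).drop 8).drop 8).drop 8).drop 8).drop 8).drop 8).drop 8).take 8) = true := by decide +kernel

theorem cl0_15_4 : chkOn A 17 4 1 (((((((((((((((((cl0_l).drop 23).drop 9).drop 10).drop 10).drop 9).drop 9).drop 8).drop 8).drop 8).drop 8).drop 8).drop 8).drop 8).drop 8).drop 8).take 8) = true := by decide +kernel

theorem cl0_15_5 : chkOn A 17 5 1 (((((((((((((((((cl0_l).drop 23).drop 9).drop 10).drop 10).drop 9).drop 9).drop 8).drop 8).drop 8).drop 8).drop 8).drop 8).drop 8).drop 8).drop 8).take 8) = true := by decide +kernel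

theorem cl0_15_6 : chkOn A 17 6 1 (((((((((((((((((cl0_l).drop 23).drop 9).drop 10).drop 10).drop 9).drop 9).drop 8).drop 8).drop 8).drop 8).drop 8).drop 8).drop 8).drop 8).drop 8).take 8) = true := by decide +kernel

theorem cl0_15_7 : chkOn A 17 7 1 (((((((((((((((((cl0_l).drop 23).drop 9).drop 10).drop 10).drop 9).drop 9).drop 8).drop 8).drop 8).drop 8).drop 8).drop 8).drop 8).drop 8).drop 8).take 8) = true := by decide +kernel

theorem cl0_15_8 : chkOn A 17 8 1 (((((((((((((((((cl0_l).drop 23).drop 9).drop 10).drop 10).drop 9).drop 9).drop 8).drop 8).drop 8).drop 8).drop 8).drop 8).drop 8).drop 8).drop 8).take 8) = true := by decide +kernel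

theorem cl0_15_9 : chkOn A 17 9 1 (((((((((((((((((cl0_l).drop 23).drop 9).drop 10).drop 10).drop 9).drop 9).drop 8).drop 8).drop 8).drop 8).drop 8).drop 8).drop 8).drop 8).drop 8).take 8) = true := by decide +kernel

theorem cl0_15_10 : chkOn A 17 10 1 (((((((((((((((((cl0_l).drop 23).drop 9).drop 10).drop 10).drop 9).drop 9).drop 8).drop 8).drop 8).drop 8).drop 8).drop 8).drop 8).drop 8).drop 8).take 8) = true := by decide +kernel

theorem cl0_15_11 : chkOn A 17 11 1 (((((((((((((((((cl0_l).drop 23).drop 9).drop 10).drop 10).drop 9).drop 9).drop 8).drop 8).drop 8).drop 8).drop 8).drop 8).drop 8).drop 8).drop 8).take 8) = true := by decide +kernel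

theorem cl0_15_12 : chkOn A 17 12 1 (((((((((((((((((cl0_l).drop 23).drop 9).drop 10).drop 10).drop 9).drop 9).drop 8).drop 8).drop 8).drop 8).drop 8).drop 8).drop 8).drop 8).drop 8).take 8) = true := by decide +kernel

theorem cl0_15_13 : chkOn A 17 13 1 (((((((((((((((((cl0_l).drop 23).drop 9).drop 10).drop 10).drop 9).drop 9).drop 8).drop 8).drop 8).drop 8).drop 8).drop 8).drop 8).drop 8).drop 8).take 8) = true := by decide +kernel

theorem cl0_15_14 : chkOn A 17 14 1 (((((((((((((((((cl0_l).drop 23).drop 9).drop 10).drop 10).drop 9).drop 9).drop 8).drop 8).drop 8).drop 8).drop 8).drop 8).drop 8).drop 8).drop 8).take 8) = true := by decide +kernel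

theorem cl0_15_15 : chkOn A 17 15 1 (((((((((((((((((cl0_l).drop 23).drop 9).drop 10).drop 10).drop 9).drop 9).drop 8).drop 8).drop 8).drop 8).drop 8).drop 8).drop 8).drop 8).drop 8).take 8) = true := by decide +kernel

theorem cl0_15_16 : chkOn A 17 16 1 (((((((((((((((((cl0_l).drop 23).drop 9).drop 10).drop 10).drop 9).drop 9).drop 8).drop 8).drop 8).drop 8).drop 8).drop 8).drop 8).drop 8).drop 8).take 8) = true := by decide +kernel

theorem cl0_16_0 : chkOn A 17 0 1 ((((((((((((((((((cl0_l).drop 23).drop 9).drop 10).drop 10).drop 9).drop 9).drop 8).drop 8).drop 8).drop 8).drop 8).drop 8).drop 8).drop 8).drop 8).drop 8).take 8) = true := by decide +kernel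

theorem cl0_16_1 : chkOn A 17 1 1 ((((((((((((((((((cl0_l).drop 23).drop 9).drop 10).drop 10).drop 9).drop 9).drop 8).drop 8).drop 8).drop 8).drop 8).drop 8).drop 8).drop 8).drop 8).drop 8).take 8) = true := by decide +kernel

theorem cl0_16_2 : chkOn A 17 2 1 ((((((((((((((((((cl0_l).drop 23).drop 9).drop 10).drop 10).drop 9).drop 9).drop 8).drop 8).drop 8).drop 8).drop 8).drop 8).drop 8).drop 8).drop 8).drop 8).take 8) = true := by decide +kernel

theorem cl0_16_3 : chkOn A 17 3 1 ((((((((((((((((((cl0_l).drop 23).drop 9).drop 10).drop 10).drop 9).drop 9).drop 8).drop 8).drop 8).drop 8).drop 8).drop 8).drop 8).drop 8).drop 8).drop 8).take 8) = true := by decide +kernel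

theorem cl0_16_4 : chkOn A 17 4 1 ((((((((((((((((((cl0_l).drop 23).drop 9).drop 10).drop 10).drop 9).drop 9).drop 8).drop 8).drop 8).drop 8).drop 8).drop 8).drop 8).drop 8).drop 8).drop 8).take 8) = true := by decide +kernel

theorem cl0_16_5 : chkOn A 17 5 1 ((((((((((((((((((cl0_l).drop 23).drop 9).drop 10).drop 10).drop 9).drop 9).drop 8).drop 8).drop 8).drop 8).drop 8).drop 8).drop 8).drop 8).drop 8).drop 8).take 8) = true := by decide +kernel

theorem cl0_16_6 : chkOn A 17 6 1 ((((((((((((((((((cl0_l).drop 23).drop 9).drop 10).drop 10).drop 9).drop 9).drop 8).drop 8).drop 8).drop 8).drop 8).drop 8).drop 8).drop 8).drop 8).drop 8).take 8) = true := by decide +kernel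

theorem cl0_16_7 : chkOn A 17 7 1 ((((((((((((((((((cl0_l).drop 23).drop 9).drop 10).drop 10).drop 9).drop 9).drop 8).drop 8).drop 8).drop 8).drop 8).drop 8).drop 8).drop 8).drop 8).drop 8).take 8) = true := by decide +kernel

theorem cl0_16_8 : chkOn A 17 8 1 ((((((((((((((((((cl0_l).drop 23).drop 9).drop 10).drop 10).drop 9).drop 9).drop 8).drop 8).drop 8).drop 8).drop 8).drop 8).drop 8).drop 8).drop 8).drop 8).take 8) = true := by decide +kernel

theorem cl0_16_9 : chkOn A 17 9 1 ((((((((((((((((((cl0_l).drop 23).drop 9).drop 10).drop 10).drop 9).drop 9).drop 8).drop 8).drop 8).drop 8).drop 8).drop 8).drop 8).drop 8).drop 8).drop 8).take 8) = true := by decide +kernel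

theorem cl0_16_10 : chkOn A 17 10 1 ((((((((((((((((((cl0_l).drop 23).drop 9).drop 10).drop 10).drop 9).drop 9).drop 8).drop 8).drop 8).drop 8).drop 8).drop 8).drop 8).drop 8).drop 8).drop 8).take 8) = true := by decide +kernel

theorem cl0_16_11 : chkOn A 17 11 1 ((((((((((((((((((cl0_l).drop 23).drop 9).drop 10).drop 10).drop 9).drop 9).drop 8).drop 8).drop 8).drop 8).drop 8).drop 8).drop 8).drop 8).drop 8).drop 8).take 8) = true := by decide +kernel

theorem cl0_16_12 : chkOn A 17 12 1 ((((((((((((((((((cl0_l).drop 23).drop 9).drop 10).drop 10).drop 9).drop 9).drop 8).drop 8).drop 8).drop 8).drop 8).drop 8).drop 8).drop 8).drop 8).drop 8).take 8) = true := by decide +kernel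

theorem cl0_16_13 : chkOn A 17 13 1 ((((((((((((((((((cl0_l).drop 23).drop 9).drop 10).drop 10).drop 9).drop 9).drop 8).drop 8).drop 8).drop 8).drop 8).drop 8).drop 8).drop 8).drop 8).drop 8).take 8) = true := by decide +kernel

theorem cl0_16_14 : chkOn A 17 14 1 ((((((((((((((((((cl0_l).drop 23).drop 9).drop 10).drop 10).drop 9).drop 9).drop 8).drop 8).drop 8).drop 8).drop 8).drop 8).drop 8).drop 8).drop 8).drop 8).take 8) = true := by decide +kernel

theorem cl0_16_15 : chkOn A 17 15 1 ((((((((((((((((((cl0_l).drop 23).drop 9).drop 10).drop 10).drop 9).drop 9).drop 8).drop 8).drop 8).drop 8).drop 8).drop 8).drop 8).drop 8).drop 8).drop 8).take 8) = true := by decide +kernel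

theorem cl0_16_16 : chkOn A 17 16 1 ((((((((((((((((((cl0_l).drop 23).drop 9).drop 10).drop 10).drop 9).drop 9).drop 8).drop 8).drop 8).drop 8).drop 8).drop 8).drop 8).drop 8).drop 8).drop 8).take 8) = true := by decide +kernel

theorem cl0_17_0 : chkOn A 17 0 1 (((((((((((((((((((cl0_l).drop 23).drop 9).drop 10).drop 10).drop 9).drop 9).drop 8).drop 8).drop 8).drop 8).drop 8).drop 8).drop 8).drop 8).drop 8).drop 8).drop 8).take 9) = true := by decide +kernel

theorem cl0_17_1 : chkOn A 17 1 1 (((((((((((((((((((cl0_l).drop 23).drop 9).drop 10).drop 10).drop 9).drop 9).drop 8).drop 8).drop 8).drop 8).drop 8).drop 8).drop 8).drop 8).drop 8).drop 8).drop 8).take 9) = true := by decide +kernel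

theorem cl0_17_2 : chkOn A 17 2 1 (((((((((((((((((((cl0_l).drop 23).drop 9).drop 10).drop 10).drop 9).drop 9).drop 8).drop 8).drop 8).drop 8).drop 8).drop 8).drop 8).drop 8).drop 8).drop 8).drop 8).take 9) = true := by decide +kernel

theorem cl0_17_3 : chkOn A 17 3 1 (((((((((((((((((((cl0_l).drop 23).drop 9).drop 10).drop 10).drop 9).drop 9).drop 8).drop 8).drop 8).drop 8).drop 8).drop 8).drop 8).drop 8).drop 8).drop 8).drop 8).take 9) = true := by decide +kernel

theorem cl0_17_4 : chkOn A 17 4 1 (((((((((((((((((((cl0_l).drop 23).drop 9).drop 10).drop 10).drop 9).drop 9).drop 8).drop 8).drop 8).drop 8).drop 8).drop 8).drop 8).drop 8).drop 8).drop 8).drop 8).take 9) = true := by decide +kernel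

theorem cl0_17_5 : chkOn A 17 5 1 (((((((((((((((((((cl0_l).drop 23).drop 9).drop 10).drop 10).drop 9).drop 9).drop 8).drop 8).drop 8).drop 8).drop 8).drop 8).drop 8).drop 8).drop 8).drop 8).drop 8).take 9) = true := by decide +kernel

theorem cl0_17_6 : chkOn A 17 6 1 (((((((((((((((((((cl0_l).drop 23).drop 9).drop 10).drop 10).drop 9).drop 9).drop 8).drop 8).drop 8).drop 8).drop 8).drop 8).drop 8).drop 8).drop 8).drop 8).drop 8).take 9) = true := by decide +kernel

theorem cl0_17_7 : chkOn A 17 7 1 (((((((((((((((((((cl0_l).drop 23).drop 9).drop 10).drop 10).drop 9).drop 9).drop 8).drop 8).drop 8).drop 8).drop 8).drop 8).drop 8).drop 8).drop 8).drop 8).drop 8).take 9) = true := by decide +kernel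

theorem cl0_17_8 : chkOn A 17 8 1 (((((((((((((((((((cl0_l).drop 23).drop 9).drop 10).drop 10).drop 9).drop 9).drop 8).drop 8).drop 8).drop 8).drop 8).drop 8).drop 8).drop 8).drop 8).drop 8).drop 8).take 9) = true := by decide +kernel

theorem cl0_17_9 : chkOn A 17 9 1 (((((((((((((((((((cl0_l).drop 23).drop 9).drop 10).drop 10).drop 9).drop 9).drop 8).drop 8).drop 8).drop 8).drop 8).drop 8).drop 8).drop 8).drop 8).drop 8).drop 8).take 9) = true := by decide +kernel

theorem cl0_17_10 : chkOn A 17 10 1 (((((((((((((((((((cl0_l).drop 23).drop 9).drop 10).drop 10).drop 9).drop 9).drop 8).drop 8).drop 8).drop 8).drop 8).drop 8).drop 8).drop 8).drop 8).drop 8).drop 8).take 9) = true := by decide +kernel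

theorem cl0_17_11 : chkOn A 17 11 1 (((((((((((((((((((cl0_l).drop 23).drop 9).drop 10).drop 10).drop 9).drop 9).drop 8).drop 8).drop 8).drop 8).drop 8).drop 8).drop 8).drop 8).drop 8).drop 8).drop 8).take 9) = true := by decide +kernel

theorem cl0_17_12 : chkOn A 17 12 1 (((((((((((((((((((cl0_l).drop 23).drop 9).drop 10).drop 10).drop 9).drop 9).drop 8).drop 8).drop 8).drop 8).drop 8).drop 8).drop 8).drop 8).drop 8).drop 8).drop 8).take 9) = true := by decide +kernel

theorem cl0_17_13 : chkOn A 17 13 1 (((((((((((((((((((cl0_l).drop 23).drop 9).drop 10).drop 10).drop 9).drop 9).drop 8).drop 8).drop 8).drop 8).drop 8).drop 8).drop 8).drop 8).drop 8).drop 8).drop 8).take 9) = true := by decide +kernel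

theorem cl0_17_14 : chkOn A 17 14 1 (((((((((((((((((((cl0_l).drop 23).drop 9).drop 10).drop 10).drop 9).drop 9).drop 8).drop 8).drop 8).drop 8).drop 8).drop 8).drop 8).drop 8).drop 8).drop 8).drop 8).take 9) = true := by decide +kernel

theorem cl0_17_15 : chkOn A 17 15 1 (((((((((((((((((((cl0_l).drop 23).drop 9).drop 10).drop 10).drop 9).drop 9).drop 8).drop 8).drop 8).drop 8).drop 8).drop 8).drop 8).drop 8).drop 8).drop 8).drop 8).take 9) = true := by decide +kernel

theorem cl0_17_16 : chkOn A 17 16 1 (((((((((((((((((((cl0_l).drop 23).drop 9).drop 10).drop 10).drop 9).drop 9).drop 8).drop 8).drop 8).drop 8).drop 8).drop 8).drop 8).drop 8).drop 8).drop 8).drop 8).take 9) = true := by decide +kernel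

theorem cl0_18_0 : chkOn A 17 0 1 ((((((((((((((((((((cl0_l).drop 23).drop 9).drop 10).drop 10).drop 9).drop 9).drop 8).drop 8).drop 8).drop 8).drop 8).drop 8).drop 8).drop 8).drop 8).drop 8).drop 8).drop 9).take 8) = true := by decide +kernel

theorem cl0_18_1 : chkOn A 17 1 1 ((((((((((((((((((((cl0_l).drop 23).drop 9).drop 10).drop 10).drop 9).drop 9).drop 8).drop 8).drop 8).drop 8).drop 8).drop 8).drop 8).drop 8).drop 8).drop 8).drop 8).drop 9).take 8) = true := by decide +kernel

theorem cl0_18_2 : chkOn A 17 2 1 ((((((((((((((((((((cl0_l).drop 23).drop 9).drop 10).drop 10).drop 9).drop 9).drop 8).drop 8).drop 8).drop 8).drop 8).drop 8).drop 8).drop 8).drop 8).drop 8).drop 8).drop 9).take 8) = true := by decide +kernel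

theorem cl0_18_3 : chkOn A 17 3 1 ((((((((((((((((((((cl0_l).drop 23).drop 9).drop 10).drop 10).drop 9).drop 9).drop 8).drop 8).drop 8).drop 8).drop 8).drop 8).drop 8).drop 8).drop 8).drop 8).drop 8).drop 9).take 8) = true := by decide +kernel

theorem cl0_18_4 : chkOn A 17 4 1 ((((((((((((((((((((cl0_l).drop 23).drop 9).drop 10).drop 10).drop 9).drop 9).drop 8).drop 8).drop 8).drop 8).drop 8).drop 8).drop 8).drop 8).drop 8).drop 8).drop 8).drop 9).take 8) = true := by decide +kernel

theorem cl0_18_5 : chkOn A 17 5 1 ((((((((((((((((((((cl0_l).drop 23).drop 9).drop 10).drop 10).drop 9).drop 9).drop 8).drop 8).drop 8).drop 8).drop 8).drop 8).drop 8).drop 8).drop 8).drop 8).drop 8).drop 9).take 8) = true := by decide +kernel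

theorem cl0_18_6 : chkOn A 17 6 1 ((((((((((((((((((((cl0_l).drop 23).drop 9).drop 10).drop 10).drop 9).drop 9).drop 8).drop 8).drop 8).drop 8).drop 8).drop 8).drop 8).drop 8).drop 8).drop 8).drop 8).drop 9).take 8) = true := by decide +kernel

theorem cl0_18_7 : chkOn A 17 7 1 ((((((((((((((((((((cl0_l).drop 23).drop 9).drop 10).drop 10).drop 9).drop 9).drop 8).drop 8).drop 8).drop 8).drop 8).drop 8).drop 8).drop 8).drop 8).drop 8).drop 8).drop 9).take 8) = true := by decide +kernel

theorem cl0_18_8 : chkOn A 17 8 1 ((((((((((((((((((((cl0_l).drop 23).drop 9).drop 10).drop 10).drop 9).drop 9).drop 8).drop 8).drop 8).drop 8).drop 8).drop 8).drop 8).drop 8).drop 8).drop 8).drop 8).drop 9).take 8) = true := by decide +kernel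

theorem cl0_18_9 : chkOn A 17 9 1 ((((((((((((((((((((cl0_l).drop 23).drop 9).drop 10).drop 10).drop 9).drop 9).drop 8).drop 8).drop 8).drop 8).drop 8).drop 8).drop 8).drop 8).drop 8).drop 8).drop 8).drop 9).take 8) = true := by decide +kernel

theorem cl0_18_10 : chkOn A 17 10 1 ((((((((((((((((((((cl0_l).drop 23).drop 9).drop 10).drop 10).drop 9).drop 9).drop 8).drop 8).drop 8).drop 8).drop 8).drop 8).drop 8).drop 8).drop 8).drop 8).drop 8).drop 9).take 8) = true := by decide +kernel

theorem cl0_18_11 : chkOn A 17 11 1 ((((((((((((((((((((cl0_l).drop 23).drop 9).drop 10).drop 10).drop 9).drop 9).drop 8).drop 8).drop 8).drop 8).drop 8).drop 8).drop 8).drop 8).drop 8).drop 8).drop 8).drop 9).take 8) = true := by decide +kernel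


end Cfsg.Agent.Spor.ON
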