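import Cfsg.Agent.Lib.Spor.ON.Defs

set_option autoImplicit false
set_option maxRecDepth 100000
set_option Elab.async false
set_option exponentiation.threshold 100000

namespace Cfsg.Agent.Spor.ON
open Cfsg.Agent.PG

theorem cl0_18_12 : chkOn A 17 12 1 ((((((((((((((((((((cl0_l).drop 23).drop 9).drop 10).drop 10).drop 9).drop 9).drop 8).drop 8).drop 8).drop 8).drop 8).drop 8).drop 8).drop 8).drop 8).drop 8).drop 8).drop 9).take 8) = true := by decide +kernel

theorem cl0_18_13 : chkOn A 17 13 1 ((((((((((((((((((((cl0_l).drop 23).drop 9).drop 10).drop 10).drop 9).drop 9).drop 8).drop 8).drop 8).drop 8).drop 8).drop 8).drop 8).drop 8).drop 8).drop 8).drop 8).drop 9).take 8) = true := by decide +kernel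

theorem cl0_18_14 : chkOn A 17 14 1 ((((((((((((((((((((cl0_l).drop 23).drop 9).drop 10).drop 10).drop 9).drop 9).drop 8).drop 8).drop 8).drop 8).drop 8).drop 8).drop 8).drop 8).drop 8).drop 8).drop 8).drop 9).take 8) = true := by decide +kernel

theorem cl0_18_15 : chkOn A 17 15 1 ((((((((((((((((((((cl0_l).drop 23).drop 9).drop 10).drop 10).drop 9).drop 9).drop 8).drop 8).drop 8).drop 8).drop 8).drop 8).drop 8).drop 8).drop 8).drop 8).drop 8).drop 9).take 8) = true := by decide +kernel

theorem cl0_18_16 : chkOn A 17 16 1 ((((((((((((((((((((cl0_l).drop 23).drop 9).drop 10).drop 10).drop 9).drop 9).drop 8).drop 8).drop 8).drop 8).drop 8).drop 8).drop 8).drop 8).drop 8).drop 8).drop 8).drop 9).take 8) = true := by decide +kernel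

theorem cl0_19_0 : chkOn A 17 0 1 (((((((((((((((((((((cl0_l).drop 23).drop 9).drop 10).drop 10).drop 9).drop 9).drop 8).drop 8).drop 8).drop 8).drop 8).drop 8).drop 8).drop 8).drop 8).drop 8).drop 8).drop 9).drop 8).take 8) = true := by decide +kernel

theorem cl0_19_1 : chkOn A 17 1 1 (((((((((((((((((((((cl0_l).drop 23).drop 9).drop 10).drop 10).drop 9).drop 9).drop 8).drop 8).drop 8).drop 8).drop 8).drop 8).drop 8).drop 8).drop 8).drop 8).drop 8).drop 9).drop 8).take 8) = true := by decide +kernel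

theorem cl0_19_2 : chkOn A 17 2 1 (((((((((((((((((((((cl0_l).drop 23).drop 9).drop 10).drop 10).drop 9).drop 9).drop 8).drop 8).drop 8).drop 8).drop 8).drop 8).drop 8).drop 8).drop 8).drop 8).drop 8).drop 9).drop 8).take 8) = true := by decide +kernel

theorem cl0_19_3 : chkOn A 17 3 1 (((((((((((((((((((((cl0_l).drop 23).drop 9).drop 10).drop 10).drop 9).drop 9).drop 8).drop 8).drop 8).drop 8).drop 8).drop 8).drop 8).drop 8).drop 8).drop 8).drop 8).drop 9).drop 8).take 8) = true := by decide +kernel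

theorem cl0_19_4 : chkOn A 17 4 1 (((((((((((((((((((((cl0_l).drop 23).drop 9).drop 10).drop 10).drop 9).drop 9).drop 8).drop 8).drop 8).drop 8).drop 8).drop 8).drop 8).drop 8).drop 8).drop 8).drop 8).drop 9).drop 8).take 8) = true := by decide +kernel

theorem cl0_19_5 : chkOn A 17 5 1 (((((((((((((((((((((cl0_l).drop 23).drop 9).drop 10).drop 10).drop 9).drop 9).drop 8).drop 8).drop 8).drop 8).drop 8).drop 8).drop 8).drop 8).drop 8).drop 8).drop 8).drop 9).drop 8).take 8) = true := by decide +kernel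

theorem cl0_19_6 : chkOn A 17 6 1 (((((((((((((((((((((cl0_l).drop 23).drop 9).drop 10).drop 10).drop 9).drop 9).drop 8).drop 8).drop 8).drop 8).drop 8).drop 8).drop 8).drop 8).drop 8).drop 8).drop 8).drop 9).drop 8).take 8) = true := by decide +kernel

theorem cl0_19_7 : chkOn A 17 7 1 (((((((((((((((((((((cl0_l).drop 23).drop 9).drop 10).drop 10).drop 9).drop 9).drop 8).drop 8).drop 8).drop 8).drop 8).drop 8).drop 8).drop 8).drop 8).drop 8).drop 8).drop 9).drop 8).take 8) = true := by decide +kernel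

theorem cl0_19_8 : chkOn A 17 8 1 (((((((((((((((((((((cl0_l).drop 23).drop 9).drop 10).drop 10).drop 9).drop 9).drop 8).drop 8).drop 8).drop 8).drop 8).drop 8).drop 8).drop 8).drop 8).drop 8).drop 8).drop 9).drop 8).take 8) = true := by decide +kernel

theorem cl0_19_9 : chkOn A 17 9 1 (((((((((((((((((((((cl0_l).drop 23).drop 9).drop 10).drop 10).drop 9).drop 9).drop 8).drop 8).drop 8).drop 8).drop 8).drop 8).drop 8).drop 8).drop 8).drop 8).drop 8).drop 9).drop 8).take 8) = true := by decide +kernel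

theorem cl0_19_10 : chkOn A 17 10 1 (((((((((((((((((((((cl0_l).drop 23).drop 9).drop 10).drop 10).drop 9).drop 9).drop 8).drop 8).drop 8).drop 8).drop 8).drop 8).drop 8).drop 8).drop 8).drop 8).drop 8).drop 9).drop 8).take 8) = true := by decide +kernel

theorem cl0_19_11 : chkOn A 17 11 1 (((((((((((((((((((((cl0_l).drop 23).drop 9).drop 10).drop 10).drop 9).drop 9).drop 8).drop 8).drop 8).drop 8).drop 8).drop 8).drop 8).drop 8).drop 8).drop 8).drop 8).drop 9).drop 8).take 8) = true := by decide +kernel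

theorem cl0_19_12 : chkOn A 17 12 1 (((((((((((((((((((((cl0_l).drop 23).drop 9).drop 10).drop 10).drop 9).drop 9).drop 8).drop 8).drop 8).drop 8).drop 8).drop 8).drop 8).drop 8).drop 8).drop 8).drop 8).drop 9).drop 8).take 8) = true := by decide +kernel

theorem cl0_19_13 : chkOn A 17 13 1 (((((((((((((((((((((cl0_l).drop 23).drop 9).drop 10).drop 10).drop 9).drop 9).drop 8).drop 8).drop 8).drop 8).drop 8).drop 8).drop 8).drop 8).drop 8).drop 8).drop 8).drop 9).drop 8).take 8) = true := by decide +kernel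

theorem cl0_19_14 : chkOn A 17 14 1 (((((((((((((((((((((cl0_l).drop 23).drop 9).drop 10).drop 10).drop 9).drop 9).drop 8).drop 8).drop 8).drop 8).drop 8).drop 8).drop 8).drop 8).drop 8).drop 8).drop 8).drop 9).drop 8).take 8) = true := by decide +kernel

theorem cl0_19_15 : chkOn A 17 15 1 (((((((((((((((((((((cl0_l).drop 23).drop 9).drop 10).drop 10).drop 9).drop 9).drop 8).drop 8).drop 8).drop 8).drop 8).drop 8).drop 8).drop 8).drop 8).drop 8).drop 8).drop 9).drop 8).take 8) = true := by decide +kernel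

theorem cl0_19_16 : chkOn A 17 16 1 (((((((((((((((((((((cl0_l).drop 23).drop 9).drop 10).drop 10).drop 9).drop 9).drop 8).drop 8).drop 8).drop 8).drop 8).drop 8).drop 8).drop 8).drop 8).drop 8).drop 8).drop 9).drop 8).take 8) = true := by decide +kernel

theorem cl0_20_0 : chkOn A 17 0 1 ((((((((((((((((((((((cl0_l).drop 23).drop 9).drop 10).drop 10).drop 9).drop 9).drop 8).drop 8).drop 8).drop 8).drop 8).drop 8).drop 8).drop 8).drop 8).drop 8).drop 8).drop 9).drop 8).drop 8).take 8) = true := by decide +kernel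

theorem cl0_20_1 : chkOn A 17 1 1 ((((((((((((((((((((((cl0_l).drop 23).drop 9).drop 10).drop 10).drop 9).drop 9).drop 8).drop 8).drop 8).drop 8).drop 8).drop 8).drop 8).drop 8).drop 8).drop 8).drop 8).drop 9).drop 8).drop 8).take 8) = true := by decide +kernel

theorem cl0_20_2 : chkOn A 17 2 1 ((((((((((((((((((((((cl0_l).drop 23).drop 9).drop 10).drop 10).drop 9).drop 9).drop 8).drop 8).drop 8).drop 8).drop 8).drop 8).drop 8).drop 8).drop 8).drop 8).drop 8).drop 9).drop 8).drop 8).take 8) = true := by decide +kernel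

theorem cl0_20_3 : chkOn A 17 3 1 ((((((((((((((((((((((cl0_l).drop 23).drop 9).drop 10).drop 10).drop 9).drop 9).drop 8).drop 8).drop 8).drop 8).drop 8).drop 8).drop 8).drop 8).drop 8).drop 8).drop 8).drop 9).drop 8).drop 8).take 8) = true := by decide +kernel

theorem cl0_20_4 : chkOn A 17 4 1 ((((((((((((((((((((((cl0_l).drop 23).drop 9).drop 10).drop 10).drop 9).drop 9).drop 8).drop 8).drop 8).drop 8).drop 8).drop 8).drop 8).drop 8).drop 8).drop 8).drop 8).drop 9).drop 8).drop 8).take 8) = true := by decide +kernel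

theorem cl0_20_5 : chkOn A 17 5 1 ((((((((((((((((((((((cl0_l).drop 23).drop 9).drop 10).drop 10).drop 9).drop 9).drop 8).drop 8).drop 8).drop 8).drop 8).drop 8).drop 8).drop 8).drop 8).drop 8).drop 8).drop 9).drop 8).drop 8).take 8) = true := by decide +kernel

theorem cl0_20_6 : chkOn A 17 6 1 ((((((((((((((((((((((cl0_l).drop 23).drop 9).drop 10).drop 10).drop 9).drop 9).drop 8).drop 8).drop 8).drop 8).drop 8).drop 8).drop 8).drop 8).drop 8).drop 8).drop 8).drop 9).drop 8).drop 8).take 8) = true := by decide +kernel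

theorem cl0_20_7 : chkOn A 17 7 1 ((((((((((((((((((((((cl0_l).drop 23).drop 9).drop 10).drop 10).drop 9).drop 9).drop 8).drop 8).drop 8).drop 8).drop 8).drop 8).drop 8).drop 8).drop 8).drop 8).drop 8).drop 9).drop 8).drop 8).take 8) = true := by decide +kernel

theorem cl0_20_8 : chkOn A 17 8 1 ((((((((((((((((((((((cl0_l).drop 23).drop 9).drop 10).drop 10).drop 9).drop 9).drop 8).drop 8).drop 8).drop 8).drop 8).drop 8).drop 8).drop 8).drop 8).drop 8).drop 8).drop 9).drop 8).drop 8).take 8) = true := by decide +kernel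

theorem cl0_20_9 : chkOn A 17 9 1 ((((((((((((((((((((((cl0_l).drop 23).drop 9).drop 10).drop 10).drop 9).drop 9).drop 8).drop 8).drop 8).drop 8).drop 8).drop 8).drop 8).drop 8).drop 8).drop 8).drop 8).drop 9).drop 8).drop 8).take 8) = true := by decide +kernel

theorem cl0_20_10 : chkOn A 17 10 1 ((((((((((((((((((((((cl0_l).drop 23).drop 9).drop 10).drop 10).drop 9).drop 9).drop 8).drop 8).drop 8).drop 8).drop 8).drop 8).drop 8).drop 8).drop 8).drop 8).drop 8).drop 9).drop 8).drop 8).take 8) = true := by decide +kernel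

theorem cl0_20_11 : chkOn A 17 11 1 ((((((((((((((((((((((cl0_l).drop 23).drop 9).drop 10).drop 10).drop 9).drop 9).drop 8).drop 8).drop 8).drop 8).drop 8).drop 8).drop 8).drop 8).drop 8).drop 8).drop 8).drop 9).drop 8).drop 8).take 8) = true := by decide +kernel

theorem cl0_20_12 : chkOn A 17 12 1 ((((((((((((((((((((((cl0_l).drop 23).drop 9).drop 10).drop 10).drop 9).drop 9).drop 8).drop 8).drop 8).drop 8).drop 8).drop 8).drop 8).drop 8).drop 8).drop 8).drop 8).drop 9).drop 8).drop 8).take 8) = true := by decide +kernel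

theorem cl0_20_13 : chkOn A 17 13 1 ((((((((((((((((((((((cl0_l).drop 23).drop 9).drop 10).drop 10).drop 9).drop 9).drop 8).drop 8).drop 8).drop 8).drop 8).drop 8).drop 8).drop 8).drop 8).drop 8).drop 8).drop 9).drop 8).drop 8).take 8) = true := by decide +kernel

theorem cl0_20_14 : chkOn A 17 14 1 ((((((((((((((((((((((cl0_l).drop 23).drop 9).drop 10).drop 10).drop 9).drop 9).drop 8).drop 8).drop 8).drop 8).drop 8).drop 8).drop 8).drop 8).drop 8).drop 8).drop 8).drop 9).drop 8).drop 8).take 8) = true := by decide +kernel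

theorem cl0_20_15 : chkOn A 17 15 1 ((((((((((((((((((((((cl0_l).drop 23).drop 9).drop 10).drop 10).drop 9).drop 9).drop 8).drop 8).drop 8).drop 8).drop 8).drop 8).drop 8).drop 8).drop 8).drop 8).drop 8).drop 9).drop 8).drop 8).take 8) = true := by decide +kernel

theorem cl0_20_16 : chkOn A 17 16 1 ((((((((((((((((((((((cl0_l).drop 23).drop 9).drop 10).drop 10).drop 9).drop 9).drop 8).drop 8).drop 8).drop 8).drop 8).drop 8).drop 8).drop 8).drop 8).drop 8).drop 8).drop 9).drop 8).drop 8).take 8) = true := by decide +kernel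

theorem cl0_21_0 : chkOn A 17 0 1 (((((((((((((((((((((((cl0_l).drop 23).drop 9).drop 10).drop 10).drop 9).drop 9).drop 8).drop 8).drop 8).drop 8).drop 8).drop 8).drop 8).drop 8).drop 8).drop 8).drop 8).drop 9).drop 8).drop 8).drop 8).take 8) = true := by decide +kernel

theorem cl0_21_1 : chkOn A 17 1 1 (((((((((((((((((((((((cl0_l).drop 23).drop 9).drop 10).drop 10).drop 9).drop 9).drop 8).drop 8).drop 8).drop 8).drop 8).drop 8).drop 8).drop 8).drop 8).drop 8).drop 8).drop 9).drop 8).drop 8).drop 8).take 8) = true := by decide +kernel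

theorem cl0_21_2 : chkOn A 17 2 1 (((((((((((((((((((((((cl0_l).drop 23).drop 9).drop 10).drop 10).drop 9).drop 9).drop 8).drop 8).drop 8).drop 8).drop 8).drop 8).drop 8).drop 8).drop 8).drop 8).drop 8).drop 9).drop 8).drop 8).drop 8).take 8) = true := by decide +kernel

theorem cl0_21_3 : chkOn A 17 3 1 (((((((((((((((((((((((cl0_l).drop 23).drop 9).drop 10).drop 10).drop 9).drop 9).drop 8).drop 8).drop 8).drop 8).drop 8).drop 8).drop 8).drop 8).drop 8).drop 8).drop 8).drop 9).drop 8).drop 8).drop 8).take 8) = true := by decide +kernel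

theorem cl0_21_4 : chkOn A 17 4 1 (((((((((((((((((((((((cl0_l).drop 23).drop 9).drop 10).drop 10).drop 9).drop 9).drop 8).drop 8).drop 8).drop 8).drop 8).drop 8).drop 8).drop 8).drop 8).drop 8).drop 8).drop 9).drop 8).drop 8).drop 8).take 8) = true := by decide +kernel

theorem cl0_21_5 : chkOn A 17 5 1 (((((((((((((((((((((((cl0_l).drop 23).drop 9).drop 10).drop 10).drop 9).drop 9).drop 8).drop 8).drop 8).drop 8).drop 8).drop 8).drop 8).drop 8).drop 8).drop 8).drop 8).drop 9).drop 8).drop 8).drop 8).take 8) = true := by decide +kernel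

theorem cl0_21_6 : chkOn A 17 6 1 (((((((((((((((((((((((cl0_l).drop 23).drop 9).drop 10).drop 10).drop 9).drop 9).drop 8).drop 8).drop 8).drop 8).drop 8).drop 8).drop 8).drop 8).drop 8).drop 8).drop 8).drop 9).drop 8).drop 8).drop 8).take 8) = true := by decide +kernel

theorem cl0_21_7 : chkOn A 17 7 1 (((((((((((((((((((((((cl0_l).drop 23).drop 9).drop 10).drop 10).drop 9).drop 9).drop 8).drop 8).drop 8).drop 8).drop 8).drop 8).drop 8).drop 8).drop 8).drop 8).drop 8).drop 9).drop 8).drop 8).drop 8).take 8) = true := by decide +kernel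

theorem cl0_21_8 : chkOn A 17 8 1 (((((((((((((((((((((((cl0_l).drop 23).drop 9).drop 10).drop 10).drop 9).drop 9).drop 8).drop 8).drop 8).drop 8).drop 8).drop 8).drop 8).drop 8).drop 8).drop 8).drop 8).drop 9).drop 8).drop 8).drop 8).take 8) = true := by decide +kernel

theorem cl0_21_9 : chkOn A 17 9 1 (((((((((((((((((((((((cl0_l).drop 23).drop 9).drop 10).drop 10).drop 9).drop 9).drop 8).drop 8).drop 8).drop 8).drop 8).drop 8).drop 8).drop 8).drop 8).drop 8).drop 8).drop 9).drop 8).drop 8).drop 8).take 8) = true := by decide +kernel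

theorem cl0_21_10 : chkOn A 17 10 1 (((((((((((((((((((((((cl0_l).drop 23).drop 9).drop 10).drop 10).drop 9).drop 9).drop 8).drop 8).drop 8).drop 8).drop 8).drop 8).drop 8).drop 8).drop 8).drop 8).drop 8).drop 9).drop 8).drop 8).drop 8).take 8) = true := by decide +kernel

theorem cl0_21_11 : chkOn A 17 11 1 (((((((((((((((((((((((cl0_l).drop 23).drop 9).drop 10).drop 10).drop 9).drop 9).drop 8).drop 8).drop 8).drop 8).drop 8).drop 8).drop 8).drop 8).drop 8).drop 8).drop 8).drop 9).drop 8).drop 8).drop 8).take 8) = true := by decide +kernel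

theorem cl0_21_12 : chkOn A 17 12 1 (((((((((((((((((((((((cl0_l).drop 23).drop 9).drop 10).drop 10).drop 9).drop 9).drop 8).drop 8).drop 8).drop 8).drop 8).drop 8).drop 8).drop 8).drop 8).drop 8).drop 8).drop 9).drop 8).drop 8).drop 8).take 8) = true := by decide +kernel

theorem cl0_21_13 : chkOn A 17 13 1 (((((((((((((((((((((((cl0_l).drop 23).drop 9).drop 10).drop 10).drop 9).drop 9).drop 8).drop 8).drop 8).drop 8).drop 8).drop 8).drop 8).drop 8).drop 8).drop 8).drop 8).drop 9).drop 8).drop 8).drop 8).take 8) = true := by decide +kernel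

theorem cl0_21_14 : chkOn A 17 14 1 (((((((((((((((((((((((cl0_l).drop 23).drop 9).drop 10).drop 10).drop 9).drop 9).drop 8).drop 8).drop 8).drop 8).drop 8).drop 8).drop 8).drop 8).drop 8).drop 8).drop 8).drop 9).drop 8).drop 8).drop 8).take 8) = true := by decide +kernel

theorem cl0_21_15 : chkOn A 17 15 1 (((((((((((((((((((((((cl0_l).drop 23).drop 9).drop 10).drop 10).drop 9).drop 9).drop 8).drop 8).drop 8).drop 8).drop 8).drop 8).drop 8).drop 8).drop 8).drop 8).drop 8).drop 9).drop 8).drop 8).drop 8).take 8) = true := by decide +kernel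

theorem cl0_21_16 : chkOn A 17 16 1 (((((((((((((((((((((((cl0_l).drop 23).drop 9).drop 10).drop 10).drop 9).drop 9).drop 8).drop 8).drop 8).drop 8).drop 8).drop 8).drop 8).drop 8).drop 8).drop 8).drop 8).drop 9).drop 8).drop 8).drop 8).take 8) = true := by decide +kernel

theorem cl0_22_0 : chkOn A 17 0 1 ((((((((((((((((((((((((cl0_l).drop 23).drop 9).drop 10).drop 10).drop 9).drop 9).drop 8).drop 8).drop 8).drop 8).drop 8).drop 8).drop 8).drop 8).drop 8).drop 8).drop 8).drop 9).drop 8).drop 8).drop 8).drop 8).take 8) = true := by decide +kernel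

theorem cl0_22_1 : chkOn A 17 1 1 ((((((((((((((((((((((((cl0_l).drop 23).drop 9).drop 10).drop 10).drop 9).drop 9).drop 8).drop 8).drop 8).drop 8).drop 8).drop 8).drop 8).drop 8).drop 8).drop 8).drop 8).drop 9).drop 8).drop 8).drop 8).drop 8).take 8) = true := by decide +kernel

theorem cl0_22_2 : chkOn A 17 2 1 ((((((((((((((((((((((((cl0_l).drop 23).drop 9).drop 10).drop 10).drop 9).drop 9).drop 8).drop 8).drop 8).drop 8).drop 8).drop 8).drop 8).drop 8).drop 8).drop 8).drop 8).drop 9).drop 8).drop 8).drop 8).drop 8).take 8) = true := by decide +kernel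

theorem cl0_22_3 : chkOn A 17 3 1 ((((((((((((((((((((((((cl0_l).drop 23).drop 9).drop 10).drop 10).drop 9).drop 9).drop 8).drop 8).drop 8).drop 8).drop 8).drop 8).drop 8).drop 8).drop 8).drop 8).drop 8).drop 9).drop 8).drop 8).drop 8).drop 8).take 8) = true := by decide +kernel

theorem cl0_22_4 : chkOn A 17 4 1 ((((((((((((((((((((((((cl0_l).drop 23).drop 9).drop 10).drop 10).drop 9).drop 9).drop 8).drop 8).drop 8).drop 8).drop 8).drop 8).drop 8).drop 8).drop 8).drop 8).drop 8).drop 9).drop 8).drop 8).drop 8).drop 8).take 8) = true := by decide +kernel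


end Cfsg.Agent.Spor.ON
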