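import Cfsg.Agent.Lib.Spor.ON.Defs

set_option autoImplicit false
set_option maxRecDepth 100000
set_option Elab.async false
set_option exponentiation.threshold 100000

namespace Cfsg.Agent.Spor.ON
open Cfsg.Agent.PG

theorem cl0_22_5 : chkOn A 17 5 1 ((((((((((((((((((((((((cl0_l).drop 23).drop 9).drop 10).drop 10).drop 9).drop 9).drop 8).drop 8).drop 8).drop 8).drop 8).drop 8).drop 8).drop 8).drop 8).drop 8).drop 8).drop 9).drop 8).drop 8).drop 8).drop 8).take 8) = true := by decide +kernel

theorem cl0_22_6 : chkOn A 17 6 1 ((((((((((((((((((((((((cl0_l).drop 23).drop 9).drop 10).drop 10).drop 9).drop 9).drop 8).drop 8).drop 8).drop 8).drop 8).drop 8).drop 8).drop 8).drop 8).drop 8).drop 8).drop 9).drop 8).drop 8).drop 8).drop 8).take 8) = true := by decide +kernel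

theorem cl0_22_7 : chkOn A 17 7 1 ((((((((((((((((((((((((cl0_l).drop 23).drop 9).drop 10).drop 10).drop 9).drop 9).drop 8).drop 8).drop 8).drop 8).drop 8).drop 8).drop 8).drop 8).drop 8).drop 8).drop 8).drop 9).drop 8).drop 8).drop 8).drop 8).take 8) = true := by decide +kernel

theorem cl0_22_8 : chkOn A 17 8 1 ((((((((((((((((((((((((cl0_l).drop 23).drop 9).drop 10).drop 10).drop 9).drop 9).drop 8).drop 8).drop 8).drop 8).drop 8).drop 8).drop 8).drop 8).drop 8).drop 8).drop 8).drop 9).drop 8).drop 8).drop 8).drop 8).take 8) = true := by decide +kernel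

theorem cl0_22_9 : chkOn A 17 9 1 ((((((((((((((((((((((((cl0_l).drop 23).drop 9).drop 10).drop 10).drop 9).drop 9).drop 8).drop 8).drop 8).drop 8).drop 8).drop 8).drop 8).drop 8).drop 8).drop 8).drop 8).drop 9).drop 8).drop 8).drop 8).drop 8).take 8) = true := by decide +kernel

theorem cl0_22_10 : chkOn A 17 10 1 ((((((((((((((((((((((((cl0_l).drop 23).drop 9).drop 10).drop 10).drop 9).drop 9).drop 8).drop 8).drop 8).drop 8).drop 8).drop 8).drop 8).drop 8).drop 8).drop 8).drop 8).drop 9).drop 8).drop 8).drop 8).drop 8).take 8) = true := by decide +kernel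

theorem cl0_22_11 : chkOn A 17 11 1 ((((((((((((((((((((((((cl0_l).drop 23).drop 9).drop 10).drop 10).drop 9).drop 9).drop 8).drop 8).drop 8).drop 8).drop 8).drop 8).drop 8).drop 8).drop 8).drop 8).drop 8).drop 9).drop 8).drop 8).drop 8).drop 8).take 8) = true := by decide +kernel

theorem cl0_22_12 : chkOn A 17 12 1 ((((((((((((((((((((((((cl0_l).drop 23).drop 9).drop 10).drop 10).drop 9).drop 9).drop 8).drop 8).drop 8).drop 8).drop 8).drop 8).drop 8).drop 8).drop 8).drop 8).drop 8).drop 9).drop 8).drop 8).drop 8).drop 8).take 8) = true := by decide +kernel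

theorem cl0_22_13 : chkOn A 17 13 1 ((((((((((((((((((((((((cl0_l).drop 23).drop 9).drop 10).drop 10).drop 9).drop 9).drop 8).drop 8).drop 8).drop 8).drop 8).drop 8).drop 8).drop 8).drop 8).drop 8).drop 8).drop 9).drop 8).drop 8).drop 8).drop 8).take 8) = true := by decide +kernel

theorem cl0_22_14 : chkOn A 17 14 1 ((((((((((((((((((((((((cl0_l).drop 23).drop 9).drop 10).drop 10).drop 9).drop 9).drop 8).drop 8).drop 8).drop 8).drop 8).drop 8).drop 8).drop 8).drop 8).drop 8).drop 8).drop 9).drop 8).drop 8).drop 8).drop 8).take 8) = true := by decide +kernel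

theorem cl0_22_15 : chkOn A 17 15 1 ((((((((((((((((((((((((cl0_l).drop 23).drop 9).drop 10).drop 10).drop 9).drop 9).drop 8).drop 8).drop 8).drop 8).drop 8).drop 8).drop 8).drop 8).drop 8).drop 8).drop 8).drop 9).drop 8).drop 8).drop 8).drop 8).take 8) = true := by decide +kernel

theorem cl0_22_16 : chkOn A 17 16 1 ((((((((((((((((((((((((cl0_l).drop 23).drop 9).drop 10).drop 10).drop 9).drop 9).drop 8).drop 8).drop 8).drop 8).drop 8).drop 8).drop 8).drop 8).drop 8).drop 8).drop 8).drop 9).drop 8).drop 8).drop 8).drop 8).take 8) = true := by decide +kernel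

theorem cl0_23_0 : chkOn A 17 0 1 (((((((((((((((((((((((((cl0_l).drop 23).drop 9).drop 10).drop 10).drop 9).drop 9).drop 8).drop 8).drop 8).drop 8).drop 8).drop 8).drop 8).drop 8).drop 8).drop 8).drop 8).drop 9).drop 8).drop 8).drop 8).drop 8).drop 8).take 8) = true := by decide +kernel

theorem cl0_23_1 : chkOn A 17 1 1 (((((((((((((((((((((((((cl0_l).drop 23).drop 9).drop 10).drop 10).drop 9).drop 9).drop 8).drop 8).drop 8).drop 8).drop 8).drop 8).drop 8).drop 8).drop 8).drop 8).drop 8).drop 9).drop 8).drop 8).drop 8).drop 8).drop 8).take 8) = true := by decide +kernel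

theorem cl0_23_2 : chkOn A 17 2 1 (((((((((((((((((((((((((cl0_l).drop 23).drop 9).drop 10).drop 10).drop 9).drop 9).drop 8).drop 8).drop 8).drop 8).drop 8).drop 8).drop 8).drop 8).drop 8).drop 8).drop 8).drop 9).drop 8).drop 8).drop 8).drop 8).drop 8).take 8) = true := by decide +kernel

theorem cl0_23_3 : chkOn A 17 3 1 (((((((((((((((((((((((((cl0_l).drop 23).drop 9).drop 10).drop 10).drop 9).drop 9).drop 8).drop 8).drop 8).drop 8).drop 8).drop 8).drop 8).drop 8).drop 8).drop 8).drop 8).drop 9).drop 8).drop 8).drop 8).drop 8).drop 8).take 8) = true := by decide +kernel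

theorem cl0_23_4 : chkOn A 17 4 1 (((((((((((((((((((((((((cl0_l).drop 23).drop 9).drop 10).drop 10).drop 9).drop 9).drop 8).drop 8).drop 8).drop 8).drop 8).drop 8).drop 8).drop 8).drop 8).drop 8).drop 8).drop 9).drop 8).drop 8).drop 8).drop 8).drop 8).take 8) = true := by decide +kernel

theorem cl0_23_5 : chkOn A 17 5 1 (((((((((((((((((((((((((cl0_l).drop 23).drop 9).drop 10).drop 10).drop 9).drop 9).drop 8).drop 8).drop 8).drop 8).drop 8).drop 8).drop 8).drop 8).drop 8).drop 8).drop 8).drop 9).drop 8).drop 8).drop 8).drop 8).drop 8).take 8) = true := by decide +kernel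

theorem cl0_23_6 : chkOn A 17 6 1 (((((((((((((((((((((((((cl0_l).drop 23).drop 9).drop 10).drop 10).drop 9).drop 9).drop 8).drop 8).drop 8).drop 8).drop 8).drop 8).drop 8).drop 8).drop 8).drop 8).drop 8).drop 9).drop 8).drop 8).drop 8).drop 8).drop 8).take 8) = true := by decide +kernel

theorem cl0_23_7 : chkOn A 17 7 1 (((((((((((((((((((((((((cl0_l).drop 23).drop 9).drop 10).drop 10).drop 9).drop 9).drop 8).drop 8).drop 8).drop 8).drop 8).drop 8).drop 8).drop 8).drop 8).drop 8).drop 8).drop 9).drop 8).drop 8).drop 8).drop 8).drop 8).take 8) = true := by decide +kernel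

theorem cl0_23_8 : chkOn A 17 8 1 (((((((((((((((((((((((((cl0_l).drop 23).drop 9).drop 10).drop 10).drop 9).drop 9).drop 8).drop 8).drop 8).drop 8).drop 8).drop 8).drop 8).drop 8).drop 8).drop 8).drop 8).drop 9).drop 8).drop 8).drop 8).drop 8).drop 8).take 8) = true := by decide +kernel

theorem cl0_23_9 : chkOn A 17 9 1 (((((((((((((((((((((((((cl0_l).drop 23).drop 9).drop 10).drop 10).drop 9).drop 9).drop 8).drop 8).drop 8).drop 8).drop 8).drop 8).drop 8).drop 8).drop 8).drop 8).drop 8).drop 9).drop 8).drop 8).drop 8).drop 8).drop 8).take 8) = true := by decide +kernel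

theorem cl0_23_10 : chkOn A 17 10 1 (((((((((((((((((((((((((cl0_l).drop 23).drop 9).drop 10).drop 10).drop 9).drop 9).drop 8).drop 8).drop 8).drop 8).drop 8).drop 8).drop 8).drop 8).drop 8).drop 8).drop 8).drop 9).drop 8).drop 8).drop 8).drop 8).drop 8).take 8) = true := by decide +kernel

theorem cl0_23_11 : chkOn A 17 11 1 (((((((((((((((((((((((((cl0_l).drop 23).drop 9).drop 10).drop 10).drop 9).drop 9).drop 8).drop 8).drop 8).drop 8).drop 8).drop 8).drop 8).drop 8).drop 8).drop 8).drop 8).drop 9).drop 8).drop 8).drop 8).drop 8).drop 8).take 8) = true := by decide +kernel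

theorem cl0_23_12 : chkOn A 17 12 1 (((((((((((((((((((((((((cl0_l).drop 23).drop 9).drop 10).drop 10).drop 9).drop 9).drop 8).drop 8).drop 8).drop 8).drop 8).drop 8).drop 8).drop 8).drop 8).drop 8).drop 8).drop 9).drop 8).drop 8).drop 8).drop 8).drop 8).take 8) = true := by decide +kernel

theorem cl0_23_13 : chkOn A 17 13 1 (((((((((((((((((((((((((cl0_l).drop 23).drop 9).drop 10).drop 10).drop 9).drop 9).drop 8).drop 8).drop 8).drop 8).drop 8).drop 8).drop 8).drop 8).drop 8).drop 8).drop 8).drop 9).drop 8).drop 8).drop 8).drop 8).drop 8).take 8) = true := by decide +kernel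

theorem cl0_23_14 : chkOn A 17 14 1 (((((((((((((((((((((((((cl0_l).drop 23).drop 9).drop 10).drop 10).drop 9).drop 9).drop 8).drop 8).drop 8).drop 8).drop 8).drop 8).drop 8).drop 8).drop 8).drop 8).drop 8).drop 9).drop 8).drop 8).drop 8).drop 8).drop 8).take 8) = true := by decide +kernel

theorem cl0_23_15 : chkOn A 17 15 1 (((((((((((((((((((((((((cl0_l).drop 23).drop 9).drop 10).drop 10).drop 9).drop 9).drop 8).drop 8).drop 8).drop 8).drop 8).drop 8).drop 8).drop 8).drop 8).drop 8).drop 8).drop 9).drop 8).drop 8).drop 8).drop 8).drop 8).take 8) = true := by decide +kernel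

theorem cl0_23_16 : chkOn A 17 16 1 (((((((((((((((((((((((((cl0_l).drop 23).drop 9).drop 10).drop 10).drop 9).drop 9).drop 8).drop 8).drop 8).drop 8).drop 8).drop 8).drop 8).drop 8).drop 8).drop 8).drop 8).drop 9).drop 8).drop 8).drop 8).drop 8).drop 8).take 8) = true := by decide +kernel

theorem cl0_24_0 : chkOn A 17 0 1 ((((((((((((((((((((((((((cl0_l).drop 23).drop 9).drop 10).drop 10).drop 9).drop 9).drop 8).drop 8).drop 8).drop 8).drop 8).drop 8).drop 8).drop 8).drop 8).drop 8).drop 8).drop 9).drop 8).drop 8).drop 8).drop 8).drop 8).drop 8).take 8) = true := by decide +kernel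

theorem cl0_24_1 : chkOn A 17 1 1 ((((((((((((((((((((((((((cl0_l).drop 23).drop 9).drop 10).drop 10).drop 9).drop 9).drop 8).drop 8).drop 8).drop 8).drop 8).drop 8).drop 8).drop 8).drop 8).drop 8).drop 8).drop 9).drop 8).drop 8).drop 8).drop 8).drop 8).drop 8).take 8) = true := by decide +kernel

theorem cl0_24_2 : chkOn A 17 2 1 ((((((((((((((((((((((((((cl0_l).drop 23).drop 9).drop 10).drop 10).drop 9).drop 9).drop 8).drop 8).drop 8).drop 8).drop 8).drop 8).drop 8).drop 8).drop 8).drop 8).drop 8).drop 9).drop 8).drop 8).drop 8).drop 8).drop 8).drop 8).take 8) = true := by decide +kernel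

theorem cl0_24_3 : chkOn A 17 3 1 ((((((((((((((((((((((((((cl0_l).drop 23).drop 9).drop 10).drop 10).drop 9).drop 9).drop 8).drop 8).drop 8).drop 8).drop 8).drop 8).drop 8).drop 8).drop 8).drop 8).drop 8).drop 9).drop 8).drop 8).drop 8).drop 8).drop 8).drop 8).take 8) = true := by decide +kernel

theorem cl0_24_4 : chkOn A 17 4 1 ((((((((((((((((((((((((((cl0_l).drop 23).drop 9).drop 10).drop 10).drop 9).drop 9).drop 8).drop 8).drop 8).drop 8).drop 8).drop 8).drop 8).drop 8).drop 8).drop 8).drop 8).drop 9).drop 8).drop 8).drop 8).drop 8).drop 8).drop 8).take 8) = true := by decide +kernel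

theorem cl0_24_5 : chkOn A 17 5 1 ((((((((((((((((((((((((((cl0_l).drop 23).drop 9).drop 10).drop 10).drop 9).drop 9).drop 8).drop 8).drop 8).drop 8).drop 8).drop 8).drop 8).drop 8).drop 8).drop 8).drop 8).drop 9).drop 8).drop 8).drop 8).drop 8).drop 8).drop 8).take 8) = true := by decide +kernel

theorem cl0_24_6 : chkOn A 17 6 1 ((((((((((((((((((((((((((cl0_l).drop 23).drop 9).drop 10).drop 10).drop 9).drop 9).drop 8).drop 8).drop 8).drop 8).drop 8).drop 8).drop 8).drop 8).drop 8).drop 8).drop 8).drop 9).drop 8).drop 8).drop 8).drop 8).drop 8).drop 8).take 8) = true := by decide +kernel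

theorem cl0_24_7 : chkOn A 17 7 1 ((((((((((((((((((((((((((cl0_l).drop 23).drop 9).drop 10).drop 10).drop 9).drop 9).drop 8).drop 8).drop 8).drop 8).drop 8).drop 8).drop 8).drop 8).drop 8).drop 8).drop 8).drop 9).drop 8).drop 8).drop 8).drop 8).drop 8).drop 8).take 8) = true := by decide +kernel

theorem cl0_24_8 : chkOn A 17 8 1 ((((((((((((((((((((((((((cl0_l).drop 23).drop 9).drop 10).drop 10).drop 9).drop 9).drop 8).drop 8).drop 8).drop 8).drop 8).drop 8).drop 8).drop 8).drop 8).drop 8).drop 8).drop 9).drop 8).drop 8).drop 8).drop 8).drop 8).drop 8).take 8) = true := by decide +kernel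

theorem cl0_24_9 : chkOn A 17 9 1 ((((((((((((((((((((((((((cl0_l).drop 23).drop 9).drop 10).drop 10).drop 9).drop 9).drop 8).drop 8).drop 8).drop 8).drop 8).drop 8).drop 8).drop 8).drop 8).drop 8).drop 8).drop 9).drop 8).drop 8).drop 8).drop 8).drop 8).drop 8).take 8) = true := by decide +kernel

theorem cl0_24_10 : chkOn A 17 10 1 ((((((((((((((((((((((((((cl0_l).drop 23).drop 9).drop 10).drop 10).drop 9).drop 9).drop 8).drop 8).drop 8).drop 8).drop 8).drop 8).drop 8).drop 8).drop 8).drop 8).drop 8).drop 9).drop 8).drop 8).drop 8).drop 8).drop 8).drop 8).take 8) = true := by decide +kernel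

theorem cl0_24_11 : chkOn A 17 11 1 ((((((((((((((((((((((((((cl0_l).drop 23).drop 9).drop 10).drop 10).drop 9).drop 9).drop 8).drop 8).drop 8).drop 8).drop 8).drop 8).drop 8).drop 8).drop 8).drop 8).drop 8).drop 9).drop 8).drop 8).drop 8).drop 8).drop 8).drop 8).take 8) = true := by decide +kernel

theorem cl0_24_12 : chkOn A 17 12 1 ((((((((((((((((((((((((((cl0_l).drop 23).drop 9).drop 10).drop 10).drop 9).drop 9).drop 8).drop 8).drop 8).drop 8).drop 8).drop 8).drop 8).drop 8).drop 8).drop 8).drop 8).drop 9).drop 8).drop 8).drop 8).drop 8).drop 8).drop 8).take 8) = true := by decide +kernel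

theorem cl0_24_13 : chkOn A 17 13 1 ((((((((((((((((((((((((((cl0_l).drop 23).drop 9).drop 10).drop 10).drop 9).drop 9).drop 8).drop 8).drop 8).drop 8).drop 8).drop 8).drop 8).drop 8).drop 8).drop 8).drop 8).drop 9).drop 8).drop 8).drop 8).drop 8).drop 8).drop 8).take 8) = true := by decide +kernel

theorem cl0_24_14 : chkOn A 17 14 1 ((((((((((((((((((((((((((cl0_l).drop 23).drop 9).drop 10).drop 10).drop 9).drop 9).drop 8).drop 8).drop 8).drop 8).drop 8).drop 8).drop 8).drop 8).drop 8).drop 8).drop 8).drop 9).drop 8).drop 8).drop 8).drop 8).drop 8).drop 8).take 8) = true := by decide +kernel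

theorem cl0_24_15 : chkOn A 17 15 1 ((((((((((((((((((((((((((cl0_l).drop 23).drop 9).drop 10).drop 10).drop 9).drop 9).drop 8).drop 8).drop 8).drop 8).drop 8).drop 8).drop 8).drop 8).drop 8).drop 8).drop 8).drop 9).drop 8).drop 8).drop 8).drop 8).drop 8).drop 8).take 8) = true := by decide +kernel

theorem cl0_24_16 : chkOn A 17 16 1 ((((((((((((((((((((((((((cl0_l).drop 23).drop 9).drop 10).drop 10).drop 9).drop 9).drop 8).drop 8).drop 8).drop 8).drop 8).drop 8).drop 8).drop 8).drop 8).drop 8).drop 8).drop 9).drop 8).drop 8).drop 8).drop 8).drop 8).drop 8).take 8) = true := by decide +kernel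

theorem cl0_25_0 : chkOn A 17 0 1 (((((((((((((((((((((((((((cl0_l).drop 23).drop 9).drop 10).drop 10).drop 9).drop 9).drop 8).drop 8).drop 8).drop 8).drop 8).drop 8).drop 8).drop 8).drop 8).drop 8).drop 8).drop 9).drop 8).drop 8).drop 8).drop 8).drop 8).drop 8).drop 8).take 8) = true := by decide +kernel

theorem cl0_25_1 : chkOn A 17 1 1 (((((((((((((((((((((((((((cl0_l).drop 23).drop 9).drop 10).drop 10).drop 9).drop 9).drop 8).drop 8).drop 8).drop 8).drop 8).drop 8).drop 8).drop 8).drop 8).drop 8).drop 8).drop 9).drop 8).drop 8).drop 8).drop 8).drop 8).drop 8).drop 8).take 8) = true := by decide +kernel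

theorem cl0_25_2 : chkOn A 17 2 1 (((((((((((((((((((((((((((cl0_l).drop 23).drop 9).drop 10).drop 10).drop 9).drop 9).drop 8).drop 8).drop 8).drop 8).drop 8).drop 8).drop 8).drop 8).drop 8).drop 8).drop 8).drop 9).drop 8).drop 8).drop 8).drop 8).drop 8).drop 8).drop 8).take 8) = true := by decide +kernel

theorem cl0_25_3 : chkOn A 17 3 1 (((((((((((((((((((((((((((cl0_l).drop 23).drop 9).drop 10).drop 10).drop 9).drop 9).drop 8).drop 8).drop 8).drop 8).drop 8).drop 8).drop 8).drop 8).drop 8).drop 8).drop 8).drop 9).drop 8).drop 8).drop 8).drop 8).drop 8).drop 8).drop 8).take 8) = true := by decide +kernel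

theorem cl0_25_4 : chkOn A 17 4 1 (((((((((((((((((((((((((((cl0_l).drop 23).drop 9).drop 10).drop 10).drop 9).drop 9).drop 8).drop 8).drop 8).drop 8).drop 8).drop 8).drop 8).drop 8).drop 8).drop 8).drop 8).drop 9).drop 8).drop 8).drop 8).drop 8).drop 8).drop 8).drop 8).take 8) = true := by decide +kernel

theorem cl0_25_5 : chkOn A 17 5 1 (((((((((((((((((((((((((((cl0_l).drop 23).drop 9).drop 10).drop 10).drop 9).drop 9).drop 8).drop 8).drop 8).drop 8).drop 8).drop 8).drop 8).drop 8).drop 8).drop 8).drop 8).drop 9).drop 8).drop 8).drop 8).drop 8).drop 8).drop 8).drop 8).take 8) = true := by decide +kernel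

theorem cl0_25_6 : chkOn A 17 6 1 (((((((((((((((((((((((((((cl0_l).drop 23).drop 9).drop 10).drop 10).drop 9).drop 9).drop 8).drop 8).drop 8).drop 8).drop 8).drop 8).drop 8).drop 8).drop 8).drop 8).drop 8).drop 9).drop 8).drop 8).drop 8).drop 8).drop 8).drop 8).drop 8).take 8) = true := by decide +kernel

theorem cl0_25_7 : chkOn A 17 7 1 (((((((((((((((((((((((((((cl0_l).drop 23).drop 9).drop 10).drop 10).drop 9).drop 9).drop 8).drop 8).drop 8).drop 8).drop 8).drop 8).drop 8).drop 8).drop 8).drop 8).drop 8).drop 9).drop 8).drop 8).drop 8).drop 8).drop 8).drop 8).drop 8).take 8) = true := by decide +kernel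

theorem cl0_25_8 : chkOn A 17 8 1 (((((((((((((((((((((((((((cl0_l).drop 23).drop 9).drop 10).drop 10).drop 9).drop 9).drop 8).drop 8).drop 8).drop 8).drop 8).drop 8).drop 8).drop 8).drop 8).drop 8).drop 8).drop 9).drop 8).drop 8).drop 8).drop 8).drop 8).drop 8).drop 8).take 8) = true := by decide +kernel

theorem cl0_25_9 : chkOn A 17 9 1 (((((((((((((((((((((((((((cl0_l).drop 23).drop 9).drop 10).drop 10).drop 9).drop 9).drop 8).drop 8).drop 8).drop 8).drop 8).drop 8).drop 8).drop 8).drop 8).drop 8).drop 8).drop 9).drop 8).drop 8).drop 8).drop 8).drop 8).drop 8).drop 8).take 8) = true := by decide +kernel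

theorem cl0_25_10 : chkOn A 17 10 1 (((((((((((((((((((((((((((cl0_l).drop 23).drop 9).drop 10).drop 10).drop 9).drop 9).drop 8).drop 8).drop 8).drop 8).drop 8).drop 8).drop 8).drop 8).drop 8).drop 8).drop 8).drop 9).drop 8).drop 8).drop 8).drop 8).drop 8).drop 8).drop 8).take 8) = true := by decide +kernel

theorem cl0_25_11 : chkOn A 17 11 1 (((((((((((((((((((((((((((cl0_l).drop 23).drop 9).drop 10).drop 10).drop 9).drop 9).drop 8).drop 8).drop 8).drop 8).drop 8).drop 8).drop 8).drop 8).drop 8).drop 8).drop 8).drop 9).drop 8).drop 8).drop 8).drop 8).drop 8).drop 8).drop 8).take 8) = true := by decide +kernel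

theorem cl0_25_12 : chkOn A 17 12 1 (((((((((((((((((((((((((((cl0_l).drop 23).drop 9).drop 10).drop 10).drop 9).drop 9).drop 8).drop 8).drop 8).drop 8).drop 8).drop 8).drop 8).drop 8).drop 8).drop 8).drop 8).drop 9).drop 8).drop 8).drop 8).drop 8).drop 8).drop 8).drop 8).take 8) = true := by decide +kernel

theorem cl0_25_13 : chkOn A 17 13 1 (((((((((((((((((((((((((((cl0_l).drop 23).drop 9).drop 10).drop 10).drop 9).drop 9).drop 8).drop 8).drop 8).drop 8).drop 8).drop 8).drop 8).drop 8).drop 8).drop 8).drop 8).drop 9).drop 8).drop 8).drop 8).drop 8).drop 8).drop 8).drop 8).take 8) = true := by decide +kernel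

theorem cl0_25_14 : chkOn A 17 14 1 (((((((((((((((((((((((((((cl0_l).drop 23).drop 9).drop 10).drop 10).drop 9).drop 9).drop 8).drop 8).drop 8).drop 8).drop 8).drop 8).drop 8).drop 8).drop 8).drop 8).drop 8).drop 9).drop 8).drop 8).drop 8).drop 8).drop 8).drop 8).drop 8).take 8) = true := by decide +kernel

theorem cl0_25_15 : chkOn A 17 15 1 (((((((((((((((((((((((((((cl0_l).drop 23).drop 9).drop 10).drop 10).drop 9).drop 9).drop 8).drop 8).drop 8).drop 8).drop 8).drop 8).drop 8).drop 8).drop 8).drop 8).drop 8).drop 9).drop 8).drop 8).drop 8).drop 8).drop 8).drop 8).drop 8).take 8) = true := by decide +kernel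


end Cfsg.Agent.Spor.ON
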