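import Cfsg.Agent.Lib.Spor.ON.Defs

set_option autoImplicit false
set_option maxRecDepth 100000
set_option Elab.async false
set_option exponentiation.threshold 100000

namespace Cfsg.Agent.Spor.ON
open Cfsg.Agent.PG

theorem cl0_25_16 : chkOn A 17 16 1 (((((((((((((((((((((((((((cl0_l).drop 23).drop 9).drop 10).drop 10).drop 9).drop 9).drop 8).drop 8).drop 8).drop 8).drop 8).drop 8).drop 8).drop 8).drop 8).drop 8).drop 8).drop 9).drop 8).drop 8).drop 8).drop 8).drop 8).drop 8).drop 8).take 8) = true := by decide +kernel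

theorem cl0_26_0 : chkOn A 17 0 1 ((((((((((((((((((((((((((((cl0_l).drop 23).drop 9).drop 10).drop 10).drop 9).drop 9).drop 8).drop 8).drop 8).drop 8).drop 8).drop 8).drop 8).drop 8).drop 8).drop 8).drop 8).drop 9).drop 8).drop 8).drop 8).drop 8).drop 8).drop 8).drop 8).drop 8).take 8) = true := by decide +kernel

theorem cl0_26_1 : chkOn A 17 1 1 ((((((((((((((((((((((((((((cl0_l).drop 23).drop 9).drop 10).drop 10).drop 9).drop 9).drop 8).drop 8).drop 8).drop 8).drop 8).drop 8).drop 8).drop 8).drop 8).drop 8).drop 8).drop 9).drop 8).drop 8).drop 8).drop 8).drop 8).drop 8).drop 8).drop 8).take 8) = true := by decide +kernel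

theorem cl0_26_2 : chkOn A 17 2 1 ((((((((((((((((((((((((((((cl0_l).drop 23).drop 9).drop 10).drop 10).drop 9).drop 9).drop 8).drop 8).drop 8).drop 8).drop 8).drop 8).drop 8).drop 8).drop 8).drop 8).drop 8).drop 9).drop 8).drop 8).drop 8).drop 8).drop 8).drop 8).drop 8).drop 8).take 8) = true := by decide +kernel

theorem cl0_26_3 : chkOn A 17 3 1 ((((((((((((((((((((((((((((cl0_l).drop 23).drop 9).drop 10).drop 10).drop 9).drop 9).drop 8).drop 8).drop 8).drop 8).drop 8).drop 8).drop 8).drop 8).drop 8).drop 8).drop 8).drop 9).drop 8).drop 8).drop 8).drop 8).drop 8).drop 8).drop 8).drop 8).take 8) = true := by decide +kernel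

theorem cl0_26_4 : chkOn A 17 4 1 ((((((((((((((((((((((((((((cl0_l).drop 23).drop 9).drop 10).drop 10).drop 9).drop 9).drop 8).drop 8).drop 8).drop 8).drop 8).drop 8).drop 8).drop 8).drop 8).drop 8).drop 8).drop 9).drop 8).drop 8).drop 8).drop 8).drop 8).drop 8).drop 8).drop 8).take 8) = true := by decide +kernel

theorem cl0_26_5 : chkOn A 17 5 1 ((((((((((((((((((((((((((((cl0_l).drop 23).drop 9).drop 10).drop 10).drop 9).drop 9).drop 8).drop 8).drop 8).drop 8).drop 8).drop 8).drop 8).drop 8).drop 8).drop 8).drop 8).drop 9).drop 8).drop 8).drop 8).drop 8).drop 8).drop 8).drop 8).drop 8).take 8) = true := by decide +kernel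

theorem cl0_26_6 : chkOn A 17 6 1 ((((((((((((((((((((((((((((cl0_l).drop 23).drop 9).drop 10).drop 10).drop 9).drop 9).drop 8).drop 8).drop 8).drop 8).drop 8).drop 8).drop 8).drop 8).drop 8).drop 8).drop 8).drop 9).drop 8).drop 8).drop 8).drop 8).drop 8).drop 8).drop 8).drop 8).take 8) = true := by decide +kernel

theorem cl0_26_7 : chkOn A 17 7 1 ((((((((((((((((((((((((((((cl0_l).drop 23).drop 9).drop 10).drop 10).drop 9).drop 9).drop 8).drop 8).drop 8).drop 8).drop 8).drop 8).drop 8).drop 8).drop 8).drop 8).drop 8).drop 9).drop 8).drop 8).drop 8).drop 8).drop 8).drop 8).drop 8).drop 8).take 8) = true := by decide +kernel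

theorem cl0_26_8 : chkOn A 17 8 1 ((((((((((((((((((((((((((((cl0_l).drop 23).drop 9).drop 10).drop 10).drop 9).drop 9).drop 8).drop 8).drop 8).drop 8).drop 8).drop 8).drop 8).drop 8).drop 8).drop 8).drop 8).drop 9).drop 8).drop 8).drop 8).drop 8).drop 8).drop 8).drop 8).drop 8).take 8) = true := by decide +kernel

theorem cl0_26_9 : chkOn A 17 9 1 ((((((((((((((((((((((((((((cl0_l).drop 23).drop 9).drop 10).drop 10).drop 9).drop 9).drop 8).drop 8).drop 8).drop 8).drop 8).drop 8).drop 8).drop 8).drop 8).drop 8).drop 8).drop 9).drop 8).drop 8).drop 8).drop 8).drop 8).drop 8).drop 8).drop 8).take 8) = true := by decide +kernel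

theorem cl0_26_10 : chkOn A 17 10 1 ((((((((((((((((((((((((((((cl0_l).drop 23).drop 9).drop 10).drop 10).drop 9).drop 9).drop 8).drop 8).drop 8).drop 8).drop 8).drop 8).drop 8).drop 8).drop 8).drop 8).drop 8).drop 9).drop 8).drop 8).drop 8).drop 8).drop 8).drop 8).drop 8).drop 8).take 8) = true := by decide +kernel

theorem cl0_26_11 : chkOn A 17 11 1 ((((((((((((((((((((((((((((cl0_l).drop 23).drop 9).drop 10).drop 10).drop 9).drop 9).drop 8).drop 8).drop 8).drop 8).drop 8).drop 8).drop 8).drop 8).drop 8).drop 8).drop 8).drop 9).drop 8).drop 8).drop 8).drop 8).drop 8).drop 8).drop 8).drop 8).take 8) = true := by decide +kernel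

theorem cl0_26_12 : chkOn A 17 12 1 ((((((((((((((((((((((((((((cl0_l).drop 23).drop 9).drop 10).drop 10).drop 9).drop 9).drop 8).drop 8).drop 8).drop 8).drop 8).drop 8).drop 8).drop 8).drop 8).drop 8).drop 8).drop 9).drop 8).drop 8).drop 8).drop 8).drop 8).drop 8).drop 8).drop 8).take 8) = true := by decide +kernel

theorem cl0_26_13 : chkOn A 17 13 1 ((((((((((((((((((((((((((((cl0_l).drop 23).drop 9).drop 10).drop 10).drop 9).drop 9).drop 8).drop 8).drop 8).drop 8).drop 8).drop 8).drop 8).drop 8).drop 8).drop 8).drop 8).drop 9).drop 8).drop 8).drop 8).drop 8).drop 8).drop 8).drop 8).drop 8).take 8) = true := by decide +kernel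

theorem cl0_26_14 : chkOn A 17 14 1 ((((((((((((((((((((((((((((cl0_l).drop 23).drop 9).drop 10).drop 10).drop 9).drop 9).drop 8).drop 8).drop 8).drop 8).drop 8).drop 8).drop 8).drop 8).drop 8).drop 8).drop 8).drop 9).drop 8).drop 8).drop 8).drop 8).drop 8).drop 8).drop 8).drop 8).take 8) = true := by decide +kernel

theorem cl0_26_15 : chkOn A 17 15 1 ((((((((((((((((((((((((((((cl0_l).drop 23).drop 9).drop 10).drop 10).drop 9).drop 9).drop 8).drop 8).drop 8).drop 8).drop 8).drop 8).drop 8).drop 8).drop 8).drop 8).drop 8).drop 9).drop 8).drop 8).drop 8).drop 8).drop 8).drop 8).drop 8).drop 8).take 8) = true := by decide +kernel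

theorem cl0_26_16 : chkOn A 17 16 1 ((((((((((((((((((((((((((((cl0_l).drop 23).drop 9).drop 10).drop 10).drop 9).drop 9).drop 8).drop 8).drop 8).drop 8).drop 8).drop 8).drop 8).drop 8).drop 8).drop 8).drop 8).drop 9).drop 8).drop 8).drop 8).drop 8).drop 8).drop 8).drop 8).drop 8).take 8) = true := by decide +kernel

theorem cl0_27_0 : chkOn A 17 0 1 (((((((((((((((((((((((((((((cl0_l).drop 23).drop 9).drop 10).drop 10).drop 9).drop 9).drop 8).drop 8).drop 8).drop 8).drop 8).drop 8).drop 8).drop 8).drop 8).drop 8).drop 8).drop 9).drop 8).drop 8).drop 8).drop 8).drop 8).drop 8).drop 8).drop 8).drop 8).take 7) = true := by decide +kernel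

theorem cl0_27_1 : chkOn A 17 1 1 (((((((((((((((((((((((((((((cl0_l).drop 23).drop 9).drop 10).drop 10).drop 9).drop 9).drop 8).drop 8).drop 8).drop 8).drop 8).drop 8).drop 8).drop 8).drop 8).drop 8).drop 8).drop 9).drop 8).drop 8).drop 8).drop 8).drop 8).drop 8).drop 8).drop 8).drop 8).take 7) = true := by decide +kernel

theorem cl0_27_2 : chkOn A 17 2 1 (((((((((((((((((((((((((((((cl0_l).drop 23).drop 9).drop 10).drop 10).drop 9).drop 9).drop 8).drop 8).drop 8).drop 8).drop 8).drop 8).drop 8).drop 8).drop 8).drop 8).drop 8).drop 9).drop 8).drop 8).drop 8).drop 8).drop 8).drop 8).drop 8).drop 8).drop 8).take 7) = true := by decide +kernel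

theorem cl0_27_3 : chkOn A 17 3 1 (((((((((((((((((((((((((((((cl0_l).drop 23).drop 9).drop 10).drop 10).drop 9).drop 9).drop 8).drop 8).drop 8).drop 8).drop 8).drop 8).drop 8).drop 8).drop 8).drop 8).drop 8).drop 9).drop 8).drop 8).drop 8).drop 8).drop 8).drop 8).drop 8).drop 8).drop 8).take 7) = true := by decide +kernel

theorem cl0_27_4 : chkOn A 17 4 1 (((((((((((((((((((((((((((((cl0_l).drop 23).drop 9).drop 10).drop 10).drop 9).drop 9).drop 8).drop 8).drop 8).drop 8).drop 8).drop 8).drop 8).drop 8).drop 8).drop 8).drop 8).drop 9).drop 8).drop 8).drop 8).drop 8).drop 8).drop 8).drop 8).drop 8).drop 8).take 7) = true := by decide +kernel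

theorem cl0_27_5 : chkOn A 17 5 1 (((((((((((((((((((((((((((((cl0_l).drop 23).drop 9).drop 10).drop 10).drop 9).drop 9).drop 8).drop 8).drop 8).drop 8).drop 8).drop 8).drop 8).drop 8).drop 8).drop 8).drop 8).drop 9).drop 8).drop 8).drop 8).drop 8).drop 8).drop 8).drop 8).drop 8).drop 8).take 7) = true := by decide +kernel

theorem cl0_27_6 : chkOn A 17 6 1 (((((((((((((((((((((((((((((cl0_l).drop 23).drop 9).drop 10).drop 10).drop 9).drop 9).drop 8).drop 8).drop 8).drop 8).drop 8).drop 8).drop 8).drop 8).drop 8).drop 8).drop 8).drop 9).drop 8).drop 8).drop 8).drop 8).drop 8).drop 8).drop 8).drop 8).drop 8).take 7) = true := by decide +kernel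

theorem cl0_27_7 : chkOn A 17 7 1 (((((((((((((((((((((((((((((cl0_l).drop 23).drop 9).drop 10).drop 10).drop 9).drop 9).drop 8).drop 8).drop 8).drop 8).drop 8).drop 8).drop 8).drop 8).drop 8).drop 8).drop 8).drop 9).drop 8).drop 8).drop 8).drop 8).drop 8).drop 8).drop 8).drop 8).drop 8).take 7) = true := by decide +kernel

theorem cl0_27_8 : chkOn A 17 8 1 (((((((((((((((((((((((((((((cl0_l).drop 23).drop 9).drop 10).drop 10).drop 9).drop 9).drop 8).drop 8).drop 8).drop 8).drop 8).drop 8).drop 8).drop 8).drop 8).drop 8).drop 8).drop 9).drop 8).drop 8).drop 8).drop 8).drop 8).drop 8).drop 8).drop 8).drop 8).take 7) = true := by decide +kernel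

theorem cl0_27_9 : chkOn A 17 9 1 (((((((((((((((((((((((((((((cl0_l).drop 23).drop 9).drop 10).drop 10).drop 9).drop 9).drop 8).drop 8).drop 8).drop 8).drop 8).drop 8).drop 8).drop 8).drop 8).drop 8).drop 8).drop 9).drop 8).drop 8).drop 8).drop 8).drop 8).drop 8).drop 8).drop 8).drop 8).take 7) = true := by decide +kernel

theorem cl0_27_10 : chkOn A 17 10 1 (((((((((((((((((((((((((((((cl0_l).drop 23).drop 9).drop 10).drop 10).drop 9).drop 9).drop 8).drop 8).drop 8).drop 8).drop 8).drop 8).drop 8).drop 8).drop 8).drop 8).drop 8).drop 9).drop 8).drop 8).drop 8).drop 8).drop 8).drop 8).drop 8).drop 8).drop 8).take 7) = true := by decide +kernel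

theorem cl0_27_11 : chkOn A 17 11 1 (((((((((((((((((((((((((((((cl0_l).drop 23).drop 9).drop 10).drop 10).drop 9).drop 9).drop 8).drop 8).drop 8).drop 8).drop 8).drop 8).drop 8).drop 8).drop 8).drop 8).drop 8).drop 9).drop 8).drop 8).drop 8).drop 8).drop 8).drop 8).drop 8).drop 8).drop 8).take 7) = true := by decide +kernel

theorem cl0_27_12 : chkOn A 17 12 1 (((((((((((((((((((((((((((((cl0_l).drop 23).drop 9).drop 10).drop 10).drop 9).drop 9).drop 8).drop 8).drop 8).drop 8).drop 8).drop 8).drop 8).drop 8).drop 8).drop 8).drop 8).drop 9).drop 8).drop 8).drop 8).drop 8).drop 8).drop 8).drop 8).drop 8).drop 8).take 7) = true := by decide +kernel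

theorem cl0_27_13 : chkOn A 17 13 1 (((((((((((((((((((((((((((((cl0_l).drop 23).drop 9).drop 10).drop 10).drop 9).drop 9).drop 8).drop 8).drop 8).drop 8).drop 8).drop 8).drop 8).drop 8).drop 8).drop 8).drop 8).drop 9).drop 8).drop 8).drop 8).drop 8).drop 8).drop 8).drop 8).drop 8).drop 8).take 7) = true := by decide +kernel

theorem cl0_27_14 : chkOn A 17 14 1 (((((((((((((((((((((((((((((cl0_l).drop 23).drop 9).drop 10).drop 10).drop 9).drop 9).drop 8).drop 8).drop 8).drop 8).drop 8).drop 8).drop 8).drop 8).drop 8).drop 8).drop 8).drop 9).drop 8).drop 8).drop 8).drop 8).drop 8).drop 8).drop 8).drop 8).drop 8).take 7) = true := by decide +kernel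

theorem cl0_27_15 : chkOn A 17 15 1 (((((((((((((((((((((((((((((cl0_l).drop 23).drop 9).drop 10).drop 10).drop 9).drop 9).drop 8).drop 8).drop 8).drop 8).drop 8).drop 8).drop 8).drop 8).drop 8).drop 8).drop 8).drop 9).drop 8).drop 8).drop 8).drop 8).drop 8).drop 8).drop 8).drop 8).drop 8).take 7) = true := by decide +kernel

theorem cl0_27_16 : chkOn A 17 16 1 (((((((((((((((((((((((((((((cl0_l).drop 23).drop 9).drop 10).drop 10).drop 9).drop 9).drop 8).drop 8).drop 8).drop 8).drop 8).drop 8).drop 8).drop 8).drop 8).drop 8).drop 8).drop 9).drop 8).drop 8).drop 8).drop 8).drop 8).drop 8).drop 8).drop 8).drop 8).take 7) = true := by decide +kernel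

theorem cl0_28_0 : chkOn A 17 0 1 ((((((((((((((((((((((((((((((cl0_l).drop 23).drop 9).drop 10).drop 10).drop 9).drop 9).drop 8).drop 8).drop 8).drop 8).drop 8).drop 8).drop 8).drop 8).drop 8).drop 8).drop 8).drop 9).drop 8).drop 8).drop 8).drop 8).drop 8).drop 8).drop 8).drop 8).drop 8).drop 7).take 8) = true := by decide +kernel

theorem cl0_28_1 : chkOn A 17 1 1 ((((((((((((((((((((((((((((((cl0_l).drop 23).drop 9).drop 10).drop 10).drop 9).drop 9).drop 8).drop 8).drop 8).drop 8).drop 8).drop 8).drop 8).drop 8).drop 8).drop 8).drop 8).drop 9).drop 8).drop 8).drop 8).drop 8).drop 8).drop 8).drop 8).drop 8).drop 8).drop 7).take 8) = true := by decide +kernel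

theorem cl0_28_2 : chkOn A 17 2 1 ((((((((((((((((((((((((((((((cl0_l).drop 23).drop 9).drop 10).drop 10).drop 9).drop 9).drop 8).drop 8).drop 8).drop 8).drop 8).drop 8).drop 8).drop 8).drop 8).drop 8).drop 8).drop 9).drop 8).drop 8).drop 8).drop 8).drop 8).drop 8).drop 8).drop 8).drop 8).drop 7).take 8) = true := by decide +kernel

theorem cl0_28_3 : chkOn A 17 3 1 ((((((((((((((((((((((((((((((cl0_l).drop 23).drop 9).drop 10).drop 10).drop 9).drop 9).drop 8).drop 8).drop 8).drop 8).drop 8).drop 8).drop 8).drop 8).drop 8).drop 8).drop 8).drop 9).drop 8).drop 8).drop 8).drop 8).drop 8).drop 8).drop 8).drop 8).drop 8).drop 7).take 8) = true := by decide +kernel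

theorem cl0_28_4 : chkOn A 17 4 1 ((((((((((((((((((((((((((((((cl0_l).drop 23).drop 9).drop 10).drop 10).drop 9).drop 9).drop 8).drop 8).drop 8).drop 8).drop 8).drop 8).drop 8).drop 8).drop 8).drop 8).drop 8).drop 9).drop 8).drop 8).drop 8).drop 8).drop 8).drop 8).drop 8).drop 8).drop 8).drop 7).take 8) = true := by decide +kernel

theorem cl0_28_5 : chkOn A 17 5 1 ((((((((((((((((((((((((((((((cl0_l).drop 23).drop 9).drop 10).drop 10).drop 9).drop 9).drop 8).drop 8).drop 8).drop 8).drop 8).drop 8).drop 8).drop 8).drop 8).drop 8).drop 8).drop 9).drop 8).drop 8).drop 8).drop 8).drop 8).drop 8).drop 8).drop 8).drop 8).drop 7).take 8) = true := by decide +kernel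

theorem cl0_28_6 : chkOn A 17 6 1 ((((((((((((((((((((((((((((((cl0_l).drop 23).drop 9).drop 10).drop 10).drop 9).drop 9).drop 8).drop 8).drop 8).drop 8).drop 8).drop 8).drop 8).drop 8).drop 8).drop 8).drop 8).drop 9).drop 8).drop 8).drop 8).drop 8).drop 8).drop 8).drop 8).drop 8).drop 8).drop 7).take 8) = true := by decide +kernel

theorem cl0_28_7 : chkOn A 17 7 1 ((((((((((((((((((((((((((((((cl0_l).drop 23).drop 9).drop 10).drop 10).drop 9).drop 9).drop 8).drop 8).drop 8).drop 8).drop 8).drop 8).drop 8).drop 8).drop 8).drop 8).drop 8).drop 9).drop 8).drop 8).drop 8).drop 8).drop 8).drop 8).drop 8).drop 8).drop 8).drop 7).take 8) = true := by decide +kernel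

theorem cl0_28_8 : chkOn A 17 8 1 ((((((((((((((((((((((((((((((cl0_l).drop 23).drop 9).drop 10).drop 10).drop 9).drop 9).drop 8).drop 8).drop 8).drop 8).drop 8).drop 8).drop 8).drop 8).drop 8).drop 8).drop 8).drop 9).drop 8).drop 8).drop 8).drop 8).drop 8).drop 8).drop 8).drop 8).drop 8).drop 7).take 8) = true := by decide +kernel

theorem cl0_28_9 : chkOn A 17 9 1 ((((((((((((((((((((((((((((((cl0_l).drop 23).drop 9).drop 10).drop 10).drop 9).drop 9).drop 8).drop 8).drop 8).drop 8).drop 8).drop 8).drop 8).drop 8).drop 8).drop 8).drop 8).drop 9).drop 8).drop 8).drop 8).drop 8).drop 8).drop 8).drop 8).drop 8).drop 8).drop 7).take 8) = true := by decide +kernel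

theorem cl0_28_10 : chkOn A 17 10 1 ((((((((((((((((((((((((((((((cl0_l).drop 23).drop 9).drop 10).drop 10).drop 9).drop 9).drop 8).drop 8).drop 8).drop 8).drop 8).drop 8).drop 8).drop 8).drop 8).drop 8).drop 8).drop 9).drop 8).drop 8).drop 8).drop 8).drop 8).drop 8).drop 8).drop 8).drop 8).drop 7).take 8) = true := by decide +kernel

theorem cl0_28_11 : chkOn A 17 11 1 ((((((((((((((((((((((((((((((cl0_l).drop 23).drop 9).drop 10).drop 10).drop 9).drop 9).drop 8).drop 8).drop 8).drop 8).drop 8).drop 8).drop 8).drop 8).drop 8).drop 8).drop 8).drop 9).drop 8).drop 8).drop 8).drop 8).drop 8).drop 8).drop 8).drop 8).drop 8).drop 7).take 8) = true := by decide +kernel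

theorem cl0_28_12 : chkOn A 17 12 1 ((((((((((((((((((((((((((((((cl0_l).drop 23).drop 9).drop 10).drop 10).drop 9).drop 9).drop 8).drop 8).drop 8).drop 8).drop 8).drop 8).drop 8).drop 8).drop 8).drop 8).drop 8).drop 9).drop 8).drop 8).drop 8).drop 8).drop 8).drop 8).drop 8).drop 8).drop 8).drop 7).take 8) = true := by decide +kernel

theorem cl0_28_13 : chkOn A 17 13 1 ((((((((((((((((((((((((((((((cl0_l).drop 23).drop 9).drop 10).drop 10).drop 9).drop 9).drop 8).drop 8).drop 8).drop 8).drop 8).drop 8).drop 8).drop 8).drop 8).drop 8).drop 8).drop 9).drop 8).drop 8).drop 8).drop 8).drop 8).drop 8).drop 8).drop 8).drop 8).drop 7).take 8) = true := by decide +kernel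

theorem cl0_28_14 : chkOn A 17 14 1 ((((((((((((((((((((((((((((((cl0_l).drop 23).drop 9).drop 10).drop 10).drop 9).drop 9).drop 8).drop 8).drop 8).drop 8).drop 8).drop 8).drop 8).drop 8).drop 8).drop 8).drop 8).drop 9).drop 8).drop 8).drop 8).drop 8).drop 8).drop 8).drop 8).drop 8).drop 8).drop 7).take 8) = true := by decide +kernel

theorem cl0_28_15 : chkOn A 17 15 1 ((((((((((((((((((((((((((((((cl0_l).drop 23).drop 9).drop 10).drop 10).drop 9).drop 9).drop 8).drop 8).drop 8).drop 8).drop 8).drop 8).drop 8).drop 8).drop 8).drop 8).drop 8).drop 9).drop 8).drop 8).drop 8).drop 8).drop 8).drop 8).drop 8).drop 8).drop 8).drop 7).take 8) = true := by decide +kernel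

theorem cl0_28_16 : chkOn A 17 16 1 ((((((((((((((((((((((((((((((cl0_l).drop 23).drop 9).drop 10).drop 10).drop 9).drop 9).drop 8).drop 8).drop 8).drop 8).drop 8).drop 8).drop 8).drop 8).drop 8).drop 8).drop 8).drop 9).drop 8).drop 8).drop 8).drop 8).drop 8).drop 8).drop 8).drop 8).drop 8).drop 7).take 8) = true := by decide +kernel

theorem cl0_29_0 : chkOn A 17 0 1 (((((((((((((((((((((((((((((((cl0_l).drop 23).drop 9).drop 10).drop 10).drop 9).drop 9).drop 8).drop 8).drop 8).drop 8).drop 8).drop 8).drop 8).drop 8).drop 8).drop 8).drop 8).drop 9).drop 8).drop 8).drop 8).drop 8).drop 8).drop 8).drop 8).drop 8).drop 8).drop 7).drop 8).take 9) = true := by decide +kernel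

theorem cl0_29_1 : chkOn A 17 1 1 (((((((((((((((((((((((((((((((cl0_l).drop 23).drop 9).drop 10).drop 10).drop 9).drop 9).drop 8).drop 8).drop 8).drop 8).drop 8).drop 8).drop 8).drop 8).drop 8).drop 8).drop 8).drop 9).drop 8).drop 8).drop 8).drop 8).drop 8).drop 8).drop 8).drop 8).drop 8).drop 7).drop 8).take 9) = true := by decide +kernel

theorem cl0_29_2 : chkOn A 17 2 1 (((((((((((((((((((((((((((((((cl0_l).drop 23).drop 9).drop 10).drop 10).drop 9).drop 9).drop 8).drop 8).drop 8).drop 8).drop 8).drop 8).drop 8).drop 8).drop 8).drop 8).drop 8).drop 9).drop 8).drop 8).drop 8).drop 8).drop 8).drop 8).drop 8).drop 8).drop 8).drop 7).drop 8).take 9) = true := by decide +kernel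

theorem cl0_29_3 : chkOn A 17 3 1 (((((((((((((((((((((((((((((((cl0_l).drop 23).drop 9).drop 10).drop 10).drop 9).drop 9).drop 8).drop 8).drop 8).drop 8).drop 8).drop 8).drop 8).drop 8).drop 8).drop 8).drop 8).drop 9).drop 8).drop 8).drop 8).drop 8).drop 8).drop 8).drop 8).drop 8).drop 8).drop 7).drop 8).take 9) = true := by decide +kernel

theorem cl0_29_4 : chkOn A 17 4 1 (((((((((((((((((((((((((((((((cl0_l).drop 23).drop 9).drop 10).drop 10).drop 9).drop 9).drop 8).drop 8).drop 8).drop 8).drop 8).drop 8).drop 8).drop 8).drop 8).drop 8).drop 8).drop 9).drop 8).drop 8).drop 8).drop 8).drop 8).drop 8).drop 8).drop 8).drop 8).drop 7).drop 8).take 9) = true := by decide +kernel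

theorem cl0_29_5 : chkOn A 17 5 1 (((((((((((((((((((((((((((((((cl0_l).drop 23).drop 9).drop 10).drop 10).drop 9).drop 9).drop 8).drop 8).drop 8).drop 8).drop 8).drop 8).drop 8).drop 8).drop 8).drop 8).drop 8).drop 9).drop 8).drop 8).drop 8).drop 8).drop 8).drop 8).drop 8).drop 8).drop 8).drop 7).drop 8).take 9) = true := by decide +kernel

theorem cl0_29_6 : chkOn A 17 6 1 (((((((((((((((((((((((((((((((cl0_l).drop 23).drop 9).drop 10).drop 10).drop 9).drop 9).drop 8).drop 8).drop 8).drop 8).drop 8).drop 8).drop 8).drop 8).drop 8).drop 8).drop 8).drop 9).drop 8).drop 8).drop 8).drop 8).drop 8).drop 8).drop 8).drop 8).drop 8).drop 7).drop 8).take 9) = true := by decide +kernel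

theorem cl0_29_7 : chkOn A 17 7 1 (((((((((((((((((((((((((((((((cl0_l).drop 23).drop 9).drop 10).drop 10).drop 9).drop 9).drop 8).drop 8).drop 8).drop 8).drop 8).drop 8).drop 8).drop 8).drop 8).drop 8).drop 8).drop 9).drop 8).drop 8).drop 8).drop 8).drop 8).drop 8).drop 8).drop 8).drop 8).drop 7).drop 8).take 9) = true := by decide +kernel

theorem cl0_29_8 : chkOn A 17 8 1 (((((((((((((((((((((((((((((((cl0_l).drop 23).drop 9).drop 10).drop 10).drop 9).drop 9).drop 8).drop 8).drop 8).drop 8).drop 8).drop 8).drop 8).drop 8).drop 8).drop 8).drop 8).drop 9).drop 8).drop 8).drop 8).drop 8).drop 8).drop 8).drop 8).drop 8).drop 8).drop 7).drop 8).take 9) = true := by decide +kernel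

theorem cl0_29_9 : chkOn A 17 9 1 (((((((((((((((((((((((((((((((cl0_l).drop 23).drop 9).drop 10).drop 10).drop 9).drop 9).drop 8).drop 8).drop 8).drop 8).drop 8).drop 8).drop 8).drop 8).drop 8).drop 8).drop 8).drop 9).drop 8).drop 8).drop 8).drop 8).drop 8).drop 8).drop 8).drop 8).drop 8).drop 7).drop 8).take 9) = true := by decide +kernel


end Cfsg.Agent.Spor.ON
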