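import Cfsg.Agent.Lib.Spor.ON.Defs

set_option autoImplicit false
set_option maxRecDepth 100000
set_option Elab.async false
set_option exponentiation.threshold 100000

namespace Cfsg.Agent.Spor.ON
open Cfsg.Agent.PG

theorem cl0_29_10 : chkOn A 17 10 1 (((((((((((((((((((((((((((((((cl0_l).drop 23).drop 9).drop 10).drop 10).drop 9).drop 9).drop 8).drop 8).drop 8).drop 8).drop 8).drop 8).drop 8).drop 8).drop 8).drop 8).drop 8).drop 9).drop 8).drop 8).drop 8).drop 8).drop 8).drop 8).drop 8).drop 8).drop 8).drop 7).drop 8).take 9) = true := by decide +kernel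

theorem cl0_29_11 : chkOn A 17 11 1 (((((((((((((((((((((((((((((((cl0_l).drop 23).drop 9).drop 10).drop 10).drop 9).drop 9).drop 8).drop 8).drop 8).drop 8).drop 8).drop 8).drop 8).drop 8).drop 8).drop 8).drop 8).drop 9).drop 8).drop 8).drop 8).drop 8).drop 8).drop 8).drop 8).drop 8).drop 8).drop 7).drop 8).take 9) = true := by decide +kernel

theorem cl0_29_12 : chkOn A 17 12 1 (((((((((((((((((((((((((((((((cl0_l).drop 23).drop 9).drop 10).drop 10).drop 9).drop 9).drop 8).drop 8).drop 8).drop 8).drop 8).drop 8).drop 8).drop 8).drop 8).drop 8).drop 8).drop 9).drop 8).drop 8).drop 8).drop 8).drop 8).drop 8).drop 8).drop 8).drop 8).drop 7).drop 8).take 9) = true := by decide +kernel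

theorem cl0_29_13 : chkOn A 17 13 1 (((((((((((((((((((((((((((((((cl0_l).drop 23).drop 9).drop 10).drop 10).drop 9).drop 9).drop 8).drop 8).drop 8).drop 8).drop 8).drop 8).drop 8).drop 8).drop 8).drop 8).drop 8).drop 9).drop 8).drop 8).drop 8).drop 8).drop 8).drop 8).drop 8).drop 8).drop 8).drop 7).drop 8).take 9) = true := by decide +kernel

theorem cl0_29_14 : chkOn A 17 14 1 (((((((((((((((((((((((((((((((cl0_l).drop 23).drop 9).drop 10).drop 10).drop 9).drop 9).drop 8).drop 8).drop 8).drop 8).drop 8).drop 8).drop 8).drop 8).drop 8).drop 8).drop 8).drop 9).drop 8).drop 8).drop 8).drop 8).drop 8).drop 8).drop 8).drop 8).drop 8).drop 7).drop 8).take 9) = true := by decide +kernel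

theorem cl0_29_15 : chkOn A 17 15 1 (((((((((((((((((((((((((((((((cl0_l).drop 23).drop 9).drop 10).drop 10).drop 9).drop 9).drop 8).drop 8).drop 8).drop 8).drop 8).drop 8).drop 8).drop 8).drop 8).drop 8).drop 8).drop 9).drop 8).drop 8).drop 8).drop 8).drop 8).drop 8).drop 8).drop 8).drop 8).drop 7).drop 8).take 9) = true := by decide +kernel

theorem cl0_29_16 : chkOn A 17 16 1 (((((((((((((((((((((((((((((((cl0_l).drop 23).drop 9).drop 10).drop 10).drop 9).drop 9).drop 8).drop 8).drop 8).drop 8).drop 8).drop 8).drop 8).drop 8).drop 8).drop 8).drop 8).drop 9).drop 8).drop 8).drop 8).drop 8).drop 8).drop 8).drop 8).drop 8).drop 8).drop 7).drop 8).take 9) = true := by decide +kernel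

theorem cl0_30_0 : chkOn A 17 0 1 ((((((((((((((((((((((((((((((((cl0_l).drop 23).drop 9).drop 10).drop 10).drop 9).drop 9).drop 8).drop 8).drop 8).drop 8).drop 8).drop 8).drop 8).drop 8).drop 8).drop 8).drop 8).drop 9).drop 8).drop 8).drop 8).drop 8).drop 8).drop 8).drop 8).drop 8).drop 8).drop 7).drop 8).drop 9).take 8) = true := by decide +kernel

theorem cl0_30_1 : chkOn A 17 1 1 ((((((((((((((((((((((((((((((((cl0_l).drop 23).drop 9).drop 10).drop 10).drop 9).drop 9).drop 8).drop 8).drop 8).drop 8).drop 8).drop 8).drop 8).drop 8).drop 8).drop 8).drop 8).drop 9).drop 8).drop 8).drop 8).drop 8).drop 8).drop 8).drop 8).drop 8).drop 8).drop 7).drop 8).drop 9).take 8) = true := by decide +kernel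

theorem cl0_30_2 : chkOn A 17 2 1 ((((((((((((((((((((((((((((((((cl0_l).drop 23).drop 9).drop 10).drop 10).drop 9).drop 9).drop 8).drop 8).drop 8).drop 8).drop 8).drop 8).drop 8).drop 8).drop 8).drop 8).drop 8).drop 9).drop 8).drop 8).drop 8).drop 8).drop 8).drop 8).drop 8).drop 8).drop 8).drop 7).drop 8).drop 9).take 8) = true := by decide +kernel

theorem cl0_30_3 : chkOn A 17 3 1 ((((((((((((((((((((((((((((((((cl0_l).drop 23).drop 9).drop 10).drop 10).drop 9).drop 9).drop 8).drop 8).drop 8).drop 8).drop 8).drop 8).drop 8).drop 8).drop 8).drop 8).drop 8).drop 9).drop 8).drop 8).drop 8).drop 8).drop 8).drop 8).drop 8).drop 8).drop 8).drop 7).drop 8).drop 9).take 8) = true := by decide +kernel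

theorem cl0_30_4 : chkOn A 17 4 1 ((((((((((((((((((((((((((((((((cl0_l).drop 23).drop 9).drop 10).drop 10).drop 9).drop 9).drop 8).drop 8).drop 8).drop 8).drop 8).drop 8).drop 8).drop 8).drop 8).drop 8).drop 8).drop 9).drop 8).drop 8).drop 8).drop 8).drop 8).drop 8).drop 8).drop 8).drop 8).drop 7).drop 8).drop 9).take 8) = true := by decide +kernel

theorem cl0_30_5 : chkOn A 17 5 1 ((((((((((((((((((((((((((((((((cl0_l).drop 23).drop 9).drop 10).drop 10).drop 9).drop 9).drop 8).drop 8).drop 8).drop 8).drop 8).drop 8).drop 8).drop 8).drop 8).drop 8).drop 8).drop 9).drop 8).drop 8).drop 8).drop 8).drop 8).drop 8).drop 8).drop 8).drop 8).drop 7).drop 8).drop 9).take 8) = true := by decide +kernel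

theorem cl0_30_6 : chkOn A 17 6 1 ((((((((((((((((((((((((((((((((cl0_l).drop 23).drop 9).drop 10).drop 10).drop 9).drop 9).drop 8).drop 8).drop 8).drop 8).drop 8).drop 8).drop 8).drop 8).drop 8).drop 8).drop 8).drop 9).drop 8).drop 8).drop 8).drop 8).drop 8).drop 8).drop 8).drop 8).drop 8).drop 7).drop 8).drop 9).take 8) = true := by decide +kernel

theorem cl0_30_7 : chkOn A 17 7 1 ((((((((((((((((((((((((((((((((cl0_l).drop 23).drop 9).drop 10).drop 10).drop 9).drop 9).drop 8).drop 8).drop 8).drop 8).drop 8).drop 8).drop 8).drop 8).drop 8).drop 8).drop 8).drop 9).drop 8).drop 8).drop 8).drop 8).drop 8).drop 8).drop 8).drop 8).drop 8).drop 7).drop 8).drop 9).take 8) = true := by decide +kernel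

theorem cl0_30_8 : chkOn A 17 8 1 ((((((((((((((((((((((((((((((((cl0_l).drop 23).drop 9).drop 10).drop 10).drop 9).drop 9).drop 8).drop 8).drop 8).drop 8).drop 8).drop 8).drop 8).drop 8).drop 8).drop 8).drop 8).drop 9).drop 8).drop 8).drop 8).drop 8).drop 8).drop 8).drop 8).drop 8).drop 8).drop 7).drop 8).drop 9).take 8) = true := by decide +kernel

theorem cl0_30_9 : chkOn A 17 9 1 ((((((((((((((((((((((((((((((((cl0_l).drop 23).drop 9).drop 10).drop 10).drop 9).drop 9).drop 8).drop 8).drop 8).drop 8).drop 8).drop 8).drop 8).drop 8).drop 8).drop 8).drop 8).drop 9).drop 8).drop 8).drop 8).drop 8).drop 8).drop 8).drop 8).drop 8).drop 8).drop 7).drop 8).drop 9).take 8) = true := by decide +kernel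

theorem cl0_30_10 : chkOn A 17 10 1 ((((((((((((((((((((((((((((((((cl0_l).drop 23).drop 9).drop 10).drop 10).drop 9).drop 9).drop 8).drop 8).drop 8).drop 8).drop 8).drop 8).drop 8).drop 8).drop 8).drop 8).drop 8).drop 9).drop 8).drop 8).drop 8).drop 8).drop 8).drop 8).drop 8).drop 8).drop 8).drop 7).drop 8).drop 9).take 8) = true := by decide +kernel

theorem cl0_30_11 : chkOn A 17 11 1 ((((((((((((((((((((((((((((((((cl0_l).drop 23).drop 9).drop 10).drop 10).drop 9).drop 9).drop 8).drop 8).drop 8).drop 8).drop 8).drop 8).drop 8).drop 8).drop 8).drop 8).drop 8).drop 9).drop 8).drop 8).drop 8).drop 8).drop 8).drop 8).drop 8).drop 8).drop 8).drop 7).drop 8).drop 9).take 8) = true := by decide +kernel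

theorem cl0_30_12 : chkOn A 17 12 1 ((((((((((((((((((((((((((((((((cl0_l).drop 23).drop 9).drop 10).drop 10).drop 9).drop 9).drop 8).drop 8).drop 8).drop 8).drop 8).drop 8).drop 8).drop 8).drop 8).drop 8).drop 8).drop 9).drop 8).drop 8).drop 8).drop 8).drop 8).drop 8).drop 8).drop 8).drop 8).drop 7).drop 8).drop 9).take 8) = true := by decide +kernel

theorem cl0_30_13 : chkOn A 17 13 1 ((((((((((((((((((((((((((((((((cl0_l).drop 23).drop 9).drop 10).drop 10).drop 9).drop 9).drop 8).drop 8).drop 8).drop 8).drop 8).drop 8).drop 8).drop 8).drop 8).drop 8).drop 8).drop 9).drop 8).drop 8).drop 8).drop 8).drop 8).drop 8).drop 8).drop 8).drop 8).drop 7).drop 8).drop 9).take 8) = true := by decide +kernel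

theorem cl0_30_14 : chkOn A 17 14 1 ((((((((((((((((((((((((((((((((cl0_l).drop 23).drop 9).drop 10).drop 10).drop 9).drop 9).drop 8).drop 8).drop 8).drop 8).drop 8).drop 8).drop 8).drop 8).drop 8).drop 8).drop 8).drop 9).drop 8).drop 8).drop 8).drop 8).drop 8).drop 8).drop 8).drop 8).drop 8).drop 7).drop 8).drop 9).take 8) = true := by decide +kernel

theorem cl0_30_15 : chkOn A 17 15 1 ((((((((((((((((((((((((((((((((cl0_l).drop 23).drop 9).drop 10).drop 10).drop 9).drop 9).drop 8).drop 8).drop 8).drop 8).drop 8).drop 8).drop 8).drop 8).drop 8).drop 8).drop 8).drop 9).drop 8).drop 8).drop 8).drop 8).drop 8).drop 8).drop 8).drop 8).drop 8).drop 7).drop 8).drop 9).take 8) = true := by decide +kernel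

theorem cl0_30_16 : chkOn A 17 16 1 ((((((((((((((((((((((((((((((((cl0_l).drop 23).drop 9).drop 10).drop 10).drop 9).drop 9).drop 8).drop 8).drop 8).drop 8).drop 8).drop 8).drop 8).drop 8).drop 8).drop 8).drop 8).drop 9).drop 8).drop 8).drop 8).drop 8).drop 8).drop 8).drop 8).drop 8).drop 8).drop 7).drop 8).drop 9).take 8) = true := by decide +kernel

theorem cl0_31_0 : chkOn A 17 0 1 ((((((((((((((((((((((((((((((((cl0_l).drop 23).drop 9).drop 10).drop 10).drop 9).drop 9).drop 8).drop 8).drop 8).drop 8).drop 8).drop 8).drop 8).drop 8).drop 8).drop 8).drop 8).drop 9).drop 8).drop 8).drop 8).drop 8).drop 8).drop 8).drop 8).drop 8).drop 8).drop 7).drop 8).drop 9).drop 8) = true := by decide +kernel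

theorem cl0_31_1 : chkOn A 17 1 1 ((((((((((((((((((((((((((((((((cl0_l).drop 23).drop 9).drop 10).drop 10).drop 9).drop 9).drop 8).drop 8).drop 8).drop 8).drop 8).drop 8).drop 8).drop 8).drop 8).drop 8).drop 8).drop 9).drop 8).drop 8).drop 8).drop 8).drop 8).drop 8).drop 8).drop 8).drop 8).drop 7).drop 8).drop 9).drop 8) = true := by decide +kernel

theorem cl0_31_2 : chkOn A 17 2 1 ((((((((((((((((((((((((((((((((cl0_l).drop 23).drop 9).drop 10).drop 10).drop 9).drop 9).drop 8).drop 8).drop 8).drop 8).drop 8).drop 8).drop 8).drop 8).drop 8).drop 8).drop 8).drop 9).drop 8).drop 8).drop 8).drop 8).drop 8).drop 8).drop 8).drop 8).drop 8).drop 7).drop 8).drop 9).drop 8) = true := by decide +kernel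

theorem cl0_31_3 : chkOn A 17 3 1 ((((((((((((((((((((((((((((((((cl0_l).drop 23).drop 9).drop 10).drop 10).drop 9).drop 9).drop 8).drop 8).drop 8).drop 8).drop 8).drop 8).drop 8).drop 8).drop 8).drop 8).drop 8).drop 9).drop 8).drop 8).drop 8).drop 8).drop 8).drop 8).drop 8).drop 8).drop 8).drop 7).drop 8).drop 9).drop 8) = true := by decide +kernel

theorem cl0_31_4 : chkOn A 17 4 1 ((((((((((((((((((((((((((((((((cl0_l).drop 23).drop 9).drop 10).drop 10).drop 9).drop 9).drop 8).drop 8).drop 8).drop 8).drop 8).drop 8).drop 8).drop 8).drop 8).drop 8).drop 8).drop 9).drop 8).drop 8).drop 8).drop 8).drop 8).drop 8).drop 8).drop 8).drop 8).drop 7).drop 8).drop 9).drop 8) = true := by decide +kernel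

theorem cl0_31_5 : chkOn A 17 5 1 ((((((((((((((((((((((((((((((((cl0_l).drop 23).drop 9).drop 10).drop 10).drop 9).drop 9).drop 8).drop 8).drop 8).drop 8).drop 8).drop 8).drop 8).drop 8).drop 8).drop 8).drop 8).drop 9).drop 8).drop 8).drop 8).drop 8).drop 8).drop 8).drop 8).drop 8).drop 8).drop 7).drop 8).drop 9).drop 8) = true := by decide +kernel

theorem cl0_31_6 : chkOn A 17 6 1 ((((((((((((((((((((((((((((((((cl0_l).drop 23).drop 9).drop 10).drop 10).drop 9).drop 9).drop 8).drop 8).drop 8).drop 8).drop 8).drop 8).drop 8).drop 8).drop 8).drop 8).drop 8).drop 9).drop 8).drop 8).drop 8).drop 8).drop 8).drop 8).drop 8).drop 8).drop 8).drop 7).drop 8).drop 9).drop 8) = true := by decide +kernel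

theorem cl0_31_7 : chkOn A 17 7 1 ((((((((((((((((((((((((((((((((cl0_l).drop 23).drop 9).drop 10).drop 10).drop 9).drop 9).drop 8).drop 8).drop 8).drop 8).drop 8).drop 8).drop 8).drop 8).drop 8).drop 8).drop 8).drop 9).drop 8).drop 8).drop 8).drop 8).drop 8).drop 8).drop 8).drop 8).drop 8).drop 7).drop 8).drop 9).drop 8) = true := by decide +kernel

theorem cl0_31_8 : chkOn A 17 8 1 ((((((((((((((((((((((((((((((((cl0_l).drop 23).drop 9).drop 10).drop 10).drop 9).drop 9).drop 8).drop 8).drop 8).drop 8).drop 8).drop 8).drop 8).drop 8).drop 8).drop 8).drop 8).drop 9).drop 8).drop 8).drop 8).drop 8).drop 8).drop 8).drop 8).drop 8).drop 8).drop 7).drop 8).drop 9).drop 8) = true := by decide +kernel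

theorem cl0_31_9 : chkOn A 17 9 1 ((((((((((((((((((((((((((((((((cl0_l).drop 23).drop 9).drop 10).drop 10).drop 9).drop 9).drop 8).drop 8).drop 8).drop 8).drop 8).drop 8).drop 8).drop 8).drop 8).drop 8).drop 8).drop 9).drop 8).drop 8).drop 8).drop 8).drop 8).drop 8).drop 8).drop 8).drop 8).drop 7).drop 8).drop 9).drop 8) = true := by decide +kernel

theorem cl0_31_10 : chkOn A 17 10 1 ((((((((((((((((((((((((((((((((cl0_l).drop 23).drop 9).drop 10).drop 10).drop 9).drop 9).drop 8).drop 8).drop 8).drop 8).drop 8).drop 8).drop 8).drop 8).drop 8).drop 8).drop 8).drop 9).drop 8).drop 8).drop 8).drop 8).drop 8).drop 8).drop 8).drop 8).drop 8).drop 7).drop 8).drop 9).drop 8) = true := by decide +kernel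

theorem cl0_31_11 : chkOn A 17 11 1 ((((((((((((((((((((((((((((((((cl0_l).drop 23).drop 9).drop 10).drop 10).drop 9).drop 9).drop 8).drop 8).drop 8).drop 8).drop 8).drop 8).drop 8).drop 8).drop 8).drop 8).drop 8).drop 9).drop 8).drop 8).drop 8).drop 8).drop 8).drop 8).drop 8).drop 8).drop 8).drop 7).drop 8).drop 9).drop 8) = true := by decide +kernel

theorem cl0_31_12 : chkOn A 17 12 1 ((((((((((((((((((((((((((((((((cl0_l).drop 23).drop 9).drop 10).drop 10).drop 9).drop 9).drop 8).drop 8).drop 8).drop 8).drop 8).drop 8).drop 8).drop 8).drop 8).drop 8).drop 8).drop 9).drop 8).drop 8).drop 8).drop 8).drop 8).drop 8).drop 8).drop 8).drop 8).drop 7).drop 8).drop 9).drop 8) = true := by decide +kernel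

theorem cl0_31_13 : chkOn A 17 13 1 ((((((((((((((((((((((((((((((((cl0_l).drop 23).drop 9).drop 10).drop 10).drop 9).drop 9).drop 8).drop 8).drop 8).drop 8).drop 8).drop 8).drop 8).drop 8).drop 8).drop 8).drop 8).drop 9).drop 8).drop 8).drop 8).drop 8).drop 8).drop 8).drop 8).drop 8).drop 8).drop 7).drop 8).drop 9).drop 8) = true := by decide +kernel

theorem cl0_31_14 : chkOn A 17 14 1 ((((((((((((((((((((((((((((((((cl0_l).drop 23).drop 9).drop 10).drop 10).drop 9).drop 9).drop 8).drop 8).drop 8).drop 8).drop 8).drop 8).drop 8).drop 8).drop 8).drop 8).drop 8).drop 9).drop 8).drop 8).drop 8).drop 8).drop 8).drop 8).drop 8).drop 8).drop 8).drop 7).drop 8).drop 9).drop 8) = true := by decide +kernel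

theorem cl0_31_15 : chkOn A 17 15 1 ((((((((((((((((((((((((((((((((cl0_l).drop 23).drop 9).drop 10).drop 10).drop 9).drop 9).drop 8).drop 8).drop 8).drop 8).drop 8).drop 8).drop 8).drop 8).drop 8).drop 8).drop 8).drop 9).drop 8).drop 8).drop 8).drop 8).drop 8).drop 8).drop 8).drop 8).drop 8).drop 7).drop 8).drop 9).drop 8) = true := by decide +kernel

theorem cl0_31_16 : chkOn A 17 16 1 ((((((((((((((((((((((((((((((((cl0_l).drop 23).drop 9).drop 10).drop 10).drop 9).drop 9).drop 8).drop 8).drop 8).drop 8).drop 8).drop 8).drop 8).drop 8).drop 8).drop 8).drop 8).drop 9).drop 8).drop 8).drop 8).drop 8).drop 8).drop 8).drop 8).drop 8).drop 8).drop 7).drop 8).drop 9).drop 8) = true := by decide +kernel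

theorem ok0 : dcShape A 0 2 266 272 (korb A 1 272 7) cj0 reps0 = true := by decide +kernel

theorem ok0_0 : allL ((reps0).take 1) (repOK A (0 + 1) 272 (korb A 1 272 7)) = true := by decide +kernel

theorem ok0_1 : allL (((reps0).drop 1).take 1) (repOK A (0 + 1) 272 (korb A 1 272 7)) = true := by decide +kernel

theorem ok0_2 : allL ((((reps0).drop 1).drop 1).take 1) (repOK A (0 + 1) 272 (korb A 1 272 7)) = true := by decide +kernel

theorem ok0_3 : allL (((((reps0).drop 1).drop 1).drop 1).take 1) (repOK A (0 + 1) 272 (korb A 1 272 7)) = true := by decide +kernel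

theorem ok0_4 : allL (((((reps0).drop 1).drop 1).drop 1).drop 1) (repOK A (0 + 1) 272 (korb A 1 272 7)) = true := by decide +kernel

theorem orb0 : orbCardB A 14 0 266 7 122760 = true := by decide +kernel

theorem maxok0 : maxOK A 0 1 266 7 7 8 [0x100, 0x1000200, 0x10002020200, 0x1000200040300] = true := by decide +kernel

theorem ncloks0_6 : nclOK A 6 7 1 2 [[0x0218]] [(1, 0)] = true := by decide +kernel

theorem ncloks0_5 : nclOK A 5 6 0 2 [[0x0214]] [(1, 0), (1, 1)] = true := by decide +kernel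

theorem ncloks0_4 : nclOK A 4 5 3534 2 [[0x0210]] [(1, 0), (1, 1), (1, 2)] = true := by decide +kernel

theorem ncloks0_3 : nclOK A 3 4 2467 3 [[0x020c]] [(1, 0), (1, 1), (1, 2), (1, 3)] = true := by decide +kernel

theorem ncloks0_2 : nclOK A 2 3 2794 5 [] [(1, 0), (1, 1), (1, 2), (1, 3), (0x104040a, 2)] = true := by decide +kernel

theorem ncloks0_1 : nclOK A 1 2 272 6 [] [(1, 0), (1, 1), (1, 2), (1, 3), (1, 4), (0x10305, 0)] = true := by decide +kernel

theorem ncloks0_0 : nclOK A 0 1 266 6 [] [(1, 0), (1, 1), (1, 2), (1, 3), (1, 4), (1, 5), (0x1000202000208050205, 5)] = true := by decide +kernel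

theorem zcls0_0_0 : chkOn A 17 0 1 (zcls0_l) = true := by decide +kernel

theorem zcls0_0_1 : chkOn A 17 1 1 (zcls0_l) = true := by decide +kernel

theorem zcls0_0_2 : chkOn A 17 2 1 (zcls0_l) = true := by decide +kernel

theorem zcls0_0_3 : chkOn A 17 3 1 (zcls0_l) = true := by decide +kernel

theorem zcls0_0_4 : chkOn A 17 4 1 (zcls0_l) = true := by decide +kernel

theorem zcls0_0_5 : chkOn A 17 5 1 (zcls0_l) = true := by decide +kernel

theorem zcls0_0_6 : chkOn A 17 6 1 (zcls0_l) = true := by decide +kernel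

theorem zcls0_0_7 : chkOn A 17 7 1 (zcls0_l) = true := by decide +kernel

theorem zcls0_0_8 : chkOn A 17 8 1 (zcls0_l) = true := by decide +kernel

theorem zcls0_0_9 : chkOn A 17 9 1 (zcls0_l) = true := by decide +kernel

theorem zcls0_0_10 : chkOn A 17 10 1 (zcls0_l) = true := by decide +kernel

theorem zcls0_0_11 : chkOn A 17 11 1 (zcls0_l) = true := by decide +kernel

theorem zcls0_0_12 : chkOn A 17 12 1 (zcls0_l) = true := by decide +kernel

theorem zcls0_0_13 : chkOn A 17 13 1 (zcls0_l) = true := by decide +kernel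

theorem zcls0_0_14 : chkOn A 17 14 1 (zcls0_l) = true := by decide +kernel

theorem zcls0_0_15 : chkOn A 17 15 1 (zcls0_l) = true := by decide +kernel

theorem zcls0_0_16 : chkOn A 17 16 1 (zcls0_l) = true := by decide +kernel

theorem yp0_0_0 : chkOn A 17 0 1 (yp0_l) = true := by decide +kernel

theorem yp0_0_1 : chkOn A 17 1 1 (yp0_l) = true := by decide +kernel

theorem yp0_0_2 : chkOn A 17 2 1 (yp0_l) = true := by decide +kernel

theorem yp0_0_3 : chkOn A 17 3 1 (yp0_l) = true := by decide +kernel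

theorem yp0_0_4 : chkOn A 17 4 1 (yp0_l) = true := by decide +kernel

theorem yp0_0_5 : chkOn A 17 5 1 (yp0_l) = true := by decide +kernel

theorem yp0_0_6 : chkOn A 17 6 1 (yp0_l) = true := by decide +kernel

theorem yp0_0_7 : chkOn A 17 7 1 (yp0_l) = true := by decide +kernel

theorem yp0_0_8 : chkOn A 17 8 1 (yp0_l) = true := by decide +kernel

theorem yp0_0_9 : chkOn A 17 9 1 (yp0_l) = true := by decide +kernel

theorem yp0_0_10 : chkOn A 17 10 1 (yp0_l) = true := by decide +kernel

theorem yp0_0_11 : chkOn A 17 11 1 (yp0_l) = true := by decide +kernel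

theorem yp0_0_12 : chkOn A 17 12 1 (yp0_l) = true := by decide +kernel

theorem yp0_0_13 : chkOn A 17 13 1 (yp0_l) = true := by decide +kernel

theorem yp0_0_14 : chkOn A 17 14 1 (yp0_l) = true := by decide +kernel

theorem yp0_0_15 : chkOn A 17 15 1 (yp0_l) = true := by decide +kernel


end Cfsg.Agent.Spor.ON
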