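import Cfsg.Agent.Lib.Spor.ON.Defs

set_option autoImplicit false
set_option maxRecDepth 100000
set_option Elab.async false
set_option exponentiation.threshold 100000

namespace Cfsg.Agent.Spor.ON
open Cfsg.Agent.PG

theorem cl1_5_13 : chkOn A 17 13 1 (((((((cl1_l).drop 29).drop 13).drop 14).drop 14).drop 11).take 14) = true := by decide +kernel

theorem cl1_5_14 : chkOn A 17 14 1 (((((((cl1_l).drop 29).drop 13).drop 14).drop 14).drop 11).take 14) = true := by decide +kernel

theorem cl1_5_15 : chkOn A 17 15 1 (((((((cl1_l).drop 29).drop 13).drop 14).drop 14).drop 11).take 14) = true := by decide +kernel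

theorem cl1_5_16 : chkOn A 17 16 1 (((((((cl1_l).drop 29).drop 13).drop 14).drop 14).drop 11).take 14) = true := by decide +kernel

theorem cl1_6_0 : chkOn A 17 0 1 ((((((((cl1_l).drop 29).drop 13).drop 14).drop 14).drop 11).drop 14).take 14) = true := by decide +kernel

theorem cl1_6_1 : chkOn A 17 1 1 ((((((((cl1_l).drop 29).drop 13).drop 14).drop 14).drop 11).drop 14).take 14) = true := by decide +kernel

theorem cl1_6_2 : chkOn A 17 2 1 ((((((((cl1_l).drop 29).drop 13).drop 14).drop 14).drop 11).drop 14).take 14) = true := by decide +kernel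

theorem cl1_6_3 : chkOn A 17 3 1 ((((((((cl1_l).drop 29).drop 13).drop 14).drop 14).drop 11).drop 14).take 14) = true := by decide +kernel

theorem cl1_6_4 : chkOn A 17 4 1 ((((((((cl1_l).drop 29).drop 13).drop 14).drop 14).drop 11).drop 14).take 14) = true := by decide +kernel

theorem cl1_6_5 : chkOn A 17 5 1 ((((((((cl1_l).drop 29).drop 13).drop 14).drop 14).drop 11).drop 14).take 14) = true := by decide +kernel

theorem cl1_6_6 : chkOn A 17 6 1 ((((((((cl1_l).drop 29).drop 13).drop 14).drop 14).drop 11).drop 14).take 14) = true := by decide +kernel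

theorem cl1_6_7 : chkOn A 17 7 1 ((((((((cl1_l).drop 29).drop 13).drop 14).drop 14).drop 11).drop 14).take 14) = true := by decide +kernel

theorem cl1_6_8 : chkOn A 17 8 1 ((((((((cl1_l).drop 29).drop 13).drop 14).drop 14).drop 11).drop 14).take 14) = true := by decide +kernel

theorem cl1_6_9 : chkOn A 17 9 1 ((((((((cl1_l).drop 29).drop 13).drop 14).drop 14).drop 11).drop 14).take 14) = true := by decide +kernel

theorem cl1_6_10 : chkOn A 17 10 1 ((((((((cl1_l).drop 29).drop 13).drop 14).drop 14).drop 11).drop 14).take 14) = true := by decide +kernel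

theorem cl1_6_11 : chkOn A 17 11 1 ((((((((cl1_l).drop 29).drop 13).drop 14).drop 14).drop 11).drop 14).take 14) = true := by decide +kernel

theorem cl1_6_12 : chkOn A 17 12 1 ((((((((cl1_l).drop 29).drop 13).drop 14).drop 14).drop 11).drop 14).take 14) = true := by decide +kernel

theorem cl1_6_13 : chkOn A 17 13 1 ((((((((cl1_l).drop 29).drop 13).drop 14).drop 14).drop 11).drop 14).take 14) = true := by decide +kernel

theorem cl1_6_14 : chkOn A 17 14 1 ((((((((cl1_l).drop 29).drop 13).drop 14).drop 14).drop 11).drop 14).take 14) = true := by decide +kernel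

theorem cl1_6_15 : chkOn A 17 15 1 ((((((((cl1_l).drop 29).drop 13).drop 14).drop 14).drop 11).drop 14).take 14) = true := by decide +kernel

theorem cl1_6_16 : chkOn A 17 16 1 ((((((((cl1_l).drop 29).drop 13).drop 14).drop 14).drop 11).drop 14).take 14) = true := by decide +kernel

theorem cl1_7_0 : chkOn A 17 0 1 (((((((((cl1_l).drop 29).drop 13).drop 14).drop 14).drop 11).drop 14).drop 14).take 12) = true := by decide +kernel

theorem cl1_7_1 : chkOn A 17 1 1 (((((((((cl1_l).drop 29).drop 13).drop 14).drop 14).drop 11).drop 14).drop 14).take 12) = true := by decide +kernel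

theorem cl1_7_2 : chkOn A 17 2 1 (((((((((cl1_l).drop 29).drop 13).drop 14).drop 14).drop 11).drop 14).drop 14).take 12) = true := by decide +kernel

theorem cl1_7_3 : chkOn A 17 3 1 (((((((((cl1_l).drop 29).drop 13).drop 14).drop 14).drop 11).drop 14).drop 14).take 12) = true := by decide +kernel

theorem cl1_7_4 : chkOn A 17 4 1 (((((((((cl1_l).drop 29).drop 13).drop 14).drop 14).drop 11).drop 14).drop 14).take 12) = true := by decide +kernel

theorem cl1_7_5 : chkOn A 17 5 1 (((((((((cl1_l).drop 29).drop 13).drop 14).drop 14).drop 11).drop 14).drop 14).take 12) = true := by decide +kernel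

theorem cl1_7_6 : chkOn A 17 6 1 (((((((((cl1_l).drop 29).drop 13).drop 14).drop 14).drop 11).drop 14).drop 14).take 12) = true := by decide +kernel

theorem cl1_7_7 : chkOn A 17 7 1 (((((((((cl1_l).drop 29).drop 13).drop 14).drop 14).drop 11).drop 14).drop 14).take 12) = true := by decide +kernel

theorem cl1_7_8 : chkOn A 17 8 1 (((((((((cl1_l).drop 29).drop 13).drop 14).drop 14).drop 11).drop 14).drop 14).take 12) = true := by decide +kernel

theorem cl1_7_9 : chkOn A 17 9 1 (((((((((cl1_l).drop 29).drop 13).drop 14).drop 14).drop 11).drop 14).drop 14).take 12) = true := by decide +kernel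

theorem cl1_7_10 : chkOn A 17 10 1 (((((((((cl1_l).drop 29).drop 13).drop 14).drop 14).drop 11).drop 14).drop 14).take 12) = true := by decide +kernel

theorem cl1_7_11 : chkOn A 17 11 1 (((((((((cl1_l).drop 29).drop 13).drop 14).drop 14).drop 11).drop 14).drop 14).take 12) = true := by decide +kernel

theorem cl1_7_12 : chkOn A 17 12 1 (((((((((cl1_l).drop 29).drop 13).drop 14).drop 14).drop 11).drop 14).drop 14).take 12) = true := by decide +kernel

theorem cl1_7_13 : chkOn A 17 13 1 (((((((((cl1_l).drop 29).drop 13).drop 14).drop 14).drop 11).drop 14).drop 14).take 12) = true := by decide +kernel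

theorem cl1_7_14 : chkOn A 17 14 1 (((((((((cl1_l).drop 29).drop 13).drop 14).drop 14).drop 11).drop 14).drop 14).take 12) = true := by decide +kernel

theorem cl1_7_15 : chkOn A 17 15 1 (((((((((cl1_l).drop 29).drop 13).drop 14).drop 14).drop 11).drop 14).drop 14).take 12) = true := by decide +kernel

theorem cl1_7_16 : chkOn A 17 16 1 (((((((((cl1_l).drop 29).drop 13).drop 14).drop 14).drop 11).drop 14).drop 14).take 12) = true := by decide +kernel

theorem cl1_8_0 : chkOn A 17 0 1 ((((((((((cl1_l).drop 29).drop 13).drop 14).drop 14).drop 11).drop 14).drop 14).drop 12).take 12) = true := by decide +kernel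

theorem cl1_8_1 : chkOn A 17 1 1 ((((((((((cl1_l).drop 29).drop 13).drop 14).drop 14).drop 11).drop 14).drop 14).drop 12).take 12) = true := by decide +kernel

theorem cl1_8_2 : chkOn A 17 2 1 ((((((((((cl1_l).drop 29).drop 13).drop 14).drop 14).drop 11).drop 14).drop 14).drop 12).take 12) = true := by decide +kernel

theorem cl1_8_3 : chkOn A 17 3 1 ((((((((((cl1_l).drop 29).drop 13).drop 14).drop 14).drop 11).drop 14).drop 14).drop 12).take 12) = true := by decide +kernel

theorem cl1_8_4 : chkOn A 17 4 1 ((((((((((cl1_l).drop 29).drop 13).drop 14).drop 14).drop 11).drop 14).drop 14).drop 12).take 12) = true := by decide +kernel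

theorem cl1_8_5 : chkOn A 17 5 1 ((((((((((cl1_l).drop 29).drop 13).drop 14).drop 14).drop 11).drop 14).drop 14).drop 12).take 12) = true := by decide +kernel

theorem cl1_8_6 : chkOn A 17 6 1 ((((((((((cl1_l).drop 29).drop 13).drop 14).drop 14).drop 11).drop 14).drop 14).drop 12).take 12) = true := by decide +kernel

theorem cl1_8_7 : chkOn A 17 7 1 ((((((((((cl1_l).drop 29).drop 13).drop 14).drop 14).drop 11).drop 14).drop 14).drop 12).take 12) = true := by decide +kernel

theorem cl1_8_8 : chkOn A 17 8 1 ((((((((((cl1_l).drop 29).drop 13).drop 14).drop 14).drop 11).drop 14).drop 14).drop 12).take 12) = true := by decide +kernel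

theorem cl1_8_9 : chkOn A 17 9 1 ((((((((((cl1_l).drop 29).drop 13).drop 14).drop 14).drop 11).drop 14).drop 14).drop 12).take 12) = true := by decide +kernel

theorem cl1_8_10 : chkOn A 17 10 1 ((((((((((cl1_l).drop 29).drop 13).drop 14).drop 14).drop 11).drop 14).drop 14).drop 12).take 12) = true := by decide +kernel

theorem cl1_8_11 : chkOn A 17 11 1 ((((((((((cl1_l).drop 29).drop 13).drop 14).drop 14).drop 11).drop 14).drop 14).drop 12).take 12) = true := by decide +kernel

theorem cl1_8_12 : chkOn A 17 12 1 ((((((((((cl1_l).drop 29).drop 13).drop 14).drop 14).drop 11).drop 14).drop 14).drop 12).take 12) = true := by decide +kernel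

theorem cl1_8_13 : chkOn A 17 13 1 ((((((((((cl1_l).drop 29).drop 13).drop 14).drop 14).drop 11).drop 14).drop 14).drop 12).take 12) = true := by decide +kernel

theorem cl1_8_14 : chkOn A 17 14 1 ((((((((((cl1_l).drop 29).drop 13).drop 14).drop 14).drop 11).drop 14).drop 14).drop 12).take 12) = true := by decide +kernel

theorem cl1_8_15 : chkOn A 17 15 1 ((((((((((cl1_l).drop 29).drop 13).drop 14).drop 14).drop 11).drop 14).drop 14).drop 12).take 12) = true := by decide +kernel

theorem cl1_8_16 : chkOn A 17 16 1 ((((((((((cl1_l).drop 29).drop 13).drop 14).drop 14).drop 11).drop 14).drop 14).drop 12).take 12) = true := by decide +kernel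

theorem cl1_9_0 : chkOn A 17 0 1 (((((((((((cl1_l).drop 29).drop 13).drop 14).drop 14).drop 11).drop 14).drop 14).drop 12).drop 12).take 12) = true := by decide +kernel

theorem cl1_9_1 : chkOn A 17 1 1 (((((((((((cl1_l).drop 29).drop 13).drop 14).drop 14).drop 11).drop 14).drop 14).drop 12).drop 12).take 12) = true := by decide +kernel

theorem cl1_9_2 : chkOn A 17 2 1 (((((((((((cl1_l).drop 29).drop 13).drop 14).drop 14).drop 11).drop 14).drop 14).drop 12).drop 12).take 12) = true := by decide +kernel

theorem cl1_9_3 : chkOn A 17 3 1 (((((((((((cl1_l).drop 29).drop 13).drop 14).drop 14).drop 11).drop 14).drop 14).drop 12).drop 12).take 12) = true := by decide +kernel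

theorem cl1_9_4 : chkOn A 17 4 1 (((((((((((cl1_l).drop 29).drop 13).drop 14).drop 14).drop 11).drop 14).drop 14).drop 12).drop 12).take 12) = true := by decide +kernel

theorem cl1_9_5 : chkOn A 17 5 1 (((((((((((cl1_l).drop 29).drop 13).drop 14).drop 14).drop 11).drop 14).drop 14).drop 12).drop 12).take 12) = true := by decide +kernel

theorem cl1_9_6 : chkOn A 17 6 1 (((((((((((cl1_l).drop 29).drop 13).drop 14).drop 14).drop 11).drop 14).drop 14).drop 12).drop 12).take 12) = true := by decide +kernel


end Cfsg.Agent.Spor.ON
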