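import Cfsg.Agent.Lib.Spor.ON.Defs

set_option autoImplicit false
set_option maxRecDepth 100000
set_option Elab.async false
set_option exponentiation.threshold 100000

namespace Cfsg.Agent.Spor.ON
open Cfsg.Agent.PG

theorem cl1_9_7 : chkOn A 17 7 1 (((((((((((cl1_l).drop 29).drop 13).drop 14).drop 14).drop 11).drop 14).drop 14).drop 12).drop 12).take 12) = true := by decide +kernel

theorem cl1_9_8 : chkOn A 17 8 1 (((((((((((cl1_l).drop 29).drop 13).drop 14).drop 14).drop 11).drop 14).drop 14).drop 12).drop 12).take 12) = true := by decide +kernel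

theorem cl1_9_9 : chkOn A 17 9 1 (((((((((((cl1_l).drop 29).drop 13).drop 14).drop 14).drop 11).drop 14).drop 14).drop 12).drop 12).take 12) = true := by decide +kernel

theorem cl1_9_10 : chkOn A 17 10 1 (((((((((((cl1_l).drop 29).drop 13).drop 14).drop 14).drop 11).drop 14).drop 14).drop 12).drop 12).take 12) = true := by decide +kernel

theorem cl1_9_11 : chkOn A 17 11 1 (((((((((((cl1_l).drop 29).drop 13).drop 14).drop 14).drop 11).drop 14).drop 14).drop 12).drop 12).take 12) = true := by decide +kernel

theorem cl1_9_12 : chkOn A 17 12 1 (((((((((((cl1_l).drop 29).drop 13).drop 14).drop 14).drop 11).drop 14).drop 14).drop 12).drop 12).take 12) = true := by decide +kernel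

theorem cl1_9_13 : chkOn A 17 13 1 (((((((((((cl1_l).drop 29).drop 13).drop 14).drop 14).drop 11).drop 14).drop 14).drop 12).drop 12).take 12) = true := by decide +kernel

theorem cl1_9_14 : chkOn A 17 14 1 (((((((((((cl1_l).drop 29).drop 13).drop 14).drop 14).drop 11).drop 14).drop 14).drop 12).drop 12).take 12) = true := by decide +kernel

theorem cl1_9_15 : chkOn A 17 15 1 (((((((((((cl1_l).drop 29).drop 13).drop 14).drop 14).drop 11).drop 14).drop 14).drop 12).drop 12).take 12) = true := by decide +kernel

theorem cl1_9_16 : chkOn A 17 16 1 (((((((((((cl1_l).drop 29).drop 13).drop 14).drop 14).drop 11).drop 14).drop 14).drop 12).drop 12).take 12) = true := by decide +kernel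

theorem cl1_10_0 : chkOn A 17 0 1 ((((((((((((cl1_l).drop 29).drop 13).drop 14).drop 14).drop 11).drop 14).drop 14).drop 12).drop 12).drop 12).take 13) = true := by decide +kernel

theorem cl1_10_1 : chkOn A 17 1 1 ((((((((((((cl1_l).drop 29).drop 13).drop 14).drop 14).drop 11).drop 14).drop 14).drop 12).drop 12).drop 12).take 13) = true := by decide +kernel

theorem cl1_10_2 : chkOn A 17 2 1 ((((((((((((cl1_l).drop 29).drop 13).drop 14).drop 14).drop 11).drop 14).drop 14).drop 12).drop 12).drop 12).take 13) = true := by decide +kernel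

theorem cl1_10_3 : chkOn A 17 3 1 ((((((((((((cl1_l).drop 29).drop 13).drop 14).drop 14).drop 11).drop 14).drop 14).drop 12).drop 12).drop 12).take 13) = true := by decide +kernel

theorem cl1_10_4 : chkOn A 17 4 1 ((((((((((((cl1_l).drop 29).drop 13).drop 14).drop 14).drop 11).drop 14).drop 14).drop 12).drop 12).drop 12).take 13) = true := by decide +kernel

theorem cl1_10_5 : chkOn A 17 5 1 ((((((((((((cl1_l).drop 29).drop 13).drop 14).drop 14).drop 11).drop 14).drop 14).drop 12).drop 12).drop 12).take 13) = true := by decide +kernel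

theorem cl1_10_6 : chkOn A 17 6 1 ((((((((((((cl1_l).drop 29).drop 13).drop 14).drop 14).drop 11).drop 14).drop 14).drop 12).drop 12).drop 12).take 13) = true := by decide +kernel

theorem cl1_10_7 : chkOn A 17 7 1 ((((((((((((cl1_l).drop 29).drop 13).drop 14).drop 14).drop 11).drop 14).drop 14).drop 12).drop 12).drop 12).take 13) = true := by decide +kernel

theorem cl1_10_8 : chkOn A 17 8 1 ((((((((((((cl1_l).drop 29).drop 13).drop 14).drop 14).drop 11).drop 14).drop 14).drop 12).drop 12).drop 12).take 13) = true := by decide +kernel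

theorem cl1_10_9 : chkOn A 17 9 1 ((((((((((((cl1_l).drop 29).drop 13).drop 14).drop 14).drop 11).drop 14).drop 14).drop 12).drop 12).drop 12).take 13) = true := by decide +kernel

theorem cl1_10_10 : chkOn A 17 10 1 ((((((((((((cl1_l).drop 29).drop 13).drop 14).drop 14).drop 11).drop 14).drop 14).drop 12).drop 12).drop 12).take 13) = true := by decide +kernel

theorem cl1_10_11 : chkOn A 17 11 1 ((((((((((((cl1_l).drop 29).drop 13).drop 14).drop 14).drop 11).drop 14).drop 14).drop 12).drop 12).drop 12).take 13) = true := by decide +kernel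

theorem cl1_10_12 : chkOn A 17 12 1 ((((((((((((cl1_l).drop 29).drop 13).drop 14).drop 14).drop 11).drop 14).drop 14).drop 12).drop 12).drop 12).take 13) = true := by decide +kernel

theorem cl1_10_13 : chkOn A 17 13 1 ((((((((((((cl1_l).drop 29).drop 13).drop 14).drop 14).drop 11).drop 14).drop 14).drop 12).drop 12).drop 12).take 13) = true := by decide +kernel

theorem cl1_10_14 : chkOn A 17 14 1 ((((((((((((cl1_l).drop 29).drop 13).drop 14).drop 14).drop 11).drop 14).drop 14).drop 12).drop 12).drop 12).take 13) = true := by decide +kernel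

theorem cl1_10_15 : chkOn A 17 15 1 ((((((((((((cl1_l).drop 29).drop 13).drop 14).drop 14).drop 11).drop 14).drop 14).drop 12).drop 12).drop 12).take 13) = true := by decide +kernel

theorem cl1_10_16 : chkOn A 17 16 1 ((((((((((((cl1_l).drop 29).drop 13).drop 14).drop 14).drop 11).drop 14).drop 14).drop 12).drop 12).drop 12).take 13) = true := by decide +kernel

theorem cl1_11_0 : chkOn A 17 0 1 (((((((((((((cl1_l).drop 29).drop 13).drop 14).drop 14).drop 11).drop 14).drop 14).drop 12).drop 12).drop 12).drop 13).take 13) = true := by decide +kernel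

theorem cl1_11_1 : chkOn A 17 1 1 (((((((((((((cl1_l).drop 29).drop 13).drop 14).drop 14).drop 11).drop 14).drop 14).drop 12).drop 12).drop 12).drop 13).take 13) = true := by decide +kernel

theorem cl1_11_2 : chkOn A 17 2 1 (((((((((((((cl1_l).drop 29).drop 13).drop 14).drop 14).drop 11).drop 14).drop 14).drop 12).drop 12).drop 12).drop 13).take 13) = true := by decide +kernel

theorem cl1_11_3 : chkOn A 17 3 1 (((((((((((((cl1_l).drop 29).drop 13).drop 14).drop 14).drop 11).drop 14).drop 14).drop 12).drop 12).drop 12).drop 13).take 13) = true := by decide +kernel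

theorem cl1_11_4 : chkOn A 17 4 1 (((((((((((((cl1_l).drop 29).drop 13).drop 14).drop 14).drop 11).drop 14).drop 14).drop 12).drop 12).drop 12).drop 13).take 13) = true := by decide +kernel

theorem cl1_11_5 : chkOn A 17 5 1 (((((((((((((cl1_l).drop 29).drop 13).drop 14).drop 14).drop 11).drop 14).drop 14).drop 12).drop 12).drop 12).drop 13).take 13) = true := by decide +kernel

theorem cl1_11_6 : chkOn A 17 6 1 (((((((((((((cl1_l).drop 29).drop 13).drop 14).drop 14).drop 11).drop 14).drop 14).drop 12).drop 12).drop 12).drop 13).take 13) = true := by decide +kernel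

theorem cl1_11_7 : chkOn A 17 7 1 (((((((((((((cl1_l).drop 29).drop 13).drop 14).drop 14).drop 11).drop 14).drop 14).drop 12).drop 12).drop 12).drop 13).take 13) = true := by decide +kernel

theorem cl1_11_8 : chkOn A 17 8 1 (((((((((((((cl1_l).drop 29).drop 13).drop 14).drop 14).drop 11).drop 14).drop 14).drop 12).drop 12).drop 12).drop 13).take 13) = true := by decide +kernel

theorem cl1_11_9 : chkOn A 17 9 1 (((((((((((((cl1_l).drop 29).drop 13).drop 14).drop 14).drop 11).drop 14).drop 14).drop 12).drop 12).drop 12).drop 13).take 13) = true := by decide +kernel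

theorem cl1_11_10 : chkOn A 17 10 1 (((((((((((((cl1_l).drop 29).drop 13).drop 14).drop 14).drop 11).drop 14).drop 14).drop 12).drop 12).drop 12).drop 13).take 13) = true := by decide +kernel

theorem cl1_11_11 : chkOn A 17 11 1 (((((((((((((cl1_l).drop 29).drop 13).drop 14).drop 14).drop 11).drop 14).drop 14).drop 12).drop 12).drop 12).drop 13).take 13) = true := by decide +kernel

theorem cl1_11_12 : chkOn A 17 12 1 (((((((((((((cl1_l).drop 29).drop 13).drop 14).drop 14).drop 11).drop 14).drop 14).drop 12).drop 12).drop 12).drop 13).take 13) = true := by decide +kernel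

theorem cl1_11_13 : chkOn A 17 13 1 (((((((((((((cl1_l).drop 29).drop 13).drop 14).drop 14).drop 11).drop 14).drop 14).drop 12).drop 12).drop 12).drop 13).take 13) = true := by decide +kernel

theorem cl1_11_14 : chkOn A 17 14 1 (((((((((((((cl1_l).drop 29).drop 13).drop 14).drop 14).drop 11).drop 14).drop 14).drop 12).drop 12).drop 12).drop 13).take 13) = true := by decide +kernel

theorem cl1_11_15 : chkOn A 17 15 1 (((((((((((((cl1_l).drop 29).drop 13).drop 14).drop 14).drop 11).drop 14).drop 14).drop 12).drop 12).drop 12).drop 13).take 13) = true := by decide +kernel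

theorem cl1_11_16 : chkOn A 17 16 1 (((((((((((((cl1_l).drop 29).drop 13).drop 14).drop 14).drop 11).drop 14).drop 14).drop 12).drop 12).drop 12).drop 13).take 13) = true := by decide +kernel

theorem cl1_12_0 : chkOn A 17 0 1 ((((((((((((((cl1_l).drop 29).drop 13).drop 14).drop 14).drop 11).drop 14).drop 14).drop 12).drop 12).drop 12).drop 13).drop 13).take 12) = true := by decide +kernel

theorem cl1_12_1 : chkOn A 17 1 1 ((((((((((((((cl1_l).drop 29).drop 13).drop 14).drop 14).drop 11).drop 14).drop 14).drop 12).drop 12).drop 12).drop 13).drop 13).take 12) = true := by decide +kernel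

theorem cl1_12_2 : chkOn A 17 2 1 ((((((((((((((cl1_l).drop 29).drop 13).drop 14).drop 14).drop 11).drop 14).drop 14).drop 12).drop 12).drop 12).drop 13).drop 13).take 12) = true := by decide +kernel

theorem cl1_12_3 : chkOn A 17 3 1 ((((((((((((((cl1_l).drop 29).drop 13).drop 14).drop 14).drop 11).drop 14).drop 14).drop 12).drop 12).drop 12).drop 13).drop 13).take 12) = true := by decide +kernel

theorem cl1_12_4 : chkOn A 17 4 1 ((((((((((((((cl1_l).drop 29).drop 13).drop 14).drop 14).drop 11).drop 14).drop 14).drop 12).drop 12).drop 12).drop 13).drop 13).take 12) = true := by decide +kernel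

theorem cl1_12_5 : chkOn A 17 5 1 ((((((((((((((cl1_l).drop 29).drop 13).drop 14).drop 14).drop 11).drop 14).drop 14).drop 12).drop 12).drop 12).drop 13).drop 13).take 12) = true := by decide +kernel

theorem cl1_12_6 : chkOn A 17 6 1 ((((((((((((((cl1_l).drop 29).drop 13).drop 14).drop 14).drop 11).drop 14).drop 14).drop 12).drop 12).drop 12).drop 13).drop 13).take 12) = true := by decide +kernel

theorem cl1_12_7 : chkOn A 17 7 1 ((((((((((((((cl1_l).drop 29).drop 13).drop 14).drop 14).drop 11).drop 14).drop 14).drop 12).drop 12).drop 12).drop 13).drop 13).take 12) = true := by decide +kernel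

theorem cl1_12_8 : chkOn A 17 8 1 ((((((((((((((cl1_l).drop 29).drop 13).drop 14).drop 14).drop 11).drop 14).drop 14).drop 12).drop 12).drop 12).drop 13).drop 13).take 12) = true := by decide +kernel

theorem cl1_12_9 : chkOn A 17 9 1 ((((((((((((((cl1_l).drop 29).drop 13).drop 14).drop 14).drop 11).drop 14).drop 14).drop 12).drop 12).drop 12).drop 13).drop 13).take 12) = true := by decide +kernel

theorem cl1_12_10 : chkOn A 17 10 1 ((((((((((((((cl1_l).drop 29).drop 13).drop 14).drop 14).drop 11).drop 14).drop 14).drop 12).drop 12).drop 12).drop 13).drop 13).take 12) = true := by decide +kernel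

theorem cl1_12_11 : chkOn A 17 11 1 ((((((((((((((cl1_l).drop 29).drop 13).drop 14).drop 14).drop 11).drop 14).drop 14).drop 12).drop 12).drop 12).drop 13).drop 13).take 12) = true := by decide +kernel

theorem cl1_12_12 : chkOn A 17 12 1 ((((((((((((((cl1_l).drop 29).drop 13).drop 14).drop 14).drop 11).drop 14).drop 14).drop 12).drop 12).drop 12).drop 13).drop 13).take 12) = true := by decide +kernel

theorem cl1_12_13 : chkOn A 17 13 1 ((((((((((((((cl1_l).drop 29).drop 13).drop 14).drop 14).drop 11).drop 14).drop 14).drop 12).drop 12).drop 12).drop 13).drop 13).take 12) = true := by decide +kernel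

theorem cl1_12_14 : chkOn A 17 14 1 ((((((((((((((cl1_l).drop 29).drop 13).drop 14).drop 14).drop 11).drop 14).drop 14).drop 12).drop 12).drop 12).drop 13).drop 13).take 12) = true := by decide +kernel

theorem cl1_12_15 : chkOn A 17 15 1 ((((((((((((((cl1_l).drop 29).drop 13).drop 14).drop 14).drop 11).drop 14).drop 14).drop 12).drop 12).drop 12).drop 13).drop 13).take 12) = true := by decide +kernel

theorem cl1_12_16 : chkOn A 17 16 1 ((((((((((((((cl1_l).drop 29).drop 13).drop 14).drop 14).drop 11).drop 14).drop 14).drop 12).drop 12).drop 12).drop 13).drop 13).take 12) = true := by decide +kernel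

theorem cl1_13_0 : chkOn A 17 0 1 (((((((((((((((cl1_l).drop 29).drop 13).drop 14).drop 14).drop 11).drop 14).drop 14).drop 12).drop 12).drop 12).drop 13).drop 13).drop 12).take 12) = true := by decide +kernel


end Cfsg.Agent.Spor.ON
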