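import Cfsg.Agent.Lib.Spor.ON.Defs

set_option autoImplicit false
set_option maxRecDepth 100000
set_option Elab.async false
set_option exponentiation.threshold 100000

namespace Cfsg.Agent.Spor.ON
open Cfsg.Agent.PG

theorem cl1_13_1 : chkOn A 17 1 1 (((((((((((((((cl1_l).drop 29).drop 13).drop 14).drop 14).drop 11).drop 14).drop 14).drop 12).drop 12).drop 12).drop 13).drop 13).drop 12).take 12) = true := by decide +kernel

theorem cl1_13_2 : chkOn A 17 2 1 (((((((((((((((cl1_l).drop 29).drop 13).drop 14).drop 14).drop 11).drop 14).drop 14).drop 12).drop 12).drop 12).drop 13).drop 13).drop 12).take 12) = true := by decide +kernel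

theorem cl1_13_3 : chkOn A 17 3 1 (((((((((((((((cl1_l).drop 29).drop 13).drop 14).drop 14).drop 11).drop 14).drop 14).drop 12).drop 12).drop 12).drop 13).drop 13).drop 12).take 12) = true := by decide +kernel

theorem cl1_13_4 : chkOn A 17 4 1 (((((((((((((((cl1_l).drop 29).drop 13).drop 14).drop 14).drop 11).drop 14).drop 14).drop 12).drop 12).drop 12).drop 13).drop 13).drop 12).take 12) = true := by decide +kernel

theorem cl1_13_5 : chkOn A 17 5 1 (((((((((((((((cl1_l).drop 29).drop 13).drop 14).drop 14).drop 11).drop 14).drop 14).drop 12).drop 12).drop 12).drop 13).drop 13).drop 12).take 12) = true := by decide +kernel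

theorem cl1_13_6 : chkOn A 17 6 1 (((((((((((((((cl1_l).drop 29).drop 13).drop 14).drop 14).drop 11).drop 14).drop 14).drop 12).drop 12).drop 12).drop 13).drop 13).drop 12).take 12) = true := by decide +kernel

theorem cl1_13_7 : chkOn A 17 7 1 (((((((((((((((cl1_l).drop 29).drop 13).drop 14).drop 14).drop 11).drop 14).drop 14).drop 12).drop 12).drop 12).drop 13).drop 13).drop 12).take 12) = true := by decide +kernel

theorem cl1_13_8 : chkOn A 17 8 1 (((((((((((((((cl1_l).drop 29).drop 13).drop 14).drop 14).drop 11).drop 14).drop 14).drop 12).drop 12).drop 12).drop 13).drop 13).drop 12).take 12) = true := by decide +kernel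

theorem cl1_13_9 : chkOn A 17 9 1 (((((((((((((((cl1_l).drop 29).drop 13).drop 14).drop 14).drop 11).drop 14).drop 14).drop 12).drop 12).drop 12).drop 13).drop 13).drop 12).take 12) = true := by decide +kernel

theorem cl1_13_10 : chkOn A 17 10 1 (((((((((((((((cl1_l).drop 29).drop 13).drop 14).drop 14).drop 11).drop 14).drop 14).drop 12).drop 12).drop 12).drop 13).drop 13).drop 12).take 12) = true := by decide +kernel

theorem cl1_13_11 : chkOn A 17 11 1 (((((((((((((((cl1_l).drop 29).drop 13).drop 14).drop 14).drop 11).drop 14).drop 14).drop 12).drop 12).drop 12).drop 13).drop 13).drop 12).take 12) = true := by decide +kernel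

theorem cl1_13_12 : chkOn A 17 12 1 (((((((((((((((cl1_l).drop 29).drop 13).drop 14).drop 14).drop 11).drop 14).drop 14).drop 12).drop 12).drop 12).drop 13).drop 13).drop 12).take 12) = true := by decide +kernel

theorem cl1_13_13 : chkOn A 17 13 1 (((((((((((((((cl1_l).drop 29).drop 13).drop 14).drop 14).drop 11).drop 14).drop 14).drop 12).drop 12).drop 12).drop 13).drop 13).drop 12).take 12) = true := by decide +kernel

theorem cl1_13_14 : chkOn A 17 14 1 (((((((((((((((cl1_l).drop 29).drop 13).drop 14).drop 14).drop 11).drop 14).drop 14).drop 12).drop 12).drop 12).drop 13).drop 13).drop 12).take 12) = true := by decide +kernel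

theorem cl1_13_15 : chkOn A 17 15 1 (((((((((((((((cl1_l).drop 29).drop 13).drop 14).drop 14).drop 11).drop 14).drop 14).drop 12).drop 12).drop 12).drop 13).drop 13).drop 12).take 12) = true := by decide +kernel

theorem cl1_13_16 : chkOn A 17 16 1 (((((((((((((((cl1_l).drop 29).drop 13).drop 14).drop 14).drop 11).drop 14).drop 14).drop 12).drop 12).drop 12).drop 13).drop 13).drop 12).take 12) = true := by decide +kernel

theorem cl1_14_0 : chkOn A 17 0 1 ((((((((((((((((cl1_l).drop 29).drop 13).drop 14).drop 14).drop 11).drop 14).drop 14).drop 12).drop 12).drop 12).drop 13).drop 13).drop 12).drop 12).take 12) = true := by decide +kernel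

theorem cl1_14_1 : chkOn A 17 1 1 ((((((((((((((((cl1_l).drop 29).drop 13).drop 14).drop 14).drop 11).drop 14).drop 14).drop 12).drop 12).drop 12).drop 13).drop 13).drop 12).drop 12).take 12) = true := by decide +kernel

theorem cl1_14_2 : chkOn A 17 2 1 ((((((((((((((((cl1_l).drop 29).drop 13).drop 14).drop 14).drop 11).drop 14).drop 14).drop 12).drop 12).drop 12).drop 13).drop 13).drop 12).drop 12).take 12) = true := by decide +kernel

theorem cl1_14_3 : chkOn A 17 3 1 ((((((((((((((((cl1_l).drop 29).drop 13).drop 14).drop 14).drop 11).drop 14).drop 14).drop 12).drop 12).drop 12).drop 13).drop 13).drop 12).drop 12).take 12) = true := by decide +kernel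

theorem cl1_14_4 : chkOn A 17 4 1 ((((((((((((((((cl1_l).drop 29).drop 13).drop 14).drop 14).drop 11).drop 14).drop 14).drop 12).drop 12).drop 12).drop 13).drop 13).drop 12).drop 12).take 12) = true := by decide +kernel

theorem cl1_14_5 : chkOn A 17 5 1 ((((((((((((((((cl1_l).drop 29).drop 13).drop 14).drop 14).drop 11).drop 14).drop 14).drop 12).drop 12).drop 12).drop 13).drop 13).drop 12).drop 12).take 12) = true := by decide +kernel

theorem cl1_14_6 : chkOn A 17 6 1 ((((((((((((((((cl1_l).drop 29).drop 13).drop 14).drop 14).drop 11).drop 14).drop 14).drop 12).drop 12).drop 12).drop 13).drop 13).drop 12).drop 12).take 12) = true := by decide +kernel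

theorem cl1_14_7 : chkOn A 17 7 1 ((((((((((((((((cl1_l).drop 29).drop 13).drop 14).drop 14).drop 11).drop 14).drop 14).drop 12).drop 12).drop 12).drop 13).drop 13).drop 12).drop 12).take 12) = true := by decide +kernel

theorem cl1_14_8 : chkOn A 17 8 1 ((((((((((((((((cl1_l).drop 29).drop 13).drop 14).drop 14).drop 11).drop 14).drop 14).drop 12).drop 12).drop 12).drop 13).drop 13).drop 12).drop 12).take 12) = true := by decide +kernel

theorem cl1_14_9 : chkOn A 17 9 1 ((((((((((((((((cl1_l).drop 29).drop 13).drop 14).drop 14).drop 11).drop 14).drop 14).drop 12).drop 12).drop 12).drop 13).drop 13).drop 12).drop 12).take 12) = true := by decide +kernel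

theorem cl1_14_10 : chkOn A 17 10 1 ((((((((((((((((cl1_l).drop 29).drop 13).drop 14).drop 14).drop 11).drop 14).drop 14).drop 12).drop 12).drop 12).drop 13).drop 13).drop 12).drop 12).take 12) = true := by decide +kernel

theorem cl1_14_11 : chkOn A 17 11 1 ((((((((((((((((cl1_l).drop 29).drop 13).drop 14).drop 14).drop 11).drop 14).drop 14).drop 12).drop 12).drop 12).drop 13).drop 13).drop 12).drop 12).take 12) = true := by decide +kernel

theorem cl1_14_12 : chkOn A 17 12 1 ((((((((((((((((cl1_l).drop 29).drop 13).drop 14).drop 14).drop 11).drop 14).drop 14).drop 12).drop 12).drop 12).drop 13).drop 13).drop 12).drop 12).take 12) = true := by decide +kernel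

theorem cl1_14_13 : chkOn A 17 13 1 ((((((((((((((((cl1_l).drop 29).drop 13).drop 14).drop 14).drop 11).drop 14).drop 14).drop 12).drop 12).drop 12).drop 13).drop 13).drop 12).drop 12).take 12) = true := by decide +kernel

theorem cl1_14_14 : chkOn A 17 14 1 ((((((((((((((((cl1_l).drop 29).drop 13).drop 14).drop 14).drop 11).drop 14).drop 14).drop 12).drop 12).drop 12).drop 13).drop 13).drop 12).drop 12).take 12) = true := by decide +kernel

theorem cl1_14_15 : chkOn A 17 15 1 ((((((((((((((((cl1_l).drop 29).drop 13).drop 14).drop 14).drop 11).drop 14).drop 14).drop 12).drop 12).drop 12).drop 13).drop 13).drop 12).drop 12).take 12) = true := by decide +kernel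

theorem cl1_14_16 : chkOn A 17 16 1 ((((((((((((((((cl1_l).drop 29).drop 13).drop 14).drop 14).drop 11).drop 14).drop 14).drop 12).drop 12).drop 12).drop 13).drop 13).drop 12).drop 12).take 12) = true := by decide +kernel

theorem cl1_15_0 : chkOn A 17 0 1 (((((((((((((((((cl1_l).drop 29).drop 13).drop 14).drop 14).drop 11).drop 14).drop 14).drop 12).drop 12).drop 12).drop 13).drop 13).drop 12).drop 12).drop 12).take 13) = true := by decide +kernel

theorem cl1_15_1 : chkOn A 17 1 1 (((((((((((((((((cl1_l).drop 29).drop 13).drop 14).drop 14).drop 11).drop 14).drop 14).drop 12).drop 12).drop 12).drop 13).drop 13).drop 12).drop 12).drop 12).take 13) = true := by decide +kernel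

theorem cl1_15_2 : chkOn A 17 2 1 (((((((((((((((((cl1_l).drop 29).drop 13).drop 14).drop 14).drop 11).drop 14).drop 14).drop 12).drop 12).drop 12).drop 13).drop 13).drop 12).drop 12).drop 12).take 13) = true := by decide +kernel

theorem cl1_15_3 : chkOn A 17 3 1 (((((((((((((((((cl1_l).drop 29).drop 13).drop 14).drop 14).drop 11).drop 14).drop 14).drop 12).drop 12).drop 12).drop 13).drop 13).drop 12).drop 12).drop 12).take 13) = true := by decide +kernel

theorem cl1_15_4 : chkOn A 17 4 1 (((((((((((((((((cl1_l).drop 29).drop 13).drop 14).drop 14).drop 11).drop 14).drop 14).drop 12).drop 12).drop 12).drop 13).drop 13).drop 12).drop 12).drop 12).take 13) = true := by decide +kernel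

theorem cl1_15_5 : chkOn A 17 5 1 (((((((((((((((((cl1_l).drop 29).drop 13).drop 14).drop 14).drop 11).drop 14).drop 14).drop 12).drop 12).drop 12).drop 13).drop 13).drop 12).drop 12).drop 12).take 13) = true := by decide +kernel

theorem cl1_15_6 : chkOn A 17 6 1 (((((((((((((((((cl1_l).drop 29).drop 13).drop 14).drop 14).drop 11).drop 14).drop 14).drop 12).drop 12).drop 12).drop 13).drop 13).drop 12).drop 12).drop 12).take 13) = true := by decide +kernel

theorem cl1_15_7 : chkOn A 17 7 1 (((((((((((((((((cl1_l).drop 29).drop 13).drop 14).drop 14).drop 11).drop 14).drop 14).drop 12).drop 12).drop 12).drop 13).drop 13).drop 12).drop 12).drop 12).take 13) = true := by decide +kernel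

theorem cl1_15_8 : chkOn A 17 8 1 (((((((((((((((((cl1_l).drop 29).drop 13).drop 14).drop 14).drop 11).drop 14).drop 14).drop 12).drop 12).drop 12).drop 13).drop 13).drop 12).drop 12).drop 12).take 13) = true := by decide +kernel

theorem cl1_15_9 : chkOn A 17 9 1 (((((((((((((((((cl1_l).drop 29).drop 13).drop 14).drop 14).drop 11).drop 14).drop 14).drop 12).drop 12).drop 12).drop 13).drop 13).drop 12).drop 12).drop 12).take 13) = true := by decide +kernel

theorem cl1_15_10 : chkOn A 17 10 1 (((((((((((((((((cl1_l).drop 29).drop 13).drop 14).drop 14).drop 11).drop 14).drop 14).drop 12).drop 12).drop 12).drop 13).drop 13).drop 12).drop 12).drop 12).take 13) = true := by decide +kernel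

theorem cl1_15_11 : chkOn A 17 11 1 (((((((((((((((((cl1_l).drop 29).drop 13).drop 14).drop 14).drop 11).drop 14).drop 14).drop 12).drop 12).drop 12).drop 13).drop 13).drop 12).drop 12).drop 12).take 13) = true := by decide +kernel

theorem cl1_15_12 : chkOn A 17 12 1 (((((((((((((((((cl1_l).drop 29).drop 13).drop 14).drop 14).drop 11).drop 14).drop 14).drop 12).drop 12).drop 12).drop 13).drop 13).drop 12).drop 12).drop 12).take 13) = true := by decide +kernel

theorem cl1_15_13 : chkOn A 17 13 1 (((((((((((((((((cl1_l).drop 29).drop 13).drop 14).drop 14).drop 11).drop 14).drop 14).drop 12).drop 12).drop 12).drop 13).drop 13).drop 12).drop 12).drop 12).take 13) = true := by decide +kernel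

theorem cl1_15_14 : chkOn A 17 14 1 (((((((((((((((((cl1_l).drop 29).drop 13).drop 14).drop 14).drop 11).drop 14).drop 14).drop 12).drop 12).drop 12).drop 13).drop 13).drop 12).drop 12).drop 12).take 13) = true := by decide +kernel

theorem cl1_15_15 : chkOn A 17 15 1 (((((((((((((((((cl1_l).drop 29).drop 13).drop 14).drop 14).drop 11).drop 14).drop 14).drop 12).drop 12).drop 12).drop 13).drop 13).drop 12).drop 12).drop 12).take 13) = true := by decide +kernel

theorem cl1_15_16 : chkOn A 17 16 1 (((((((((((((((((cl1_l).drop 29).drop 13).drop 14).drop 14).drop 11).drop 14).drop 14).drop 12).drop 12).drop 12).drop 13).drop 13).drop 12).drop 12).drop 12).take 13) = true := by decide +kernel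

theorem cl1_16_0 : chkOn A 17 0 1 ((((((((((((((((((cl1_l).drop 29).drop 13).drop 14).drop 14).drop 11).drop 14).drop 14).drop 12).drop 12).drop 12).drop 13).drop 13).drop 12).drop 12).drop 12).drop 13).take 12) = true := by decide +kernel

theorem cl1_16_1 : chkOn A 17 1 1 ((((((((((((((((((cl1_l).drop 29).drop 13).drop 14).drop 14).drop 11).drop 14).drop 14).drop 12).drop 12).drop 12).drop 13).drop 13).drop 12).drop 12).drop 12).drop 13).take 12) = true := by decide +kernel

theorem cl1_16_2 : chkOn A 17 2 1 ((((((((((((((((((cl1_l).drop 29).drop 13).drop 14).drop 14).drop 11).drop 14).drop 14).drop 12).drop 12).drop 12).drop 13).drop 13).drop 12).drop 12).drop 12).drop 13).take 12) = true := by decide +kernel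

theorem cl1_16_3 : chkOn A 17 3 1 ((((((((((((((((((cl1_l).drop 29).drop 13).drop 14).drop 14).drop 11).drop 14).drop 14).drop 12).drop 12).drop 12).drop 13).drop 13).drop 12).drop 12).drop 12).drop 13).take 12) = true := by decide +kernel

theorem cl1_16_4 : chkOn A 17 4 1 ((((((((((((((((((cl1_l).drop 29).drop 13).drop 14).drop 14).drop 11).drop 14).drop 14).drop 12).drop 12).drop 12).drop 13).drop 13).drop 12).drop 12).drop 12).drop 13).take 12) = true := by decide +kernel

theorem cl1_16_5 : chkOn A 17 5 1 ((((((((((((((((((cl1_l).drop 29).drop 13).drop 14).drop 14).drop 11).drop 14).drop 14).drop 12).drop 12).drop 12).drop 13).drop 13).drop 12).drop 12).drop 12).drop 13).take 12) = true := by decide +kernel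

theorem cl1_16_6 : chkOn A 17 6 1 ((((((((((((((((((cl1_l).drop 29).drop 13).drop 14).drop 14).drop 11).drop 14).drop 14).drop 12).drop 12).drop 12).drop 13).drop 13).drop 12).drop 12).drop 12).drop 13).take 12) = true := by decide +kernel

theorem cl1_16_7 : chkOn A 17 7 1 ((((((((((((((((((cl1_l).drop 29).drop 13).drop 14).drop 14).drop 11).drop 14).drop 14).drop 12).drop 12).drop 12).drop 13).drop 13).drop 12).drop 12).drop 12).drop 13).take 12) = true := by decide +kernel

theorem cl1_16_8 : chkOn A 17 8 1 ((((((((((((((((((cl1_l).drop 29).drop 13).drop 14).drop 14).drop 11).drop 14).drop 14).drop 12).drop 12).drop 12).drop 13).drop 13).drop 12).drop 12).drop 12).drop 13).take 12) = true := by decide +kernel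

theorem cl1_16_9 : chkOn A 17 9 1 ((((((((((((((((((cl1_l).drop 29).drop 13).drop 14).drop 14).drop 11).drop 14).drop 14).drop 12).drop 12).drop 12).drop 13).drop 13).drop 12).drop 12).drop 12).drop 13).take 12) = true := by decide +kernel

theorem cl1_16_10 : chkOn A 17 10 1 ((((((((((((((((((cl1_l).drop 29).drop 13).drop 14).drop 14).drop 11).drop 14).drop 14).drop 12).drop 12).drop 12).drop 13).drop 13).drop 12).drop 12).drop 12).drop 13).take 12) = true := by decide +kernel


end Cfsg.Agent.Spor.ON
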