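import Cfsg.Agent.Lib.Spor.ON.Defs

set_option autoImplicit false
set_option maxRecDepth 100000
set_option Elab.async false
set_option exponentiation.threshold 100000

namespace Cfsg.Agent.Spor.ON
open Cfsg.Agent.PG

theorem cl1_16_11 : chkOn A 17 11 1 ((((((((((((((((((cl1_l).drop 29).drop 13).drop 14).drop 14).drop 11).drop 14).drop 14).drop 12).drop 12).drop 12).drop 13).drop 13).drop 12).drop 12).drop 12).drop 13).take 12) = true := by decide +kernel

theorem cl1_16_12 : chkOn A 17 12 1 ((((((((((((((((((cl1_l).drop 29).drop 13).drop 14).drop 14).drop 11).drop 14).drop 14).drop 12).drop 12).drop 12).drop 13).drop 13).drop 12).drop 12).drop 12).drop 13).take 12) = true := by decide +kernel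

theorem cl1_16_13 : chkOn A 17 13 1 ((((((((((((((((((cl1_l).drop 29).drop 13).drop 14).drop 14).drop 11).drop 14).drop 14).drop 12).drop 12).drop 12).drop 13).drop 13).drop 12).drop 12).drop 12).drop 13).take 12) = true := by decide +kernel

theorem cl1_16_14 : chkOn A 17 14 1 ((((((((((((((((((cl1_l).drop 29).drop 13).drop 14).drop 14).drop 11).drop 14).drop 14).drop 12).drop 12).drop 12).drop 13).drop 13).drop 12).drop 12).drop 12).drop 13).take 12) = true := by decide +kernel

theorem cl1_16_15 : chkOn A 17 15 1 ((((((((((((((((((cl1_l).drop 29).drop 13).drop 14).drop 14).drop 11).drop 14).drop 14).drop 12).drop 12).drop 12).drop 13).drop 13).drop 12).drop 12).drop 12).drop 13).take 12) = true := by decide +kernel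

theorem cl1_16_16 : chkOn A 17 16 1 ((((((((((((((((((cl1_l).drop 29).drop 13).drop 14).drop 14).drop 11).drop 14).drop 14).drop 12).drop 12).drop 12).drop 13).drop 13).drop 12).drop 12).drop 12).drop 13).take 12) = true := by decide +kernel

theorem cl1_17_0 : chkOn A 17 0 1 (((((((((((((((((((cl1_l).drop 29).drop 13).drop 14).drop 14).drop 11).drop 14).drop 14).drop 12).drop 12).drop 12).drop 13).drop 13).drop 12).drop 12).drop 12).drop 13).drop 12).take 13) = true := by decide +kernel

theorem cl1_17_1 : chkOn A 17 1 1 (((((((((((((((((((cl1_l).drop 29).drop 13).drop 14).drop 14).drop 11).drop 14).drop 14).drop 12).drop 12).drop 12).drop 13).drop 13).drop 12).drop 12).drop 12).drop 13).drop 12).take 13) = true := by decide +kernel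

theorem cl1_17_2 : chkOn A 17 2 1 (((((((((((((((((((cl1_l).drop 29).drop 13).drop 14).drop 14).drop 11).drop 14).drop 14).drop 12).drop 12).drop 12).drop 13).drop 13).drop 12).drop 12).drop 12).drop 13).drop 12).take 13) = true := by decide +kernel

theorem cl1_17_3 : chkOn A 17 3 1 (((((((((((((((((((cl1_l).drop 29).drop 13).drop 14).drop 14).drop 11).drop 14).drop 14).drop 12).drop 12).drop 12).drop 13).drop 13).drop 12).drop 12).drop 12).drop 13).drop 12).take 13) = true := by decide +kernel

theorem cl1_17_4 : chkOn A 17 4 1 (((((((((((((((((((cl1_l).drop 29).drop 13).drop 14).drop 14).drop 11).drop 14).drop 14).drop 12).drop 12).drop 12).drop 13).drop 13).drop 12).drop 12).drop 12).drop 13).drop 12).take 13) = true := by decide +kernel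

theorem cl1_17_5 : chkOn A 17 5 1 (((((((((((((((((((cl1_l).drop 29).drop 13).drop 14).drop 14).drop 11).drop 14).drop 14).drop 12).drop 12).drop 12).drop 13).drop 13).drop 12).drop 12).drop 12).drop 13).drop 12).take 13) = true := by decide +kernel

theorem cl1_17_6 : chkOn A 17 6 1 (((((((((((((((((((cl1_l).drop 29).drop 13).drop 14).drop 14).drop 11).drop 14).drop 14).drop 12).drop 12).drop 12).drop 13).drop 13).drop 12).drop 12).drop 12).drop 13).drop 12).take 13) = true := by decide +kernel

theorem cl1_17_7 : chkOn A 17 7 1 (((((((((((((((((((cl1_l).drop 29).drop 13).drop 14).drop 14).drop 11).drop 14).drop 14).drop 12).drop 12).drop 12).drop 13).drop 13).drop 12).drop 12).drop 12).drop 13).drop 12).take 13) = true := by decide +kernel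

theorem cl1_17_8 : chkOn A 17 8 1 (((((((((((((((((((cl1_l).drop 29).drop 13).drop 14).drop 14).drop 11).drop 14).drop 14).drop 12).drop 12).drop 12).drop 13).drop 13).drop 12).drop 12).drop 12).drop 13).drop 12).take 13) = true := by decide +kernel

theorem cl1_17_9 : chkOn A 17 9 1 (((((((((((((((((((cl1_l).drop 29).drop 13).drop 14).drop 14).drop 11).drop 14).drop 14).drop 12).drop 12).drop 12).drop 13).drop 13).drop 12).drop 12).drop 12).drop 13).drop 12).take 13) = true := by decide +kernel

theorem cl1_17_10 : chkOn A 17 10 1 (((((((((((((((((((cl1_l).drop 29).drop 13).drop 14).drop 14).drop 11).drop 14).drop 14).drop 12).drop 12).drop 12).drop 13).drop 13).drop 12).drop 12).drop 12).drop 13).drop 12).take 13) = true := by decide +kernel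

theorem cl1_17_11 : chkOn A 17 11 1 (((((((((((((((((((cl1_l).drop 29).drop 13).drop 14).drop 14).drop 11).drop 14).drop 14).drop 12).drop 12).drop 12).drop 13).drop 13).drop 12).drop 12).drop 12).drop 13).drop 12).take 13) = true := by decide +kernel

theorem cl1_17_12 : chkOn A 17 12 1 (((((((((((((((((((cl1_l).drop 29).drop 13).drop 14).drop 14).drop 11).drop 14).drop 14).drop 12).drop 12).drop 12).drop 13).drop 13).drop 12).drop 12).drop 12).drop 13).drop 12).take 13) = true := by decide +kernel

theorem cl1_17_13 : chkOn A 17 13 1 (((((((((((((((((((cl1_l).drop 29).drop 13).drop 14).drop 14).drop 11).drop 14).drop 14).drop 12).drop 12).drop 12).drop 13).drop 13).drop 12).drop 12).drop 12).drop 13).drop 12).take 13) = true := by decide +kernel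

theorem cl1_17_14 : chkOn A 17 14 1 (((((((((((((((((((cl1_l).drop 29).drop 13).drop 14).drop 14).drop 11).drop 14).drop 14).drop 12).drop 12).drop 12).drop 13).drop 13).drop 12).drop 12).drop 12).drop 13).drop 12).take 13) = true := by decide +kernel

theorem cl1_17_15 : chkOn A 17 15 1 (((((((((((((((((((cl1_l).drop 29).drop 13).drop 14).drop 14).drop 11).drop 14).drop 14).drop 12).drop 12).drop 12).drop 13).drop 13).drop 12).drop 12).drop 12).drop 13).drop 12).take 13) = true := by decide +kernel

theorem cl1_17_16 : chkOn A 17 16 1 (((((((((((((((((((cl1_l).drop 29).drop 13).drop 14).drop 14).drop 11).drop 14).drop 14).drop 12).drop 12).drop 12).drop 13).drop 13).drop 12).drop 12).drop 12).drop 13).drop 12).take 13) = true := by decide +kernel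

theorem cl1_18_0 : chkOn A 17 0 1 ((((((((((((((((((((cl1_l).drop 29).drop 13).drop 14).drop 14).drop 11).drop 14).drop 14).drop 12).drop 12).drop 12).drop 13).drop 13).drop 12).drop 12).drop 12).drop 13).drop 12).drop 13).take 12) = true := by decide +kernel

theorem cl1_18_1 : chkOn A 17 1 1 ((((((((((((((((((((cl1_l).drop 29).drop 13).drop 14).drop 14).drop 11).drop 14).drop 14).drop 12).drop 12).drop 12).drop 13).drop 13).drop 12).drop 12).drop 12).drop 13).drop 12).drop 13).take 12) = true := by decide +kernel

theorem cl1_18_2 : chkOn A 17 2 1 ((((((((((((((((((((cl1_l).drop 29).drop 13).drop 14).drop 14).drop 11).drop 14).drop 14).drop 12).drop 12).drop 12).drop 13).drop 13).drop 12).drop 12).drop 12).drop 13).drop 12).drop 13).take 12) = true := by decide +kernel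

theorem cl1_18_3 : chkOn A 17 3 1 ((((((((((((((((((((cl1_l).drop 29).drop 13).drop 14).drop 14).drop 11).drop 14).drop 14).drop 12).drop 12).drop 12).drop 13).drop 13).drop 12).drop 12).drop 12).drop 13).drop 12).drop 13).take 12) = true := by decide +kernel

theorem cl1_18_4 : chkOn A 17 4 1 ((((((((((((((((((((cl1_l).drop 29).drop 13).drop 14).drop 14).drop 11).drop 14).drop 14).drop 12).drop 12).drop 12).drop 13).drop 13).drop 12).drop 12).drop 12).drop 13).drop 12).drop 13).take 12) = true := by decide +kernel

theorem cl1_18_5 : chkOn A 17 5 1 ((((((((((((((((((((cl1_l).drop 29).drop 13).drop 14).drop 14).drop 11).drop 14).drop 14).drop 12).drop 12).drop 12).drop 13).drop 13).drop 12).drop 12).drop 12).drop 13).drop 12).drop 13).take 12) = true := by decide +kernel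

theorem cl1_18_6 : chkOn A 17 6 1 ((((((((((((((((((((cl1_l).drop 29).drop 13).drop 14).drop 14).drop 11).drop 14).drop 14).drop 12).drop 12).drop 12).drop 13).drop 13).drop 12).drop 12).drop 12).drop 13).drop 12).drop 13).take 12) = true := by decide +kernel

theorem cl1_18_7 : chkOn A 17 7 1 ((((((((((((((((((((cl1_l).drop 29).drop 13).drop 14).drop 14).drop 11).drop 14).drop 14).drop 12).drop 12).drop 12).drop 13).drop 13).drop 12).drop 12).drop 12).drop 13).drop 12).drop 13).take 12) = true := by decide +kernel

theorem cl1_18_8 : chkOn A 17 8 1 ((((((((((((((((((((cl1_l).drop 29).drop 13).drop 14).drop 14).drop 11).drop 14).drop 14).drop 12).drop 12).drop 12).drop 13).drop 13).drop 12).drop 12).drop 12).drop 13).drop 12).drop 13).take 12) = true := by decide +kernel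

theorem cl1_18_9 : chkOn A 17 9 1 ((((((((((((((((((((cl1_l).drop 29).drop 13).drop 14).drop 14).drop 11).drop 14).drop 14).drop 12).drop 12).drop 12).drop 13).drop 13).drop 12).drop 12).drop 12).drop 13).drop 12).drop 13).take 12) = true := by decide +kernel

theorem cl1_18_10 : chkOn A 17 10 1 ((((((((((((((((((((cl1_l).drop 29).drop 13).drop 14).drop 14).drop 11).drop 14).drop 14).drop 12).drop 12).drop 12).drop 13).drop 13).drop 12).drop 12).drop 12).drop 13).drop 12).drop 13).take 12) = true := by decide +kernel

theorem cl1_18_11 : chkOn A 17 11 1 ((((((((((((((((((((cl1_l).drop 29).drop 13).drop 14).drop 14).drop 11).drop 14).drop 14).drop 12).drop 12).drop 12).drop 13).drop 13).drop 12).drop 12).drop 12).drop 13).drop 12).drop 13).take 12) = true := by decide +kernel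

theorem cl1_18_12 : chkOn A 17 12 1 ((((((((((((((((((((cl1_l).drop 29).drop 13).drop 14).drop 14).drop 11).drop 14).drop 14).drop 12).drop 12).drop 12).drop 13).drop 13).drop 12).drop 12).drop 12).drop 13).drop 12).drop 13).take 12) = true := by decide +kernel

theorem cl1_18_13 : chkOn A 17 13 1 ((((((((((((((((((((cl1_l).drop 29).drop 13).drop 14).drop 14).drop 11).drop 14).drop 14).drop 12).drop 12).drop 12).drop 13).drop 13).drop 12).drop 12).drop 12).drop 13).drop 12).drop 13).take 12) = true := by decide +kernel

theorem cl1_18_14 : chkOn A 17 14 1 ((((((((((((((((((((cl1_l).drop 29).drop 13).drop 14).drop 14).drop 11).drop 14).drop 14).drop 12).drop 12).drop 12).drop 13).drop 13).drop 12).drop 12).drop 12).drop 13).drop 12).drop 13).take 12) = true := by decide +kernel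

theorem cl1_18_15 : chkOn A 17 15 1 ((((((((((((((((((((cl1_l).drop 29).drop 13).drop 14).drop 14).drop 11).drop 14).drop 14).drop 12).drop 12).drop 12).drop 13).drop 13).drop 12).drop 12).drop 12).drop 13).drop 12).drop 13).take 12) = true := by decide +kernel

theorem cl1_18_16 : chkOn A 17 16 1 ((((((((((((((((((((cl1_l).drop 29).drop 13).drop 14).drop 14).drop 11).drop 14).drop 14).drop 12).drop 12).drop 12).drop 13).drop 13).drop 12).drop 12).drop 12).drop 13).drop 12).drop 13).take 12) = true := by decide +kernel

theorem cl1_19_0 : chkOn A 17 0 1 ((((((((((((((((((((cl1_l).drop 29).drop 13).drop 14).drop 14).drop 11).drop 14).drop 14).drop 12).drop 12).drop 12).drop 13).drop 13).drop 12).drop 12).drop 12).drop 13).drop 12).drop 13).drop 12) = true := by decide +kernel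

theorem cl1_19_1 : chkOn A 17 1 1 ((((((((((((((((((((cl1_l).drop 29).drop 13).drop 14).drop 14).drop 11).drop 14).drop 14).drop 12).drop 12).drop 12).drop 13).drop 13).drop 12).drop 12).drop 12).drop 13).drop 12).drop 13).drop 12) = true := by decide +kernel

theorem cl1_19_2 : chkOn A 17 2 1 ((((((((((((((((((((cl1_l).drop 29).drop 13).drop 14).drop 14).drop 11).drop 14).drop 14).drop 12).drop 12).drop 12).drop 13).drop 13).drop 12).drop 12).drop 12).drop 13).drop 12).drop 13).drop 12) = true := by decide +kernel

theorem cl1_19_3 : chkOn A 17 3 1 ((((((((((((((((((((cl1_l).drop 29).drop 13).drop 14).drop 14).drop 11).drop 14).drop 14).drop 12).drop 12).drop 12).drop 13).drop 13).drop 12).drop 12).drop 12).drop 13).drop 12).drop 13).drop 12) = true := by decide +kernel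

theorem cl1_19_4 : chkOn A 17 4 1 ((((((((((((((((((((cl1_l).drop 29).drop 13).drop 14).drop 14).drop 11).drop 14).drop 14).drop 12).drop 12).drop 12).drop 13).drop 13).drop 12).drop 12).drop 12).drop 13).drop 12).drop 13).drop 12) = true := by decide +kernel

theorem cl1_19_5 : chkOn A 17 5 1 ((((((((((((((((((((cl1_l).drop 29).drop 13).drop 14).drop 14).drop 11).drop 14).drop 14).drop 12).drop 12).drop 12).drop 13).drop 13).drop 12).drop 12).drop 12).drop 13).drop 12).drop 13).drop 12) = true := by decide +kernel

theorem cl1_19_6 : chkOn A 17 6 1 ((((((((((((((((((((cl1_l).drop 29).drop 13).drop 14).drop 14).drop 11).drop 14).drop 14).drop 12).drop 12).drop 12).drop 13).drop 13).drop 12).drop 12).drop 12).drop 13).drop 12).drop 13).drop 12) = true := by decide +kernel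

theorem cl1_19_7 : chkOn A 17 7 1 ((((((((((((((((((((cl1_l).drop 29).drop 13).drop 14).drop 14).drop 11).drop 14).drop 14).drop 12).drop 12).drop 12).drop 13).drop 13).drop 12).drop 12).drop 12).drop 13).drop 12).drop 13).drop 12) = true := by decide +kernel

theorem cl1_19_8 : chkOn A 17 8 1 ((((((((((((((((((((cl1_l).drop 29).drop 13).drop 14).drop 14).drop 11).drop 14).drop 14).drop 12).drop 12).drop 12).drop 13).drop 13).drop 12).drop 12).drop 12).drop 13).drop 12).drop 13).drop 12) = true := by decide +kernel

theorem cl1_19_9 : chkOn A 17 9 1 ((((((((((((((((((((cl1_l).drop 29).drop 13).drop 14).drop 14).drop 11).drop 14).drop 14).drop 12).drop 12).drop 12).drop 13).drop 13).drop 12).drop 12).drop 12).drop 13).drop 12).drop 13).drop 12) = true := by decide +kernel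

theorem cl1_19_10 : chkOn A 17 10 1 ((((((((((((((((((((cl1_l).drop 29).drop 13).drop 14).drop 14).drop 11).drop 14).drop 14).drop 12).drop 12).drop 12).drop 13).drop 13).drop 12).drop 12).drop 12).drop 13).drop 12).drop 13).drop 12) = true := by decide +kernel

theorem cl1_19_11 : chkOn A 17 11 1 ((((((((((((((((((((cl1_l).drop 29).drop 13).drop 14).drop 14).drop 11).drop 14).drop 14).drop 12).drop 12).drop 12).drop 13).drop 13).drop 12).drop 12).drop 12).drop 13).drop 12).drop 13).drop 12) = true := by decide +kernel

theorem cl1_19_12 : chkOn A 17 12 1 ((((((((((((((((((((cl1_l).drop 29).drop 13).drop 14).drop 14).drop 11).drop 14).drop 14).drop 12).drop 12).drop 12).drop 13).drop 13).drop 12).drop 12).drop 12).drop 13).drop 12).drop 13).drop 12) = true := by decide +kernel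

theorem cl1_19_13 : chkOn A 17 13 1 ((((((((((((((((((((cl1_l).drop 29).drop 13).drop 14).drop 14).drop 11).drop 14).drop 14).drop 12).drop 12).drop 12).drop 13).drop 13).drop 12).drop 12).drop 12).drop 13).drop 12).drop 13).drop 12) = true := by decide +kernel

theorem cl1_19_14 : chkOn A 17 14 1 ((((((((((((((((((((cl1_l).drop 29).drop 13).drop 14).drop 14).drop 11).drop 14).drop 14).drop 12).drop 12).drop 12).drop 13).drop 13).drop 12).drop 12).drop 12).drop 13).drop 12).drop 13).drop 12) = true := by decide +kernel

theorem cl1_19_15 : chkOn A 17 15 1 ((((((((((((((((((((cl1_l).drop 29).drop 13).drop 14).drop 14).drop 11).drop 14).drop 14).drop 12).drop 12).drop 12).drop 13).drop 13).drop 12).drop 12).drop 12).drop 13).drop 12).drop 13).drop 12) = true := by decide +kernel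

theorem cl1_19_16 : chkOn A 17 16 1 ((((((((((((((((((((cl1_l).drop 29).drop 13).drop 14).drop 14).drop 11).drop 14).drop 14).drop 12).drop 12).drop 12).drop 13).drop 13).drop 12).drop 12).drop 12).drop 13).drop 12).drop 13).drop 12) = true := by decide +kernel

theorem ok1 : dcShape A 1 3 272 2794 (korb A 2 2794 4) cj1 reps1 = true := by decide +kernel

theorem ok1_0 : allL ((reps1).take 1) (repOK A (1 + 1) 2794 (korb A 2 2794 4)) = true := by decide +kernel

theorem ok1_1 : allL (((reps1).drop 1).take 1) (repOK A (1 + 1) 2794 (korb A 2 2794 4)) = true := by decide +kernel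

theorem ok1_2 : allL ((((reps1).drop 1).drop 1).take 1) (repOK A (1 + 1) 2794 (korb A 2 2794 4)) = true := by decide +kernel

theorem ok1_3 : allL (((((reps1).drop 1).drop 1).drop 1).take 1) (repOK A (1 + 1) 2794 (korb A 2 2794 4)) = true := by decide +kernel

theorem ok1_4 : allL ((((((reps1).drop 1).drop 1).drop 1).drop 1).take 1) (repOK A (1 + 1) 2794 (korb A 2 2794 4)) = true := by decide +kernel

theorem ok1_5 : allL (((((((reps1).drop 1).drop 1).drop 1).drop 1).drop 1).take 1) (repOK A (1 + 1) 2794 (korb A 2 2794 4)) = true := by decide +kernel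

theorem ok1_6 : allL ((((((((reps1).drop 1).drop 1).drop 1).drop 1).drop 1).drop 1).take 1) (repOK A (1 + 1) 2794 (korb A 2 2794 4)) = true := by decide +kernel

theorem ok1_7 : allL (((((((((reps1).drop 1).drop 1).drop 1).drop 1).drop 1).drop 1).drop 1).take 1) (repOK A (1 + 1) 2794 (korb A 2 2794 4)) = true := by decide +kernel

theorem ok1_8 : allL ((((((((((reps1).drop 1).drop 1).drop 1).drop 1).drop 1).drop 1).drop 1).drop 1).take 1) (repOK A (1 + 1) 2794 (korb A 2 2794 4)) = true := by decide +kernel

theorem ok1_9 : allL (((((((((((reps1).drop 1).drop 1).drop 1).drop 1).drop 1).drop 1).drop 1).drop 1).drop 1).take 1) (repOK A (1 + 1) 2794 (korb A 2 2794 4)) = true := by decide +kernel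

theorem ok1_10 : allL ((((((((((((reps1).drop 1).drop 1).drop 1).drop 1).drop 1).drop 1).drop 1).drop 1).drop 1).drop 1).take 1) (repOK A (1 + 1) 2794 (korb A 2 2794 4)) = true := by decide +kernel

theorem ok1_11 : allL (((((((((((((reps1).drop 1).drop 1).drop 1).drop 1).drop 1).drop 1).drop 1).drop 1).drop 1).drop 1).drop 1).take 1) (repOK A (1 + 1) 2794 (korb A 2 2794 4)) = true := by decide +kernel

theorem ok1_12 : allL ((((((((((((((reps1).drop 1).drop 1).drop 1).drop 1).drop 1).drop 1).drop 1).drop 1).drop 1).drop 1).drop 1).drop 1).take 1) (repOK A (1 + 1) 2794 (korb A 2 2794 4)) = true := by decide +kernel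

theorem ok1_13 : allL (((((((((((((((reps1).drop 1).drop 1).drop 1).drop 1).drop 1).drop 1).drop 1).drop 1).drop 1).drop 1).drop 1).drop 1).drop 1).take 1) (repOK A (1 + 1) 2794 (korb A 2 2794 4)) = true := by decide +kernel

theorem ok1_14 : allL ((((((((((((((((reps1).drop 1).drop 1).drop 1).drop 1).drop 1).drop 1).drop 1).drop 1).drop 1).drop 1).drop 1).drop 1).drop 1).drop 1).take 1) (repOK A (1 + 1) 2794 (korb A 2 2794 4)) = true := by decide +kernel

theorem ok1_15 : allL (((((((((((((((((reps1).drop 1).drop 1).drop 1).drop 1).drop 1).drop 1).drop 1).drop 1).drop 1).drop 1).drop 1).drop 1).drop 1).drop 1).drop 1).take 1) (repOK A (1 + 1) 2794 (korb A 2 2794 4)) = true := by decide +kernel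

theorem ok1_16 : allL ((((((((((((((((((reps1).drop 1).drop 1).drop 1).drop 1).drop 1).drop 1).drop 1).drop 1).drop 1).drop 1).drop 1).drop 1).drop 1).drop 1).drop 1).drop 1).take 1) (repOK A (1 + 1) 2794 (korb A 2 2794 4)) = true := by decide +kernel

theorem ok1_17 : allL (((((((((((((((((((reps1).drop 1).drop 1).drop 1).drop 1).drop 1).drop 1).drop 1).drop 1).drop 1).drop 1).drop 1).drop 1).drop 1).drop 1).drop 1).drop 1).drop 1).take 1) (repOK A (1 + 1) 2794 (korb A 2 2794 4)) = true := by decide +kernel

theorem ok1_18 : allL ((((((((((((((((((((reps1).drop 1).drop 1).drop 1).drop 1).drop 1).drop 1).drop 1).drop 1).drop 1).drop 1).drop 1).drop 1).drop 1).drop 1).drop 1).drop 1).drop 1).drop 1).take 1) (repOK A (1 + 1) 2794 (korb A 2 2794 4)) = true := by decide +kernel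

theorem ok1_19 : allL (((((((((((((((((((((reps1).drop 1).drop 1).drop 1).drop 1).drop 1).drop 1).drop 1).drop 1).drop 1).drop 1).drop 1).drop 1).drop 1).drop 1).drop 1).drop 1).drop 1).drop 1).drop 1).take 1) (repOK A (1 + 1) 2794 (korb A 2 2794 4)) = true := by decide +kernel

theorem ok1_20 : allL ((((((((((((((((((((((reps1).drop 1).drop 1).drop 1).drop 1).drop 1).drop 1).drop 1).drop 1).drop 1).drop 1).drop 1).drop 1).drop 1).drop 1).drop 1).drop 1).drop 1).drop 1).drop 1).drop 1).take 1) (repOK A (1 + 1) 2794 (korb A 2 2794 4)) = true := by decide +kernel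

theorem ok1_21 : allL (((((((((((((((((((((((reps1).drop 1).drop 1).drop 1).drop 1).drop 1).drop 1).drop 1).drop 1).drop 1).drop 1).drop 1).drop 1).drop 1).drop 1).drop 1).drop 1).drop 1).drop 1).drop 1).drop 1).drop 1).take 1) (repOK A (1 + 1) 2794 (korb A 2 2794 4)) = true := by decide +kernel

theorem ok1_22 : allL ((((((((((((((((((((((((reps1).drop 1).drop 1).drop 1).drop 1).drop 1).drop 1).drop 1).drop 1).drop 1).drop 1).drop 1).drop 1).drop 1).drop 1).drop 1).drop 1).drop 1).drop 1).drop 1).drop 1).drop 1).drop 1).take 1) (repOK A (1 + 1) 2794 (korb A 2 2794 4)) = true := by decide +kernel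

theorem ok1_23 : allL ((((((((((((((((((((((((reps1).drop 1).drop 1).drop 1).drop 1).drop 1).drop 1).drop 1).drop 1).drop 1).drop 1).drop 1).drop 1).drop 1).drop 1).drop 1).drop 1).drop 1).drop 1).drop 1).drop 1).drop 1).drop 1).drop 1) (repOK A (1 + 1) 2794 (korb A 2 2794 4)) = true := by decide +kernel

theorem orb1 : orbCardB A 14 1 272 7 5586 = true := by decide +kernel

theorem cl0_0_0 : chkOn A 17 0 1 ((cl0_l).take 23) = true := by decide +kernel

theorem cl0_0_1 : chkOn A 17 1 1 ((cl0_l).take 23) = true := by decide +kernel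

theorem cl0_0_2 : chkOn A 17 2 1 ((cl0_l).take 23) = true := by decide +kernel

theorem cl0_0_3 : chkOn A 17 3 1 ((cl0_l).take 23) = true := by decide +kernel

theorem cl0_0_4 : chkOn A 17 4 1 ((cl0_l).take 23) = true := by decide +kernel

theorem cl0_0_5 : chkOn A 17 5 1 ((cl0_l).take 23) = true := by decide +kernel


end Cfsg.Agent.Spor.ON
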