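import Cfsg.Agent.Lib.Spor.ON.Defs

set_option autoImplicit false
set_option maxRecDepth 100000
set_option Elab.async false
set_option exponentiation.threshold 100000

namespace Cfsg.Agent.Spor.ON
open Cfsg.Agent.PG

theorem cl0_0_6 : chkOn A 17 6 1 ((cl0_l).take 23) = true := by decide +kernel

theorem cl0_0_7 : chkOn A 17 7 1 ((cl0_l).take 23) = true := by decide +kernel

theorem cl0_0_8 : chkOn A 17 8 1 ((cl0_l).take 23) = true := by decide +kernel

theorem cl0_0_9 : chkOn A 17 9 1 ((cl0_l).take 23) = true := by decide +kernel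

theorem cl0_0_10 : chkOn A 17 10 1 ((cl0_l).take 23) = true := by decide +kernel

theorem cl0_0_11 : chkOn A 17 11 1 ((cl0_l).take 23) = true := by decide +kernel

theorem cl0_0_12 : chkOn A 17 12 1 ((cl0_l).take 23) = true := by decide +kernel

theorem cl0_0_13 : chkOn A 17 13 1 ((cl0_l).take 23) = true := by decide +kernel

theorem cl0_0_14 : chkOn A 17 14 1 ((cl0_l).take 23) = true := by decide +kernel

theorem cl0_0_15 : chkOn A 17 15 1 ((cl0_l).take 23) = true := by decide +kernel

theorem cl0_0_16 : chkOn A 17 16 1 ((cl0_l).take 23) = true := by decide +kernel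

theorem cl0_1_0 : chkOn A 17 0 1 (((cl0_l).drop 23).take 9) = true := by decide +kernel

theorem cl0_1_1 : chkOn A 17 1 1 (((cl0_l).drop 23).take 9) = true := by decide +kernel

theorem cl0_1_2 : chkOn A 17 2 1 (((cl0_l).drop 23).take 9) = true := by decide +kernel

theorem cl0_1_3 : chkOn A 17 3 1 (((cl0_l).drop 23).take 9) = true := by decide +kernel

theorem cl0_1_4 : chkOn A 17 4 1 (((cl0_l).drop 23).take 9) = true := by decide +kernel

theorem cl0_1_5 : chkOn A 17 5 1 (((cl0_l).drop 23).take 9) = true := by decide +kernel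

theorem cl0_1_6 : chkOn A 17 6 1 (((cl0_l).drop 23).take 9) = true := by decide +kernel

theorem cl0_1_7 : chkOn A 17 7 1 (((cl0_l).drop 23).take 9) = true := by decide +kernel

theorem cl0_1_8 : chkOn A 17 8 1 (((cl0_l).drop 23).take 9) = true := by decide +kernel

theorem cl0_1_9 : chkOn A 17 9 1 (((cl0_l).drop 23).take 9) = true := by decide +kernel

theorem cl0_1_10 : chkOn A 17 10 1 (((cl0_l).drop 23).take 9) = true := by decide +kernel

theorem cl0_1_11 : chkOn A 17 11 1 (((cl0_l).drop 23).take 9) = true := by decide +kernel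

theorem cl0_1_12 : chkOn A 17 12 1 (((cl0_l).drop 23).take 9) = true := by decide +kernel

theorem cl0_1_13 : chkOn A 17 13 1 (((cl0_l).drop 23).take 9) = true := by decide +kernel

theorem cl0_1_14 : chkOn A 17 14 1 (((cl0_l).drop 23).take 9) = true := by decide +kernel

theorem cl0_1_15 : chkOn A 17 15 1 (((cl0_l).drop 23).take 9) = true := by decide +kernel

theorem cl0_1_16 : chkOn A 17 16 1 (((cl0_l).drop 23).take 9) = true := by decide +kernel

theorem cl0_2_0 : chkOn A 17 0 1 ((((cl0_l).drop 23).drop 9).take 10) = true := by decide +kernel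

theorem cl0_2_1 : chkOn A 17 1 1 ((((cl0_l).drop 23).drop 9).take 10) = true := by decide +kernel

theorem cl0_2_2 : chkOn A 17 2 1 ((((cl0_l).drop 23).drop 9).take 10) = true := by decide +kernel

theorem cl0_2_3 : chkOn A 17 3 1 ((((cl0_l).drop 23).drop 9).take 10) = true := by decide +kernel

theorem cl0_2_4 : chkOn A 17 4 1 ((((cl0_l).drop 23).drop 9).take 10) = true := by decide +kernel

theorem cl0_2_5 : chkOn A 17 5 1 ((((cl0_l).drop 23).drop 9).take 10) = true := by decide +kernel

theorem cl0_2_6 : chkOn A 17 6 1 ((((cl0_l).drop 23).drop 9).take 10) = true := by decide +kernel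

theorem cl0_2_7 : chkOn A 17 7 1 ((((cl0_l).drop 23).drop 9).take 10) = true := by decide +kernel

theorem cl0_2_8 : chkOn A 17 8 1 ((((cl0_l).drop 23).drop 9).take 10) = true := by decide +kernel

theorem cl0_2_9 : chkOn A 17 9 1 ((((cl0_l).drop 23).drop 9).take 10) = true := by decide +kernel

theorem cl0_2_10 : chkOn A 17 10 1 ((((cl0_l).drop 23).drop 9).take 10) = true := by decide +kernel

theorem cl0_2_11 : chkOn A 17 11 1 ((((cl0_l).drop 23).drop 9).take 10) = true := by decide +kernel

theorem cl0_2_12 : chkOn A 17 12 1 ((((cl0_l).drop 23).drop 9).take 10) = true := by decide +kernel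

theorem cl0_2_13 : chkOn A 17 13 1 ((((cl0_l).drop 23).drop 9).take 10) = true := by decide +kernel

theorem cl0_2_14 : chkOn A 17 14 1 ((((cl0_l).drop 23).drop 9).take 10) = true := by decide +kernel

theorem cl0_2_15 : chkOn A 17 15 1 ((((cl0_l).drop 23).drop 9).take 10) = true := by decide +kernel

theorem cl0_2_16 : chkOn A 17 16 1 ((((cl0_l).drop 23).drop 9).take 10) = true := by decide +kernel

theorem cl0_3_0 : chkOn A 17 0 1 (((((cl0_l).drop 23).drop 9).drop 10).take 10) = true := by decide +kernel

theorem cl0_3_1 : chkOn A 17 1 1 (((((cl0_l).drop 23).drop 9).drop 10).take 10) = true := by decide +kernel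

theorem cl0_3_2 : chkOn A 17 2 1 (((((cl0_l).drop 23).drop 9).drop 10).take 10) = true := by decide +kernel

theorem cl0_3_3 : chkOn A 17 3 1 (((((cl0_l).drop 23).drop 9).drop 10).take 10) = true := by decide +kernel

theorem cl0_3_4 : chkOn A 17 4 1 (((((cl0_l).drop 23).drop 9).drop 10).take 10) = true := by decide +kernel

theorem cl0_3_5 : chkOn A 17 5 1 (((((cl0_l).drop 23).drop 9).drop 10).take 10) = true := by decide +kernel

theorem cl0_3_6 : chkOn A 17 6 1 (((((cl0_l).drop 23).drop 9).drop 10).take 10) = true := by decide +kernel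

theorem cl0_3_7 : chkOn A 17 7 1 (((((cl0_l).drop 23).drop 9).drop 10).take 10) = true := by decide +kernel

theorem cl0_3_8 : chkOn A 17 8 1 (((((cl0_l).drop 23).drop 9).drop 10).take 10) = true := by decide +kernel

theorem cl0_3_9 : chkOn A 17 9 1 (((((cl0_l).drop 23).drop 9).drop 10).take 10) = true := by decide +kernel

theorem cl0_3_10 : chkOn A 17 10 1 (((((cl0_l).drop 23).drop 9).drop 10).take 10) = true := by decide +kernel

theorem cl0_3_11 : chkOn A 17 11 1 (((((cl0_l).drop 23).drop 9).drop 10).take 10) = true := by decide +kernel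

theorem cl0_3_12 : chkOn A 17 12 1 (((((cl0_l).drop 23).drop 9).drop 10).take 10) = true := by decide +kernel

theorem cl0_3_13 : chkOn A 17 13 1 (((((cl0_l).drop 23).drop 9).drop 10).take 10) = true := by decide +kernel

theorem cl0_3_14 : chkOn A 17 14 1 (((((cl0_l).drop 23).drop 9).drop 10).take 10) = true := by decide +kernel

theorem cl0_3_15 : chkOn A 17 15 1 (((((cl0_l).drop 23).drop 9).drop 10).take 10) = true := by decide +kernel

theorem cl0_3_16 : chkOn A 17 16 1 (((((cl0_l).drop 23).drop 9).drop 10).take 10) = true := by decide +kernel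

theorem cl0_4_0 : chkOn A 17 0 1 ((((((cl0_l).drop 23).drop 9).drop 10).drop 10).take 9) = true := by decide +kernel


end Cfsg.Agent.Spor.ON
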