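import Cfsg.Agent.Lib.Spor.ON.Defs

set_option autoImplicit false
set_option maxRecDepth 100000
set_option Elab.async false
set_option exponentiation.threshold 100000

namespace Cfsg.Agent.Spor.ON
open Cfsg.Agent.PG

theorem cl0_4_1 : chkOn A 17 1 1 ((((((cl0_l).drop 23).drop 9).drop 10).drop 10).take 9) = true := by decide +kernel

theorem cl0_4_2 : chkOn A 17 2 1 ((((((cl0_l).drop 23).drop 9).drop 10).drop 10).take 9) = true := by decide +kernel

theorem cl0_4_3 : chkOn A 17 3 1 ((((((cl0_l).drop 23).drop 9).drop 10).drop 10).take 9) = true := by decide +kernel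

theorem cl0_4_4 : chkOn A 17 4 1 ((((((cl0_l).drop 23).drop 9).drop 10).drop 10).take 9) = true := by decide +kernel

theorem cl0_4_5 : chkOn A 17 5 1 ((((((cl0_l).drop 23).drop 9).drop 10).drop 10).take 9) = true := by decide +kernel

theorem cl0_4_6 : chkOn A 17 6 1 ((((((cl0_l).drop 23).drop 9).drop 10).drop 10).take 9) = true := by decide +kernel

theorem cl0_4_7 : chkOn A 17 7 1 ((((((cl0_l).drop 23).drop 9).drop 10).drop 10).take 9) = true := by decide +kernel

theorem cl0_4_8 : chkOn A 17 8 1 ((((((cl0_l).drop 23).drop 9).drop 10).drop 10).take 9) = true := by decide +kernel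

theorem cl0_4_9 : chkOn A 17 9 1 ((((((cl0_l).drop 23).drop 9).drop 10).drop 10).take 9) = true := by decide +kernel

theorem cl0_4_10 : chkOn A 17 10 1 ((((((cl0_l).drop 23).drop 9).drop 10).drop 10).take 9) = true := by decide +kernel

theorem cl0_4_11 : chkOn A 17 11 1 ((((((cl0_l).drop 23).drop 9).drop 10).drop 10).take 9) = true := by decide +kernel

theorem cl0_4_12 : chkOn A 17 12 1 ((((((cl0_l).drop 23).drop 9).drop 10).drop 10).take 9) = true := by decide +kernel

theorem cl0_4_13 : chkOn A 17 13 1 ((((((cl0_l).drop 23).drop 9).drop 10).drop 10).take 9) = true := by decide +kernel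

theorem cl0_4_14 : chkOn A 17 14 1 ((((((cl0_l).drop 23).drop 9).drop 10).drop 10).take 9) = true := by decide +kernel

theorem cl0_4_15 : chkOn A 17 15 1 ((((((cl0_l).drop 23).drop 9).drop 10).drop 10).take 9) = true := by decide +kernel

theorem cl0_4_16 : chkOn A 17 16 1 ((((((cl0_l).drop 23).drop 9).drop 10).drop 10).take 9) = true := by decide +kernel

theorem cl0_5_0 : chkOn A 17 0 1 (((((((cl0_l).drop 23).drop 9).drop 10).drop 10).drop 9).take 9) = true := by decide +kernel

theorem cl0_5_1 : chkOn A 17 1 1 (((((((cl0_l).drop 23).drop 9).drop 10).drop 10).drop 9).take 9) = true := by decide +kernel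

theorem cl0_5_2 : chkOn A 17 2 1 (((((((cl0_l).drop 23).drop 9).drop 10).drop 10).drop 9).take 9) = true := by decide +kernel

theorem cl0_5_3 : chkOn A 17 3 1 (((((((cl0_l).drop 23).drop 9).drop 10).drop 10).drop 9).take 9) = true := by decide +kernel

theorem cl0_5_4 : chkOn A 17 4 1 (((((((cl0_l).drop 23).drop 9).drop 10).drop 10).drop 9).take 9) = true := by decide +kernel

theorem cl0_5_5 : chkOn A 17 5 1 (((((((cl0_l).drop 23).drop 9).drop 10).drop 10).drop 9).take 9) = true := by decide +kernel

theorem cl0_5_6 : chkOn A 17 6 1 (((((((cl0_l).drop 23).drop 9).drop 10).drop 10).drop 9).take 9) = true := by decide +kernel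

theorem cl0_5_7 : chkOn A 17 7 1 (((((((cl0_l).drop 23).drop 9).drop 10).drop 10).drop 9).take 9) = true := by decide +kernel

theorem cl0_5_8 : chkOn A 17 8 1 (((((((cl0_l).drop 23).drop 9).drop 10).drop 10).drop 9).take 9) = true := by decide +kernel

theorem cl0_5_9 : chkOn A 17 9 1 (((((((cl0_l).drop 23).drop 9).drop 10).drop 10).drop 9).take 9) = true := by decide +kernel

theorem cl0_5_10 : chkOn A 17 10 1 (((((((cl0_l).drop 23).drop 9).drop 10).drop 10).drop 9).take 9) = true := by decide +kernel

theorem cl0_5_11 : chkOn A 17 11 1 (((((((cl0_l).drop 23).drop 9).drop 10).drop 10).drop 9).take 9) = true := by decide +kernel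

theorem cl0_5_12 : chkOn A 17 12 1 (((((((cl0_l).drop 23).drop 9).drop 10).drop 10).drop 9).take 9) = true := by decide +kernel

theorem cl0_5_13 : chkOn A 17 13 1 (((((((cl0_l).drop 23).drop 9).drop 10).drop 10).drop 9).take 9) = true := by decide +kernel

theorem cl0_5_14 : chkOn A 17 14 1 (((((((cl0_l).drop 23).drop 9).drop 10).drop 10).drop 9).take 9) = true := by decide +kernel

theorem cl0_5_15 : chkOn A 17 15 1 (((((((cl0_l).drop 23).drop 9).drop 10).drop 10).drop 9).take 9) = true := by decide +kernel

theorem cl0_5_16 : chkOn A 17 16 1 (((((((cl0_l).drop 23).drop 9).drop 10).drop 10).drop 9).take 9) = true := by decide +kernel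

theorem cl0_6_0 : chkOn A 17 0 1 ((((((((cl0_l).drop 23).drop 9).drop 10).drop 10).drop 9).drop 9).take 8) = true := by decide +kernel

theorem cl0_6_1 : chkOn A 17 1 1 ((((((((cl0_l).drop 23).drop 9).drop 10).drop 10).drop 9).drop 9).take 8) = true := by decide +kernel

theorem cl0_6_2 : chkOn A 17 2 1 ((((((((cl0_l).drop 23).drop 9).drop 10).drop 10).drop 9).drop 9).take 8) = true := by decide +kernel

theorem cl0_6_3 : chkOn A 17 3 1 ((((((((cl0_l).drop 23).drop 9).drop 10).drop 10).drop 9).drop 9).take 8) = true := by decide +kernel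

theorem cl0_6_4 : chkOn A 17 4 1 ((((((((cl0_l).drop 23).drop 9).drop 10).drop 10).drop 9).drop 9).take 8) = true := by decide +kernel

theorem cl0_6_5 : chkOn A 17 5 1 ((((((((cl0_l).drop 23).drop 9).drop 10).drop 10).drop 9).drop 9).take 8) = true := by decide +kernel

theorem cl0_6_6 : chkOn A 17 6 1 ((((((((cl0_l).drop 23).drop 9).drop 10).drop 10).drop 9).drop 9).take 8) = true := by decide +kernel

theorem cl0_6_7 : chkOn A 17 7 1 ((((((((cl0_l).drop 23).drop 9).drop 10).drop 10).drop 9).drop 9).take 8) = true := by decide +kernel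

theorem cl0_6_8 : chkOn A 17 8 1 ((((((((cl0_l).drop 23).drop 9).drop 10).drop 10).drop 9).drop 9).take 8) = true := by decide +kernel

theorem cl0_6_9 : chkOn A 17 9 1 ((((((((cl0_l).drop 23).drop 9).drop 10).drop 10).drop 9).drop 9).take 8) = true := by decide +kernel

theorem cl0_6_10 : chkOn A 17 10 1 ((((((((cl0_l).drop 23).drop 9).drop 10).drop 10).drop 9).drop 9).take 8) = true := by decide +kernel

theorem cl0_6_11 : chkOn A 17 11 1 ((((((((cl0_l).drop 23).drop 9).drop 10).drop 10).drop 9).drop 9).take 8) = true := by decide +kernel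

theorem cl0_6_12 : chkOn A 17 12 1 ((((((((cl0_l).drop 23).drop 9).drop 10).drop 10).drop 9).drop 9).take 8) = true := by decide +kernel

theorem cl0_6_13 : chkOn A 17 13 1 ((((((((cl0_l).drop 23).drop 9).drop 10).drop 10).drop 9).drop 9).take 8) = true := by decide +kernel

theorem cl0_6_14 : chkOn A 17 14 1 ((((((((cl0_l).drop 23).drop 9).drop 10).drop 10).drop 9).drop 9).take 8) = true := by decide +kernel

theorem cl0_6_15 : chkOn A 17 15 1 ((((((((cl0_l).drop 23).drop 9).drop 10).drop 10).drop 9).drop 9).take 8) = true := by decide +kernel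

theorem cl0_6_16 : chkOn A 17 16 1 ((((((((cl0_l).drop 23).drop 9).drop 10).drop 10).drop 9).drop 9).take 8) = true := by decide +kernel

theorem cl0_7_0 : chkOn A 17 0 1 (((((((((cl0_l).drop 23).drop 9).drop 10).drop 10).drop 9).drop 9).drop 8).take 8) = true := by decide +kernel

theorem cl0_7_1 : chkOn A 17 1 1 (((((((((cl0_l).drop 23).drop 9).drop 10).drop 10).drop 9).drop 9).drop 8).take 8) = true := by decide +kernel

theorem cl0_7_2 : chkOn A 17 2 1 (((((((((cl0_l).drop 23).drop 9).drop 10).drop 10).drop 9).drop 9).drop 8).take 8) = true := by decide +kernel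

theorem cl0_7_3 : chkOn A 17 3 1 (((((((((cl0_l).drop 23).drop 9).drop 10).drop 10).drop 9).drop 9).drop 8).take 8) = true := by decide +kernel

theorem cl0_7_4 : chkOn A 17 4 1 (((((((((cl0_l).drop 23).drop 9).drop 10).drop 10).drop 9).drop 9).drop 8).take 8) = true := by decide +kernel

theorem cl0_7_5 : chkOn A 17 5 1 (((((((((cl0_l).drop 23).drop 9).drop 10).drop 10).drop 9).drop 9).drop 8).take 8) = true := by decide +kernel

theorem cl0_7_6 : chkOn A 17 6 1 (((((((((cl0_l).drop 23).drop 9).drop 10).drop 10).drop 9).drop 9).drop 8).take 8) = true := by decide +kernel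

theorem cl0_7_7 : chkOn A 17 7 1 (((((((((cl0_l).drop 23).drop 9).drop 10).drop 10).drop 9).drop 9).drop 8).take 8) = true := by decide +kernel

theorem cl0_7_8 : chkOn A 17 8 1 (((((((((cl0_l).drop 23).drop 9).drop 10).drop 10).drop 9).drop 9).drop 8).take 8) = true := by decide +kernel

theorem cl0_7_9 : chkOn A 17 9 1 (((((((((cl0_l).drop 23).drop 9).drop 10).drop 10).drop 9).drop 9).drop 8).take 8) = true := by decide +kernel

theorem cl0_7_10 : chkOn A 17 10 1 (((((((((cl0_l).drop 23).drop 9).drop 10).drop 10).drop 9).drop 9).drop 8).take 8) = true := by decide +kernel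


end Cfsg.Agent.Spor.ON
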