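import Cfsg.Agent.Lib.Spor.ON.Defs

set_option autoImplicit false
set_option maxRecDepth 100000
set_option Elab.async false
set_option exponentiation.threshold 100000

namespace Cfsg.Agent.Spor.ON
open Cfsg.Agent.PG

theorem cl0_7_11 : chkOn A 17 11 1 (((((((((cl0_l).drop 23).drop 9).drop 10).drop 10).drop 9).drop 9).drop 8).take 8) = true := by decide +kernel

theorem cl0_7_12 : chkOn A 17 12 1 (((((((((cl0_l).drop 23).drop 9).drop 10).drop 10).drop 9).drop 9).drop 8).take 8) = true := by decide +kernel

theorem cl0_7_13 : chkOn A 17 13 1 (((((((((cl0_l).drop 23).drop 9).drop 10).drop 10).drop 9).drop 9).drop 8).take 8) = true := by decide +kernel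

theorem cl0_7_14 : chkOn A 17 14 1 (((((((((cl0_l).drop 23).drop 9).drop 10).drop 10).drop 9).drop 9).drop 8).take 8) = true := by decide +kernel

theorem cl0_7_15 : chkOn A 17 15 1 (((((((((cl0_l).drop 23).drop 9).drop 10).drop 10).drop 9).drop 9).drop 8).take 8) = true := by decide +kernel

theorem cl0_7_16 : chkOn A 17 16 1 (((((((((cl0_l).drop 23).drop 9).drop 10).drop 10).drop 9).drop 9).drop 8).take 8) = true := by decide +kernel

theorem cl0_8_0 : chkOn A 17 0 1 ((((((((((cl0_l).drop 23).drop 9).drop 10).drop 10).drop 9).drop 9).drop 8).drop 8).take 8) = true := by decide +kernel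

theorem cl0_8_1 : chkOn A 17 1 1 ((((((((((cl0_l).drop 23).drop 9).drop 10).drop 10).drop 9).drop 9).drop 8).drop 8).take 8) = true := by decide +kernel

theorem cl0_8_2 : chkOn A 17 2 1 ((((((((((cl0_l).drop 23).drop 9).drop 10).drop 10).drop 9).drop 9).drop 8).drop 8).take 8) = true := by decide +kernel

theorem cl0_8_3 : chkOn A 17 3 1 ((((((((((cl0_l).drop 23).drop 9).drop 10).drop 10).drop 9).drop 9).drop 8).drop 8).take 8) = true := by decide +kernel

theorem cl0_8_4 : chkOn A 17 4 1 ((((((((((cl0_l).drop 23).drop 9).drop 10).drop 10).drop 9).drop 9).drop 8).drop 8).take 8) = true := by decide +kernel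

theorem cl0_8_5 : chkOn A 17 5 1 ((((((((((cl0_l).drop 23).drop 9).drop 10).drop 10).drop 9).drop 9).drop 8).drop 8).take 8) = true := by decide +kernel

theorem cl0_8_6 : chkOn A 17 6 1 ((((((((((cl0_l).drop 23).drop 9).drop 10).drop 10).drop 9).drop 9).drop 8).drop 8).take 8) = true := by decide +kernel

theorem cl0_8_7 : chkOn A 17 7 1 ((((((((((cl0_l).drop 23).drop 9).drop 10).drop 10).drop 9).drop 9).drop 8).drop 8).take 8) = true := by decide +kernel

theorem cl0_8_8 : chkOn A 17 8 1 ((((((((((cl0_l).drop 23).drop 9).drop 10).drop 10).drop 9).drop 9).drop 8).drop 8).take 8) = true := by decide +kernel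

theorem cl0_8_9 : chkOn A 17 9 1 ((((((((((cl0_l).drop 23).drop 9).drop 10).drop 10).drop 9).drop 9).drop 8).drop 8).take 8) = true := by decide +kernel

theorem cl0_8_10 : chkOn A 17 10 1 ((((((((((cl0_l).drop 23).drop 9).drop 10).drop 10).drop 9).drop 9).drop 8).drop 8).take 8) = true := by decide +kernel

theorem cl0_8_11 : chkOn A 17 11 1 ((((((((((cl0_l).drop 23).drop 9).drop 10).drop 10).drop 9).drop 9).drop 8).drop 8).take 8) = true := by decide +kernel

theorem cl0_8_12 : chkOn A 17 12 1 ((((((((((cl0_l).drop 23).drop 9).drop 10).drop 10).drop 9).drop 9).drop 8).drop 8).take 8) = true := by decide +kernel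

theorem cl0_8_13 : chkOn A 17 13 1 ((((((((((cl0_l).drop 23).drop 9).drop 10).drop 10).drop 9).drop 9).drop 8).drop 8).take 8) = true := by decide +kernel

theorem cl0_8_14 : chkOn A 17 14 1 ((((((((((cl0_l).drop 23).drop 9).drop 10).drop 10).drop 9).drop 9).drop 8).drop 8).take 8) = true := by decide +kernel

theorem cl0_8_15 : chkOn A 17 15 1 ((((((((((cl0_l).drop 23).drop 9).drop 10).drop 10).drop 9).drop 9).drop 8).drop 8).take 8) = true := by decide +kernel

theorem cl0_8_16 : chkOn A 17 16 1 ((((((((((cl0_l).drop 23).drop 9).drop 10).drop 10).drop 9).drop 9).drop 8).drop 8).take 8) = true := by decide +kernel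

theorem cl0_9_0 : chkOn A 17 0 1 (((((((((((cl0_l).drop 23).drop 9).drop 10).drop 10).drop 9).drop 9).drop 8).drop 8).drop 8).take 8) = true := by decide +kernel

theorem cl0_9_1 : chkOn A 17 1 1 (((((((((((cl0_l).drop 23).drop 9).drop 10).drop 10).drop 9).drop 9).drop 8).drop 8).drop 8).take 8) = true := by decide +kernel

theorem cl0_9_2 : chkOn A 17 2 1 (((((((((((cl0_l).drop 23).drop 9).drop 10).drop 10).drop 9).drop 9).drop 8).drop 8).drop 8).take 8) = true := by decide +kernel

theorem cl0_9_3 : chkOn A 17 3 1 (((((((((((cl0_l).drop 23).drop 9).drop 10).drop 10).drop 9).drop 9).drop 8).drop 8).drop 8).take 8) = true := by decide +kernel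

theorem cl0_9_4 : chkOn A 17 4 1 (((((((((((cl0_l).drop 23).drop 9).drop 10).drop 10).drop 9).drop 9).drop 8).drop 8).drop 8).take 8) = true := by decide +kernel

theorem cl0_9_5 : chkOn A 17 5 1 (((((((((((cl0_l).drop 23).drop 9).drop 10).drop 10).drop 9).drop 9).drop 8).drop 8).drop 8).take 8) = true := by decide +kernel

theorem cl0_9_6 : chkOn A 17 6 1 (((((((((((cl0_l).drop 23).drop 9).drop 10).drop 10).drop 9).drop 9).drop 8).drop 8).drop 8).take 8) = true := by decide +kernel

theorem cl0_9_7 : chkOn A 17 7 1 (((((((((((cl0_l).drop 23).drop 9).drop 10).drop 10).drop 9).drop 9).drop 8).drop 8).drop 8).take 8) = true := by decide +kernel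

theorem cl0_9_8 : chkOn A 17 8 1 (((((((((((cl0_l).drop 23).drop 9).drop 10).drop 10).drop 9).drop 9).drop 8).drop 8).drop 8).take 8) = true := by decide +kernel

theorem cl0_9_9 : chkOn A 17 9 1 (((((((((((cl0_l).drop 23).drop 9).drop 10).drop 10).drop 9).drop 9).drop 8).drop 8).drop 8).take 8) = true := by decide +kernel

theorem cl0_9_10 : chkOn A 17 10 1 (((((((((((cl0_l).drop 23).drop 9).drop 10).drop 10).drop 9).drop 9).drop 8).drop 8).drop 8).take 8) = true := by decide +kernel

theorem cl0_9_11 : chkOn A 17 11 1 (((((((((((cl0_l).drop 23).drop 9).drop 10).drop 10).drop 9).drop 9).drop 8).drop 8).drop 8).take 8) = true := by decide +kernel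

theorem cl0_9_12 : chkOn A 17 12 1 (((((((((((cl0_l).drop 23).drop 9).drop 10).drop 10).drop 9).drop 9).drop 8).drop 8).drop 8).take 8) = true := by decide +kernel

theorem cl0_9_13 : chkOn A 17 13 1 (((((((((((cl0_l).drop 23).drop 9).drop 10).drop 10).drop 9).drop 9).drop 8).drop 8).drop 8).take 8) = true := by decide +kernel

theorem cl0_9_14 : chkOn A 17 14 1 (((((((((((cl0_l).drop 23).drop 9).drop 10).drop 10).drop 9).drop 9).drop 8).drop 8).drop 8).take 8) = true := by decide +kernel

theorem cl0_9_15 : chkOn A 17 15 1 (((((((((((cl0_l).drop 23).drop 9).drop 10).drop 10).drop 9).drop 9).drop 8).drop 8).drop 8).take 8) = true := by decide +kernel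

theorem cl0_9_16 : chkOn A 17 16 1 (((((((((((cl0_l).drop 23).drop 9).drop 10).drop 10).drop 9).drop 9).drop 8).drop 8).drop 8).take 8) = true := by decide +kernel

theorem cl0_10_0 : chkOn A 17 0 1 ((((((((((((cl0_l).drop 23).drop 9).drop 10).drop 10).drop 9).drop 9).drop 8).drop 8).drop 8).drop 8).take 8) = true := by decide +kernel

theorem cl0_10_1 : chkOn A 17 1 1 ((((((((((((cl0_l).drop 23).drop 9).drop 10).drop 10).drop 9).drop 9).drop 8).drop 8).drop 8).drop 8).take 8) = true := by decide +kernel

theorem cl0_10_2 : chkOn A 17 2 1 ((((((((((((cl0_l).drop 23).drop 9).drop 10).drop 10).drop 9).drop 9).drop 8).drop 8).drop 8).drop 8).take 8) = true := by decide +kernel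

theorem cl0_10_3 : chkOn A 17 3 1 ((((((((((((cl0_l).drop 23).drop 9).drop 10).drop 10).drop 9).drop 9).drop 8).drop 8).drop 8).drop 8).take 8) = true := by decide +kernel

theorem cl0_10_4 : chkOn A 17 4 1 ((((((((((((cl0_l).drop 23).drop 9).drop 10).drop 10).drop 9).drop 9).drop 8).drop 8).drop 8).drop 8).take 8) = true := by decide +kernel

theorem cl0_10_5 : chkOn A 17 5 1 ((((((((((((cl0_l).drop 23).drop 9).drop 10).drop 10).drop 9).drop 9).drop 8).drop 8).drop 8).drop 8).take 8) = true := by decide +kernel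

theorem cl0_10_6 : chkOn A 17 6 1 ((((((((((((cl0_l).drop 23).drop 9).drop 10).drop 10).drop 9).drop 9).drop 8).drop 8).drop 8).drop 8).take 8) = true := by decide +kernel

theorem cl0_10_7 : chkOn A 17 7 1 ((((((((((((cl0_l).drop 23).drop 9).drop 10).drop 10).drop 9).drop 9).drop 8).drop 8).drop 8).drop 8).take 8) = true := by decide +kernel

theorem cl0_10_8 : chkOn A 17 8 1 ((((((((((((cl0_l).drop 23).drop 9).drop 10).drop 10).drop 9).drop 9).drop 8).drop 8).drop 8).drop 8).take 8) = true := by decide +kernel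

theorem cl0_10_9 : chkOn A 17 9 1 ((((((((((((cl0_l).drop 23).drop 9).drop 10).drop 10).drop 9).drop 9).drop 8).drop 8).drop 8).drop 8).take 8) = true := by decide +kernel

theorem cl0_10_10 : chkOn A 17 10 1 ((((((((((((cl0_l).drop 23).drop 9).drop 10).drop 10).drop 9).drop 9).drop 8).drop 8).drop 8).drop 8).take 8) = true := by decide +kernel

theorem cl0_10_11 : chkOn A 17 11 1 ((((((((((((cl0_l).drop 23).drop 9).drop 10).drop 10).drop 9).drop 9).drop 8).drop 8).drop 8).drop 8).take 8) = true := by decide +kernel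

theorem cl0_10_12 : chkOn A 17 12 1 ((((((((((((cl0_l).drop 23).drop 9).drop 10).drop 10).drop 9).drop 9).drop 8).drop 8).drop 8).drop 8).take 8) = true := by decide +kernel

theorem cl0_10_13 : chkOn A 17 13 1 ((((((((((((cl0_l).drop 23).drop 9).drop 10).drop 10).drop 9).drop 9).drop 8).drop 8).drop 8).drop 8).take 8) = true := by decide +kernel

theorem cl0_10_14 : chkOn A 17 14 1 ((((((((((((cl0_l).drop 23).drop 9).drop 10).drop 10).drop 9).drop 9).drop 8).drop 8).drop 8).drop 8).take 8) = true := by decide +kernel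

theorem cl0_10_15 : chkOn A 17 15 1 ((((((((((((cl0_l).drop 23).drop 9).drop 10).drop 10).drop 9).drop 9).drop 8).drop 8).drop 8).drop 8).take 8) = true := by decide +kernel

theorem cl0_10_16 : chkOn A 17 16 1 ((((((((((((cl0_l).drop 23).drop 9).drop 10).drop 10).drop 9).drop 9).drop 8).drop 8).drop 8).drop 8).take 8) = true := by decide +kernel

theorem cl0_11_0 : chkOn A 17 0 1 (((((((((((((cl0_l).drop 23).drop 9).drop 10).drop 10).drop 9).drop 9).drop 8).drop 8).drop 8).drop 8).drop 8).take 8) = true := by decide +kernel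

theorem cl0_11_1 : chkOn A 17 1 1 (((((((((((((cl0_l).drop 23).drop 9).drop 10).drop 10).drop 9).drop 9).drop 8).drop 8).drop 8).drop 8).drop 8).take 8) = true := by decide +kernel

theorem cl0_11_2 : chkOn A 17 2 1 (((((((((((((cl0_l).drop 23).drop 9).drop 10).drop 10).drop 9).drop 9).drop 8).drop 8).drop 8).drop 8).drop 8).take 8) = true := by decide +kernel

theorem cl0_11_3 : chkOn A 17 3 1 (((((((((((((cl0_l).drop 23).drop 9).drop 10).drop 10).drop 9).drop 9).drop 8).drop 8).drop 8).drop 8).drop 8).take 8) = true := by decide +kernel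

theorem cl0_11_4 : chkOn A 17 4 1 (((((((((((((cl0_l).drop 23).drop 9).drop 10).drop 10).drop 9).drop 9).drop 8).drop 8).drop 8).drop 8).drop 8).take 8) = true := by decide +kernel

theorem cl0_11_5 : chkOn A 17 5 1 (((((((((((((cl0_l).drop 23).drop 9).drop 10).drop 10).drop 9).drop 9).drop 8).drop 8).drop 8).drop 8).drop 8).take 8) = true := by decide +kernel


end Cfsg.Agent.Spor.ON
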