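import Cfsg.Agent.Lib.Spor.ON.Defs

set_option autoImplicit false
set_option maxRecDepth 100000
set_option Elab.async false
set_option exponentiation.threshold 100000

namespace Cfsg.Agent.Spor.ON
open Cfsg.Agent.PG

theorem cl0_11_6 : chkOn A 17 6 1 (((((((((((((cl0_l).drop 23).drop 9).drop 10).drop 10).drop 9).drop 9).drop 8).drop 8).drop 8).drop 8).drop 8).take 8) = true := by decide +kernel

theorem cl0_11_7 : chkOn A 17 7 1 (((((((((((((cl0_l).drop 23).drop 9).drop 10).drop 10).drop 9).drop 9).drop 8).drop 8).drop 8).drop 8).drop 8).take 8) = true := by decide +kernel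

theorem cl0_11_8 : chkOn A 17 8 1 (((((((((((((cl0_l).drop 23).drop 9).drop 10).drop 10).drop 9).drop 9).drop 8).drop 8).drop 8).drop 8).drop 8).take 8) = true := by decide +kernel

theorem cl0_11_9 : chkOn A 17 9 1 (((((((((((((cl0_l).drop 23).drop 9).drop 10).drop 10).drop 9).drop 9).drop 8).drop 8).drop 8).drop 8).drop 8).take 8) = true := by decide +kernel

theorem cl0_11_10 : chkOn A 17 10 1 (((((((((((((cl0_l).drop 23).drop 9).drop 10).drop 10).drop 9).drop 9).drop 8).drop 8).drop 8).drop 8).drop 8).take 8) = true := by decide +kernel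

theorem cl0_11_11 : chkOn A 17 11 1 (((((((((((((cl0_l).drop 23).drop 9).drop 10).drop 10).drop 9).drop 9).drop 8).drop 8).drop 8).drop 8).drop 8).take 8) = true := by decide +kernel

theorem cl0_11_12 : chkOn A 17 12 1 (((((((((((((cl0_l).drop 23).drop 9).drop 10).drop 10).drop 9).drop 9).drop 8).drop 8).drop 8).drop 8).drop 8).take 8) = true := by decide +kernel

theorem cl0_11_13 : chkOn A 17 13 1 (((((((((((((cl0_l).drop 23).drop 9).drop 10).drop 10).drop 9).drop 9).drop 8).drop 8).drop 8).drop 8).drop 8).take 8) = true := by decide +kernel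

theorem cl0_11_14 : chkOn A 17 14 1 (((((((((((((cl0_l).drop 23).drop 9).drop 10).drop 10).drop 9).drop 9).drop 8).drop 8).drop 8).drop 8).drop 8).take 8) = true := by decide +kernel

theorem cl0_11_15 : chkOn A 17 15 1 (((((((((((((cl0_l).drop 23).drop 9).drop 10).drop 10).drop 9).drop 9).drop 8).drop 8).drop 8).drop 8).drop 8).take 8) = true := by decide +kernel

theorem cl0_11_16 : chkOn A 17 16 1 (((((((((((((cl0_l).drop 23).drop 9).drop 10).drop 10).drop 9).drop 9).drop 8).drop 8).drop 8).drop 8).drop 8).take 8) = true := by decide +kernel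

theorem cl0_12_0 : chkOn A 17 0 1 ((((((((((((((cl0_l).drop 23).drop 9).drop 10).drop 10).drop 9).drop 9).drop 8).drop 8).drop 8).drop 8).drop 8).drop 8).take 8) = true := by decide +kernel

theorem cl0_12_1 : chkOn A 17 1 1 ((((((((((((((cl0_l).drop 23).drop 9).drop 10).drop 10).drop 9).drop 9).drop 8).drop 8).drop 8).drop 8).drop 8).drop 8).take 8) = true := by decide +kernel

theorem cl0_12_2 : chkOn A 17 2 1 ((((((((((((((cl0_l).drop 23).drop 9).drop 10).drop 10).drop 9).drop 9).drop 8).drop 8).drop 8).drop 8).drop 8).drop 8).take 8) = true := by decide +kernel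

theorem cl0_12_3 : chkOn A 17 3 1 ((((((((((((((cl0_l).drop 23).drop 9).drop 10).drop 10).drop 9).drop 9).drop 8).drop 8).drop 8).drop 8).drop 8).drop 8).take 8) = true := by decide +kernel

theorem cl0_12_4 : chkOn A 17 4 1 ((((((((((((((cl0_l).drop 23).drop 9).drop 10).drop 10).drop 9).drop 9).drop 8).drop 8).drop 8).drop 8).drop 8).drop 8).take 8) = true := by decide +kernel

theorem cl0_12_5 : chkOn A 17 5 1 ((((((((((((((cl0_l).drop 23).drop 9).drop 10).drop 10).drop 9).drop 9).drop 8).drop 8).drop 8).drop 8).drop 8).drop 8).take 8) = true := by decide +kernel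

theorem cl0_12_6 : chkOn A 17 6 1 ((((((((((((((cl0_l).drop 23).drop 9).drop 10).drop 10).drop 9).drop 9).drop 8).drop 8).drop 8).drop 8).drop 8).drop 8).take 8) = true := by decide +kernel

theorem cl0_12_7 : chkOn A 17 7 1 ((((((((((((((cl0_l).drop 23).drop 9).drop 10).drop 10).drop 9).drop 9).drop 8).drop 8).drop 8).drop 8).drop 8).drop 8).take 8) = true := by decide +kernel

theorem cl0_12_8 : chkOn A 17 8 1 ((((((((((((((cl0_l).drop 23).drop 9).drop 10).drop 10).drop 9).drop 9).drop 8).drop 8).drop 8).drop 8).drop 8).drop 8).take 8) = true := by decide +kernel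

theorem cl0_12_9 : chkOn A 17 9 1 ((((((((((((((cl0_l).drop 23).drop 9).drop 10).drop 10).drop 9).drop 9).drop 8).drop 8).drop 8).drop 8).drop 8).drop 8).take 8) = true := by decide +kernel

theorem cl0_12_10 : chkOn A 17 10 1 ((((((((((((((cl0_l).drop 23).drop 9).drop 10).drop 10).drop 9).drop 9).drop 8).drop 8).drop 8).drop 8).drop 8).drop 8).take 8) = true := by decide +kernel

theorem cl0_12_11 : chkOn A 17 11 1 ((((((((((((((cl0_l).drop 23).drop 9).drop 10).drop 10).drop 9).drop 9).drop 8).drop 8).drop 8).drop 8).drop 8).drop 8).take 8) = true := by decide +kernel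

theorem cl0_12_12 : chkOn A 17 12 1 ((((((((((((((cl0_l).drop 23).drop 9).drop 10).drop 10).drop 9).drop 9).drop 8).drop 8).drop 8).drop 8).drop 8).drop 8).take 8) = true := by decide +kernel

theorem cl0_12_13 : chkOn A 17 13 1 ((((((((((((((cl0_l).drop 23).drop 9).drop 10).drop 10).drop 9).drop 9).drop 8).drop 8).drop 8).drop 8).drop 8).drop 8).take 8) = true := by decide +kernel

theorem cl0_12_14 : chkOn A 17 14 1 ((((((((((((((cl0_l).drop 23).drop 9).drop 10).drop 10).drop 9).drop 9).drop 8).drop 8).drop 8).drop 8).drop 8).drop 8).take 8) = true := by decide +kernel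

theorem cl0_12_15 : chkOn A 17 15 1 ((((((((((((((cl0_l).drop 23).drop 9).drop 10).drop 10).drop 9).drop 9).drop 8).drop 8).drop 8).drop 8).drop 8).drop 8).take 8) = true := by decide +kernel

theorem cl0_12_16 : chkOn A 17 16 1 ((((((((((((((cl0_l).drop 23).drop 9).drop 10).drop 10).drop 9).drop 9).drop 8).drop 8).drop 8).drop 8).drop 8).drop 8).take 8) = true := by decide +kernel

theorem cl0_13_0 : chkOn A 17 0 1 (((((((((((((((cl0_l).drop 23).drop 9).drop 10).drop 10).drop 9).drop 9).drop 8).drop 8).drop 8).drop 8).drop 8).drop 8).drop 8).take 8) = true := by decide +kernel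

theorem cl0_13_1 : chkOn A 17 1 1 (((((((((((((((cl0_l).drop 23).drop 9).drop 10).drop 10).drop 9).drop 9).drop 8).drop 8).drop 8).drop 8).drop 8).drop 8).drop 8).take 8) = true := by decide +kernel

theorem cl0_13_2 : chkOn A 17 2 1 (((((((((((((((cl0_l).drop 23).drop 9).drop 10).drop 10).drop 9).drop 9).drop 8).drop 8).drop 8).drop 8).drop 8).drop 8).drop 8).take 8) = true := by decide +kernel

theorem cl0_13_3 : chkOn A 17 3 1 (((((((((((((((cl0_l).drop 23).drop 9).drop 10).drop 10).drop 9).drop 9).drop 8).drop 8).drop 8).drop 8).drop 8).drop 8).drop 8).take 8) = true := by decide +kernel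

theorem cl0_13_4 : chkOn A 17 4 1 (((((((((((((((cl0_l).drop 23).drop 9).drop 10).drop 10).drop 9).drop 9).drop 8).drop 8).drop 8).drop 8).drop 8).drop 8).drop 8).take 8) = true := by decide +kernel

theorem cl0_13_5 : chkOn A 17 5 1 (((((((((((((((cl0_l).drop 23).drop 9).drop 10).drop 10).drop 9).drop 9).drop 8).drop 8).drop 8).drop 8).drop 8).drop 8).drop 8).take 8) = true := by decide +kernel

theorem cl0_13_6 : chkOn A 17 6 1 (((((((((((((((cl0_l).drop 23).drop 9).drop 10).drop 10).drop 9).drop 9).drop 8).drop 8).drop 8).drop 8).drop 8).drop 8).drop 8).take 8) = true := by decide +kernel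

theorem cl0_13_7 : chkOn A 17 7 1 (((((((((((((((cl0_l).drop 23).drop 9).drop 10).drop 10).drop 9).drop 9).drop 8).drop 8).drop 8).drop 8).drop 8).drop 8).drop 8).take 8) = true := by decide +kernel

theorem cl0_13_8 : chkOn A 17 8 1 (((((((((((((((cl0_l).drop 23).drop 9).drop 10).drop 10).drop 9).drop 9).drop 8).drop 8).drop 8).drop 8).drop 8).drop 8).drop 8).take 8) = true := by decide +kernel

theorem cl0_13_9 : chkOn A 17 9 1 (((((((((((((((cl0_l).drop 23).drop 9).drop 10).drop 10).drop 9).drop 9).drop 8).drop 8).drop 8).drop 8).drop 8).drop 8).drop 8).take 8) = true := by decide +kernel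

theorem cl0_13_10 : chkOn A 17 10 1 (((((((((((((((cl0_l).drop 23).drop 9).drop 10).drop 10).drop 9).drop 9).drop 8).drop 8).drop 8).drop 8).drop 8).drop 8).drop 8).take 8) = true := by decide +kernel

theorem cl0_13_11 : chkOn A 17 11 1 (((((((((((((((cl0_l).drop 23).drop 9).drop 10).drop 10).drop 9).drop 9).drop 8).drop 8).drop 8).drop 8).drop 8).drop 8).drop 8).take 8) = true := by decide +kernel

theorem cl0_13_12 : chkOn A 17 12 1 (((((((((((((((cl0_l).drop 23).drop 9).drop 10).drop 10).drop 9).drop 9).drop 8).drop 8).drop 8).drop 8).drop 8).drop 8).drop 8).take 8) = true := by decide +kernel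

theorem cl0_13_13 : chkOn A 17 13 1 (((((((((((((((cl0_l).drop 23).drop 9).drop 10).drop 10).drop 9).drop 9).drop 8).drop 8).drop 8).drop 8).drop 8).drop 8).drop 8).take 8) = true := by decide +kernel

theorem cl0_13_14 : chkOn A 17 14 1 (((((((((((((((cl0_l).drop 23).drop 9).drop 10).drop 10).drop 9).drop 9).drop 8).drop 8).drop 8).drop 8).drop 8).drop 8).drop 8).take 8) = true := by decide +kernel

theorem cl0_13_15 : chkOn A 17 15 1 (((((((((((((((cl0_l).drop 23).drop 9).drop 10).drop 10).drop 9).drop 9).drop 8).drop 8).drop 8).drop 8).drop 8).drop 8).drop 8).take 8) = true := by decide +kernel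

theorem cl0_13_16 : chkOn A 17 16 1 (((((((((((((((cl0_l).drop 23).drop 9).drop 10).drop 10).drop 9).drop 9).drop 8).drop 8).drop 8).drop 8).drop 8).drop 8).drop 8).take 8) = true := by decide +kernel

theorem cl0_14_0 : chkOn A 17 0 1 ((((((((((((((((cl0_l).drop 23).drop 9).drop 10).drop 10).drop 9).drop 9).drop 8).drop 8).drop 8).drop 8).drop 8).drop 8).drop 8).drop 8).take 8) = true := by decide +kernel

theorem cl0_14_1 : chkOn A 17 1 1 ((((((((((((((((cl0_l).drop 23).drop 9).drop 10).drop 10).drop 9).drop 9).drop 8).drop 8).drop 8).drop 8).drop 8).drop 8).drop 8).drop 8).take 8) = true := by decide +kernel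

theorem cl0_14_2 : chkOn A 17 2 1 ((((((((((((((((cl0_l).drop 23).drop 9).drop 10).drop 10).drop 9).drop 9).drop 8).drop 8).drop 8).drop 8).drop 8).drop 8).drop 8).drop 8).take 8) = true := by decide +kernel

theorem cl0_14_3 : chkOn A 17 3 1 ((((((((((((((((cl0_l).drop 23).drop 9).drop 10).drop 10).drop 9).drop 9).drop 8).drop 8).drop 8).drop 8).drop 8).drop 8).drop 8).drop 8).take 8) = true := by decide +kernel

theorem cl0_14_4 : chkOn A 17 4 1 ((((((((((((((((cl0_l).drop 23).drop 9).drop 10).drop 10).drop 9).drop 9).drop 8).drop 8).drop 8).drop 8).drop 8).drop 8).drop 8).drop 8).take 8) = true := by decide +kernel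

theorem cl0_14_5 : chkOn A 17 5 1 ((((((((((((((((cl0_l).drop 23).drop 9).drop 10).drop 10).drop 9).drop 9).drop 8).drop 8).drop 8).drop 8).drop 8).drop 8).drop 8).drop 8).take 8) = true := by decide +kernel

theorem cl0_14_6 : chkOn A 17 6 1 ((((((((((((((((cl0_l).drop 23).drop 9).drop 10).drop 10).drop 9).drop 9).drop 8).drop 8).drop 8).drop 8).drop 8).drop 8).drop 8).drop 8).take 8) = true := by decide +kernel

theorem cl0_14_7 : chkOn A 17 7 1 ((((((((((((((((cl0_l).drop 23).drop 9).drop 10).drop 10).drop 9).drop 9).drop 8).drop 8).drop 8).drop 8).drop 8).drop 8).drop 8).drop 8).take 8) = true := by decide +kernel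

theorem cl0_14_8 : chkOn A 17 8 1 ((((((((((((((((cl0_l).drop 23).drop 9).drop 10).drop 10).drop 9).drop 9).drop 8).drop 8).drop 8).drop 8).drop 8).drop 8).drop 8).drop 8).take 8) = true := by decide +kernel

theorem cl0_14_9 : chkOn A 17 9 1 ((((((((((((((((cl0_l).drop 23).drop 9).drop 10).drop 10).drop 9).drop 9).drop 8).drop 8).drop 8).drop 8).drop 8).drop 8).drop 8).drop 8).take 8) = true := by decide +kernel

theorem cl0_14_10 : chkOn A 17 10 1 ((((((((((((((((cl0_l).drop 23).drop 9).drop 10).drop 10).drop 9).drop 9).drop 8).drop 8).drop 8).drop 8).drop 8).drop 8).drop 8).drop 8).take 8) = true := by decide +kernel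

theorem cl0_14_11 : chkOn A 17 11 1 ((((((((((((((((cl0_l).drop 23).drop 9).drop 10).drop 10).drop 9).drop 9).drop 8).drop 8).drop 8).drop 8).drop 8).drop 8).drop 8).drop 8).take 8) = true := by decide +kernel

theorem cl0_14_12 : chkOn A 17 12 1 ((((((((((((((((cl0_l).drop 23).drop 9).drop 10).drop 10).drop 9).drop 9).drop 8).drop 8).drop 8).drop 8).drop 8).drop 8).drop 8).drop 8).take 8) = true := by decide +kernel

theorem cl0_14_13 : chkOn A 17 13 1 ((((((((((((((((cl0_l).drop 23).drop 9).drop 10).drop 10).drop 9).drop 9).drop 8).drop 8).drop 8).drop 8).drop 8).drop 8).drop 8).drop 8).take 8) = true := by decide +kernel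

theorem cl0_14_14 : chkOn A 17 14 1 ((((((((((((((((cl0_l).drop 23).drop 9).drop 10).drop 10).drop 9).drop 9).drop 8).drop 8).drop 8).drop 8).drop 8).drop 8).drop 8).drop 8).take 8) = true := by decide +kernel

theorem cl0_14_15 : chkOn A 17 15 1 ((((((((((((((((cl0_l).drop 23).drop 9).drop 10).drop 10).drop 9).drop 9).drop 8).drop 8).drop 8).drop 8).drop 8).drop 8).drop 8).drop 8).take 8) = true := by decide +kernel

theorem cl0_14_16 : chkOn A 17 16 1 ((((((((((((((((cl0_l).drop 23).drop 9).drop 10).drop 10).drop 9).drop 9).drop 8).drop 8).drop 8).drop 8).drop 8).drop 8).drop 8).drop 8).take 8) = true := by decide +kernel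

theorem cl0_15_0 : chkOn A 17 0 1 (((((((((((((((((cl0_l).drop 23).drop 9).drop 10).drop 10).drop 9).drop 9).drop 8).drop 8).drop 8).drop 8).drop 8).drop 8).drop 8).drop 8).drop 8).take 8) = true := by decide +kernel


end Cfsg.Agent.Spor.ON
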