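import Cfsg.Agent.Lib.Spor.ON.Main
import Cfsg.Agent.Lib.Spor.ONJ.Main
import Cfsg.Agent.Lib.Spor.ONM.Main
import Cfsg.Agent.Lib.Spor.Glue2

set_option autoImplicit false
set_option maxRecDepth 100000
set_option Elab.async false
set_option exponentiation.threshold 100000

namespace Cfsg.Agent.Spor.ONL
open Cfsg.Agent.PG Cfsg.Agent.Spor

noncomputable def mONJ : ℕ := 0x3ffffffffffffffffffffffffffffffffffffffffffffffffffffffffffffffffffffffffffffffffffffffffffffffffffffffffffffffffffffffffffffffffffffffffffffffffffffffffffffffffffffffffffffffffffffffffffffffffffffffffffffffffffffffffffffffffffffffffffffffffffffffffffffffffffffffffffffffffffffffffffffffffffffffffffffffffffffffffffffffffffffffffffffffffffffffffffffffffffffffffffffffffffffffffffffffffc000000000000000000000000000000000000000000000000000000000000000000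

def actONJ_ws : List ℕ := [0x10c06040404040a0303080303050a000202060c020206,
  0x108070505050a0202020802060200020702020003050200,
  0x10c0404080207020204020700020202000603000505,
  0x10c070402020802020703000202080200060300,
  0x10a0606050505020206020703040002000303000a0202]

theorem actONJ_ag_0 : allL (((agList 0 5 17)).take 12) (Ag ON.A ONJ.A 17 mONJ 1 actONJ_ws 0) = true := by decide +kernel

theorem actONJ_ag_1 : allL ((((agList 0 5 17)).drop 12).take 11) (Ag ON.A ONJ.A 17 mONJ 1 actONJ_ws 0) = true := by decide +kernel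

theorem actONJ_ag_2 : allL (((((agList 0 5 17)).drop 12).drop 11).take 11) (Ag ON.A ONJ.A 17 mONJ 1 actONJ_ws 0) = true := by decide +kernel

theorem actONJ_ag_3 : allL ((((((agList 0 5 17)).drop 12).drop 11).drop 11).take 12) (Ag ON.A ONJ.A 17 mONJ 1 actONJ_ws 0) = true := by decide +kernel

theorem actONJ_ag_4 : allL (((((((agList 0 5 17)).drop 12).drop 11).drop 11).drop 12).take 13) (Ag ON.A ONJ.A 17 mONJ 1 actONJ_ws 0) = true := by decide +kernel

theorem actONJ_ag_5 : allL ((((((((agList 0 5 17)).drop 12).drop 11).drop 11).drop 12).drop 13).take 13) (Ag ON.A ONJ.A 17 mONJ 1 actONJ_ws 0) = true := by decide +kernel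

theorem actONJ_ag_6 : allL (((((((((agList 0 5 17)).drop 12).drop 11).drop 11).drop 12).drop 13).drop 13).take 12) (Ag ON.A ONJ.A 17 mONJ 1 actONJ_ws 0) = true := by decide +kernel

theorem actONJ_ag_7 : allL (((((((((agList 0 5 17)).drop 12).drop 11).drop 11).drop 12).drop 13).drop 13).drop 12) (Ag ON.A ONJ.A 17 mONJ 1 actONJ_ws 0) = true := by decide +kernel

theorem actONJ_ag : ∀ c ∈ agList 0 5 17, (Ag ON.A ONJ.A 17 mONJ 1 actONJ_ws 0) c = true :=
  (forall_take_drop 12 (allL_spec actONJ_ag_0)
  (forall_take_drop 11 (allL_spec actONJ_ag_1)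
  (forall_take_drop 11 (allL_spec actONJ_ag_2)
  (forall_take_drop 12 (allL_spec actONJ_ag_3)
  (forall_take_drop 13 (allL_spec actONJ_ag_4)
  (forall_take_drop 13 (allL_spec actONJ_ag_5)
  (forall_take_drop 12 (allL_spec actONJ_ag_6)
  (allL_spec actONJ_ag_7))))))))

theorem actONJ_inv : invB ONJ.A (kgens ONJ.A 0) mONJ = true := by decide +kernel

theorem actONJ : ∀ j, 0 ≤ j → j < ONJ.A.length → Acts (fun i => wp ON.A 1 i) (bset mONJ)
    (wp ON.A (nthD 1 actONJ_ws (j - 0))) (gp ONJ.A j) :=
  acts_of_Ag ON.hA ONJ.hA (by norm_num) (by rw [ONJ.hlen]; norm_num) actONJ_inv (by rw [ONJ.hlen]; exact actONJ_ag)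

def fixSONJ_lv : List (ℕ × List (List ℕ) × ℕ × ℕ) := [(266, [[0x020c080c0800040804], [0x020c080c0804080608000400040006000e]], 11, 1540),
  (267, [[0x0210080c08040806080c0004000400080408040c], [0x02080c080c040804080600040006080004]], 7, 57),
  (268, [[0x02100e0804080408060004000400080408]], 2, 2)]

theorem fixSONJ_ok : lbB ONJ.A 9 0 fixSONJ_lv [] = true := by decide +kernel

theorem fixSONJ : FixTriv (K ONJ.A 0) (bset mONJ) := by
  have := lb_fixTriv ONJ.hA fixSONJ_ok (by rw [KS_nil, ONJ.card0]; decide +kernel) (B := bset mONJ)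
    (fun q hq => mem_bset_of_bit (allL_spec (p := fun q => bit mONJ q.1) (by decide +kernel) q hq))
  rwa [KS_nil] at this

def fixBONJ_lv : List (ℕ × List (List ℕ) × ℕ × ℕ) := [(267, [[0x0214100c080808], [0x021814100c0808080814]], 10, 672)]

theorem fixBONJ_ok : lbB ON.A 14 2 fixBONJ_lv [] = true := by decide +kernel

theorem fixBONJ : FixTriv (K ON.A 2) ((fun i => wp ON.A 1 i) '' bset mONJ) := by
  have := lb_fixTriv ON.hA fixBONJ_ok (by rw [KS_nil, ON.card2]; decide +kernel) (B := (fun i => wp ON.A 1 i) '' bset mONJ)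
    (fun q hq => mem_image_of ON.hA (i := q.1) (allL_spec (p := fun q => andB (bit mONJ q.1) (mapsB ON.A [2 * 1] q.1 q.1)) (by decide +kernel) q hq))
  rwa [KS_nil] at this

theorem subONJ : ∃ S : Subgroup (Equiv.Perm ℕ), S ≤ K ON.A 0 ∧ Nonempty (S ≃* K ONJ.A 0) :=
  sub_iso actONJ (by decide +kernel) fixSONJ
    (fixTriv_step ON.stab0 (mem_image_of ON.hA (i := 266) (by decide +kernel))
    (fixTriv_step ON.stab1 (mem_image_of ON.hA (i := 272) (by decide +kernel)) fixBONJ))

noncomputable def mONM : ℕ := 0x3ffffffffffffffffffffffffffffffffffffffffffffffffffffffffffffffffffffffffffffffffffffffffffffffffffffffffffffffffffffffffffffffffffffffffffffffffffffffffffffffffc0020000000000000000000000000000000000000000000000000000000000800000000000000000000000000000000000000000000000000008020000000000000000000000000000000000100000000000000000000000002000000000000000000400000000024000000000000000000800000000000000000000000000000000000000000000000200000000000000000000000000004000042000000000000000000000000000000000000000000000000000000000000000000000000104000000000000000000000000000000000000000000000000000000000000000000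

def actONM_ws : List ℕ := [0x10a080704040605020204080204000300050200030306,
  0x10404070a0208030307030300020204000702020c,
  0x10404040a0303050204020204000300050202040003,
  0x10a08060604040205020402020400020202060002070303,
  0x1060604040206020205050500020202070a030600]

theorem actONM_ag_0 : allL (((agList 0 5 17)).take 12) (Ag ON.A ONM.A 17 mONM 1 actONM_ws 0) = true := by decide +kernel

theorem actONM_ag_1 : allL ((((agList 0 5 17)).drop 12).take 12) (Ag ON.A ONM.A 17 mONM 1 actONM_ws 0) = true := by decide +kernel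

theorem actONM_ag_2 : allL (((((agList 0 5 17)).drop 12).drop 12).take 13) (Ag ON.A ONM.A 17 mONM 1 actONM_ws 0) = true := by decide +kernel

theorem actONM_ag_3 : allL ((((((agList 0 5 17)).drop 12).drop 12).drop 13).take 12) (Ag ON.A ONM.A 17 mONM 1 actONM_ws 0) = true := by decide +kernel

theorem actONM_ag_4 : allL (((((((agList 0 5 17)).drop 12).drop 12).drop 13).drop 12).take 11) (Ag ON.A ONM.A 17 mONM 1 actONM_ws 0) = true := by decide +kernel

theorem actONM_ag_5 : allL ((((((((agList 0 5 17)).drop 12).drop 12).drop 13).drop 12).drop 11).take 12) (Ag ON.A ONM.A 17 mONM 1 actONM_ws 0) = true := by decide +kernel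

theorem actONM_ag_6 : allL ((((((((agList 0 5 17)).drop 12).drop 12).drop 13).drop 12).drop 11).drop 12) (Ag ON.A ONM.A 17 mONM 1 actONM_ws 0) = true := by decide +kernel

theorem actONM_ag : ∀ c ∈ agList 0 5 17, (Ag ON.A ONM.A 17 mONM 1 actONM_ws 0) c = true :=
  (forall_take_drop 12 (allL_spec actONM_ag_0)
  (forall_take_drop 12 (allL_spec actONM_ag_1)
  (forall_take_drop 13 (allL_spec actONM_ag_2)
  (forall_take_drop 12 (allL_spec actONM_ag_3)
  (forall_take_drop 11 (allL_spec actONM_ag_4)
  (forall_take_drop 12 (allL_spec actONM_ag_5)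
  (allL_spec actONM_ag_6)))))))

theorem actONM_inv : invB ONM.A (kgens ONM.A 0) mONM = true := by decide +kernel

theorem actONM : ∀ j, 0 ≤ j → j < ONM.A.length → Acts (fun i => wp ON.A 1 i) (bset mONM)
    (wp ON.A (nthD 1 actONM_ws (j - 0))) (gp ONM.A j) :=
  acts_of_Ag ON.hA ONM.hA (by norm_num) (by rw [ONM.hlen]; norm_num) actONM_inv (by rw [ONM.hlen]; exact actONM_ag)

def fixSONM_lv : List (ℕ × List (List ℕ) × ℕ × ℕ) := [(266, [[0x020c0a0c040400], [0x020e080c040a0012]], 10, 660),
  (272, [[0x020c100a0c04040000], [0x02100a0408]], 4, 12)]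

theorem fixSONM_ok : lbB ONM.A 9 0 fixSONM_lv [] = true := by decide +kernel

theorem fixSONM : FixTriv (K ONM.A 0) (bset mONM) := by
  have := lb_fixTriv ONM.hA fixSONM_ok (by rw [KS_nil, ONM.card0]; decide +kernel) (B := bset mONM)
    (fun q hq => mem_bset_of_bit (allL_spec (p := fun q => bit mONM q.1) (by decide +kernel) q hq))
  rwa [KS_nil] at this

def fixBONM_lv : List (ℕ × List (List ℕ) × ℕ × ℕ) := [(565, [[0x0218100e08080c0c], [0x020e0a]], 14, 672)]

theorem fixBONM_ok : lbB ON.A 14 2 fixBONM_lv [] = true := by decide +kernel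

theorem fixBONM : FixTriv (K ON.A 2) ((fun i => wp ON.A 1 i) '' bset mONM) := by
  have := lb_fixTriv ON.hA fixBONM_ok (by rw [KS_nil, ON.card2]; decide +kernel) (B := (fun i => wp ON.A 1 i) '' bset mONM)
    (fun q hq => mem_image_of ON.hA (i := q.1) (allL_spec (p := fun q => andB (bit mONM q.1) (mapsB ON.A [2 * 1] q.1 q.1)) (by decide +kernel) q hq))
  rwa [KS_nil] at this

theorem subONM : ∃ S : Subgroup (Equiv.Perm ℕ), S ≤ K ON.A 0 ∧ Nonempty (S ≃* K ONM.A 0) :=
  sub_iso actONM (by decide +kernel) fixSONM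
    (fixTriv_step ON.stab0 (mem_image_of ON.hA (i := 266) (by decide +kernel))
    (fixTriv_step ON.stab1 (mem_image_of ON.hA (i := 272) (by decide +kernel)) fixBONM))


end Cfsg.Agent.Spor.ONL
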