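import Cfsg.Agent.Lib.Spor.ON.C0
import Cfsg.Agent.Lib.Spor.ON.C1
import Cfsg.Agent.Lib.Spor.ON.C2
import Cfsg.Agent.Lib.Spor.ON.C3
import Cfsg.Agent.Lib.Spor.ON.C4
import Cfsg.Agent.Lib.Spor.ON.C5
import Cfsg.Agent.Lib.Spor.ON.C6
import Cfsg.Agent.Lib.Spor.ON.C7
import Cfsg.Agent.Lib.Spor.ON.C8
import Cfsg.Agent.Lib.Spor.ON.C9
import Cfsg.Agent.Lib.Spor.ON.C10
import Cfsg.Agent.Lib.Spor.ON.C11
import Cfsg.Agent.Lib.Spor.ON.C12
import Cfsg.Agent.Lib.Spor.ON.C13
import Cfsg.Agent.Lib.Spor.ON.C14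
import Cfsg.Agent.Lib.Spor.ON.C15
import Cfsg.Agent.Lib.Spor.ON.Defs

set_option autoImplicit false
set_option maxRecDepth 100000
set_option Elab.async false
set_option exponentiation.threshold 100000

namespace Cfsg.Agent.Spor.ON
open Cfsg.Agent.PG

theorem card7 : Nat.card (K A 7) = 1 := card_K_last A (le_of_eq hlen)

theorem cl6 : ∀ c ∈ cl6_l, Holds A c :=
  (fun c hc => HoldsOn.holds hA (((((((((((((((((chkOn_spec hA cl6_0_0 c hc).append (chkOn_spec hA cl6_0_1 c hc)).append (chkOn_spec hA cl6_0_2 c hc)).append (chkOn_spec hA cl6_0_3 c hc)).append (chkOn_spec hA cl6_0_4 c hc)).append (chkOn_spec hA cl6_0_5 c hc)).append (chkOn_spec hA cl6_0_6 c hc)).append (chkOn_spec hA cl6_0_7 c hc)).append (chkOn_spec hA cl6_0_8 c hc)).append (chkOn_spec hA cl6_0_9 c hc)).append (chkOn_spec hA cl6_0_10 c hc)).append (chkOn_spec hA cl6_0_11 c hc)).append (chkOn_spec hA cl6_0_12 c hc)).append (chkOn_spec hA cl6_0_13 c hc)).append (chkOn_spec hA cl6_0_14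 c hc)).append (chkOn_spec hA cl6_0_15 c hc)).append (chkOn_spec hA cl6_0_16 c hc)))

theorem stab6 : StabIs A 6 1 7 := stabIs_plain hA ok6 cl6

theorem card6 : Nat.card (K A 6) = 2 := card_K_step hA stab6 orb6 card7

theorem cl5 : ∀ c ∈ cl5_l, Holds A c :=
  (fun c hc => HoldsOn.holds hA (((((((((((((((((chkOn_spec hA cl5_0_0 c hc).append (chkOn_spec hA cl5_0_1 c hc)).append (chkOn_spec hA cl5_0_2 c hc)).append (chkOn_spec hA cl5_0_3 c hc)).append (chkOn_spec hA cl5_0_4 c hc)).append (chkOn_spec hA cl5_0_5 c hc)).append (chkOn_spec hA cl5_0_6 c hc)).append (chkOn_spec hA cl5_0_7 c hc)).append (chkOn_spec hA cl5_0_8 c hc)).append (chkOn_spec hA cl5_0_9 c hc)).append (chkOn_spec hA cl5_0_10 c hc)).append (chkOn_spec hA cl5_0_11 c hc)).append (chkOn_spec hA cl5_0_12 c hc)).append (chkOn_spec hA cl5_0_13 c hc)).append (chkOn_spec hA cl5_0_14 c hc)).append (chkOn_spec hA cl5_0_15 c hc)).append (chkOn_spec hA cl5_0_16 c hc)))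

theorem stab5 : StabIs A 5 0 6 := stabIs_plain hA ok5 cl5

theorem card5 : Nat.card (K A 5) = 4 := card_K_step hA stab5 orb5 card6

theorem cl4 : ∀ c ∈ cl4_l, Holds A c :=
  (fun c hc => HoldsOn.holds hA (((((((((((((((((chkOn_spec hA cl4_0_0 c hc).append (chkOn_spec hA cl4_0_1 c hc)).append (chkOn_spec hA cl4_0_2 c hc)).append (chkOn_spec hA cl4_0_3 c hc)).append (chkOn_spec hA cl4_0_4 c hc)).append (chkOn_spec hA cl4_0_5 c hc)).append (chkOn_spec hA cl4_0_6 c hc)).append (chkOn_spec hA cl4_0_7 c hc)).append (chkOn_spec hA cl4_0_8 c hc)).append (chkOn_spec hA cl4_0_9 c hc)).append (chkOn_spec hA cl4_0_10 c hc)).append (chkOn_spec hA cl4_0_11 c hc)).append (chkOn_spec hA cl4_0_12 c hc)).append (chkOn_spec hA cl4_0_13 c hc)).append (chkOn_spec hA cl4_0_14 c hc)).append (chkOn_spec hA cl4_0_15 c hc)).append (chkOn_spec hA cl4_0_16 c hc)))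

theorem stab4 : StabIs A 4 3534 5 := stabIs_plain hA ok4 cl4

theorem card4 : Nat.card (K A 4) = 8 := card_K_step hA stab4 orb4 card5

theorem cl3 : ∀ c ∈ cl3_l, Holds A c :=
  (fun c hc => HoldsOn.holds hA (((((((((((((((((chkOn_spec hA cl3_0_0 c hc).append (chkOn_spec hA cl3_0_1 c hc)).append (chkOn_spec hA cl3_0_2 c hc)).append (chkOn_spec hA cl3_0_3 c hc)).append (chkOn_spec hA cl3_0_4 c hc)).append (chkOn_spec hA cl3_0_5 c hc)).append (chkOn_spec hA cl3_0_6 c hc)).append (chkOn_spec hA cl3_0_7 c hc)).append (chkOn_spec hA cl3_0_8 c hc)).append (chkOn_spec hA cl3_0_9 c hc)).append (chkOn_spec hA cl3_0_10 c hc)).append (chkOn_spec hA cl3_0_11 c hc)).append (chkOn_spec hA cl3_0_12 c hc)).append (chkOn_spec hA cl3_0_13 c hc)).append (chkOn_spec hA cl3_0_14 c hc)).append (chkOn_spec hA cl3_0_15 c hc)).append (chkOn_spec hA cl3_0_16 c hc)))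

theorem stab3 : StabIs A 3 2467 4 := stabIs_plain hA ok3 cl3

theorem card3 : Nat.card (K A 3) = 32 := card_K_step hA stab3 orb3 card4

theorem cl2 : ∀ c ∈ cl2_l, Holds A c :=
  (fun c hc => HoldsOn.holds hA (((((((((((((((((chkOn_spec hA cl2_0_0 c hc).append (chkOn_spec hA cl2_0_1 c hc)).append (chkOn_spec hA cl2_0_2 c hc)).append (chkOn_spec hA cl2_0_3 c hc)).append (chkOn_spec hA cl2_0_4 c hc)).append (chkOn_spec hA cl2_0_5 c hc)).append (chkOn_spec hA cl2_0_6 c hc)).append (chkOn_spec hA cl2_0_7 c hc)).append (chkOn_spec hA cl2_0_8 c hc)).append (chkOn_spec hA cl2_0_9 c hc)).append (chkOn_spec hA cl2_0_10 c hc)).append (chkOn_spec hA cl2_0_11 c hc)).append (chkOn_spec hA cl2_0_12 c hc)).append (chkOn_spec hA cl2_0_13 c hc)).append (chkOn_spec hA cl2_0_14 c hc)).append (chkOn_spec hA cl2_0_15 c hc)).append (chkOn_spec hA cl2_0_16 c hc)))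

theorem stab2 : StabIs A 2 2794 3 := stabIs_dc hA stab3 ok2 cl2

theorem card2 : Nat.card (K A 2) = 672 := card_K_step hA stab2 orb2 card3

theorem cl1 : ∀ c ∈ cl1_l, Holds A c :=
  (forall_take_drop 29 (fun c hc => HoldsOn.holds hA (((((((((((((((((chkOn_spec hA cl1_0_0 c hc).append (chkOn_spec hA cl1_0_1 c hc)).append (chkOn_spec hA cl1_0_2 c hc)).append (chkOn_spec hA cl1_0_3 c hc)).append (chkOn_spec hA cl1_0_4 c hc)).append (chkOn_spec hA cl1_0_5 c hc)).append (chkOn_spec hA cl1_0_6 c hc)).append (chkOn_spec hA cl1_0_7 c hc)).append (chkOn_spec hA cl1_0_8 c hc)).append (chkOn_spec hA cl1_0_9 c hc)).append (chkOn_spec hA cl1_0_10 c hc)).append (chkOn_spec hA cl1_0_11 c hc)).append (chkOn_spec hA cl1_0_12 c hc)).append (chkOn_spec hA cl1_0_13 c hc)).append (chkOn_spec hA cl1_0_14 c hc)).append (chkOn_spec hA cl1_0_15 c hc)).append (chkOn_spec hA cl1_0_16 c hc)))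
  (forall_take_drop 13 (fun c hc => HoldsOn.holds hA (((((((((((((((((chkOn_spec hA cl1_1_0 c hc).append (chkOn_spec hA cl1_1_1 c hc)).append (chkOn_spec hA cl1_1_2 c hc)).append (chkOn_spec hA cl1_1_3 c hc)).append (chkOn_spec hA cl1_1_4 c hc)).append (chkOn_spec hA cl1_1_5 c hc)).append (chkOn_spec hA cl1_1_6 c hc)).append (chkOn_spec hA cl1_1_7 c hc)).append (chkOn_spec hA cl1_1_8 c hc)).append (chkOn_spec hA cl1_1_9 c hc)).append (chkOn_spec hA cl1_1_10 c hc)).append (chkOn_spec hA cl1_1_11 c hc)).append (chkOn_spec hA cl1_1_12 c hc)).append (chkOn_spec hA cl1_1_13 c hc)).append (chkOn_spec hA cl1_1_14 c hc)).append (chkOn_spec hA cl1_1_15 c hc)).append (chkOn_spec hA cl1_1_16 c hc)))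
  (forall_take_drop 14 (fun c hc => HoldsOn.holds hA (((((((((((((((((chkOn_spec hA cl1_2_0 c hc).append (chkOn_spec hA cl1_2_1 c hc)).append (chkOn_spec hA cl1_2_2 c hc)).append (chkOn_spec hA cl1_2_3 c hc)).append (chkOn_spec hA cl1_2_4 c hc)).append (chkOn_spec hA cl1_2_5 c hc)).append (chkOn_spec hA cl1_2_6 c hc)).append (chkOn_spec hA cl1_2_7 c hc)).append (chkOn_spec hA cl1_2_8 c hc)).append (chkOn_spec hA cl1_2_9 c hc)).append (chkOn_spec hA cl1_2_10 c hc)).append (chkOn_spec hA cl1_2_11 c hc)).append (chkOn_spec hA cl1_2_12 c hc)).append (chkOn_spec hA cl1_2_13 c hc)).append (chkOn_spec hA cl1_2_14 c hc)).append (chkOn_spec hA cl1_2_15 c hc)).append (chkOn_spec hA cl1_2_16 c hc)))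
  (forall_take_drop 14 (fun c hc => HoldsOn.holds hA (((((((((((((((((chkOn_spec hA cl1_3_0 c hc).append (chkOn_spec hA cl1_3_1 c hc)).append (chkOn_spec hA cl1_3_2 c hc)).append (chkOn_spec hA cl1_3_3 c hc)).append (chkOn_spec hA cl1_3_4 c hc)).append (chkOn_spec hA cl1_3_5 c hc)).append (chkOn_spec hA cl1_3_6 c hc)).append (chkOn_spec hA cl1_3_7 c hc)).append (chkOn_spec hA cl1_3_8 c hc)).append (chkOn_spec hA cl1_3_9 c hc)).append (chkOn_spec hA cl1_3_10 c hc)).append (chkOn_spec hA cl1_3_11 c hc)).append (chkOn_spec hA cl1_3_12 c hc)).append (chkOn_spec hA cl1_3_13 c hc)).append (chkOn_spec hA cl1_3_14 c hc)).append (chkOn_spec hA cl1_3_15 c hc)).append (chkOn_spec hA cl1_3_16 c hc)))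
  (forall_take_drop 11 (fun c hc => HoldsOn.holds hA (((((((((((((((((chkOn_spec hA cl1_4_0 c hc).append (chkOn_spec hA cl1_4_1 c hc)).append (chkOn_spec hA cl1_4_2 c hc)).append (chkOn_spec hA cl1_4_3 c hc)).append (chkOn_spec hA cl1_4_4 c hc)).append (chkOn_spec hA cl1_4_5 c hc)).append (chkOn_spec hA cl1_4_6 c hc)).append (chkOn_spec hA cl1_4_7 c hc)).append (chkOn_spec hA cl1_4_8 c hc)).append (chkOn_spec hA cl1_4_9 c hc)).append (chkOn_spec hA cl1_4_10 c hc)).append (chkOn_spec hA cl1_4_11 c hc)).append (chkOn_spec hA cl1_4_12 c hc)).append (chkOn_spec hA cl1_4_13 c hc)).append (chkOn_spec hA cl1_4_14 c hc)).append (chkOn_spec hA cl1_4_15 c hc)).append (chkOn_spec hA cl1_4_16 c hc)))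
  (forall_take_drop 14 (fun c hc => HoldsOn.holds hA (((((((((((((((((chkOn_spec hA cl1_5_0 c hc).append (chkOn_spec hA cl1_5_1 c hc)).append (chkOn_spec hA cl1_5_2 c hc)).append (chkOn_spec hA cl1_5_3 c hc)).append (chkOn_spec hA cl1_5_4 c hc)).append (chkOn_spec hA cl1_5_5 c hc)).append (chkOn_spec hA cl1_5_6 c hc)).append (chkOn_spec hA cl1_5_7 c hc)).append (chkOn_spec hA cl1_5_8 c hc)).append (chkOn_spec hA cl1_5_9 c hc)).append (chkOn_spec hA cl1_5_10 c hc)).append (chkOn_spec hA cl1_5_11 c hc)).append (chkOn_spec hA cl1_5_12 c hc)).append (chkOn_spec hA cl1_5_13 c hc)).append (chkOn_spec hA cl1_5_14 c hc)).append (chkOn_spec hA cl1_5_15 c hc)).append (chkOn_spec hA cl1_5_16 c hc)))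
  (forall_take_drop 14 (fun c hc => HoldsOn.holds hA (((((((((((((((((chkOn_spec hA cl1_6_0 c hc).append (chkOn_spec hA cl1_6_1 c hc)).append (chkOn_spec hA cl1_6_2 c hc)).append (chkOn_spec hA cl1_6_3 c hc)).append (chkOn_spec hA cl1_6_4 c hc)).append (chkOn_spec hA cl1_6_5 c hc)).append (chkOn_spec hA cl1_6_6 c hc)).append (chkOn_spec hA cl1_6_7 c hc)).append (chkOn_spec hA cl1_6_8 c hc)).append (chkOn_spec hA cl1_6_9 c hc)).append (chkOn_spec hA cl1_6_10 c hc)).append (chkOn_spec hA cl1_6_11 c hc)).append (chkOn_spec hA cl1_6_12 c hc)).append (chkOn_spec hA cl1_6_13 c hc)).append (chkOn_spec hA cl1_6_14 c hc)).append (chkOn_spec hA cl1_6_15 c hc)).append (chkOn_spec hA cl1_6_16 c hc)))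
  (forall_take_drop 12 (fun c hc => HoldsOn.holds hA (((((((((((((((((chkOn_spec hA cl1_7_0 c hc).append (chkOn_spec hA cl1_7_1 c hc)).append (chkOn_spec hA cl1_7_2 c hc)).append (chkOn_spec hA cl1_7_3 c hc)).append (chkOn_spec hA cl1_7_4 c hc)).append (chkOn_spec hA cl1_7_5 c hc)).append (chkOn_spec hA cl1_7_6 c hc)).append (chkOn_spec hA cl1_7_7 c hc)).append (chkOn_spec hA cl1_7_8 c hc)).append (chkOn_spec hA cl1_7_9 c hc)).append (chkOn_spec hA cl1_7_10 c hc)).append (chkOn_spec hA cl1_7_11 c hc)).append (chkOn_spec hA cl1_7_12 c hc)).append (chkOn_spec hA cl1_7_13 c hc)).append (chkOn_spec hA cl1_7_14 c hc)).append (chkOn_spec hA cl1_7_15 c hc)).append (chkOn_spec hA cl1_7_16 c hc)))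
  (forall_take_drop 12 (fun c hc => HoldsOn.holds hA (((((((((((((((((chkOn_spec hA cl1_8_0 c hc).append (chkOn_spec hA cl1_8_1 c hc)).append (chkOn_spec hA cl1_8_2 c hc)).append (chkOn_spec hA cl1_8_3 c hc)).append (chkOn_spec hA cl1_8_4 c hc)).append (chkOn_spec hA cl1_8_5 c hc)).append (chkOn_spec hA cl1_8_6 c hc)).append (chkOn_spec hA cl1_8_7 c hc)).append (chkOn_spec hA cl1_8_8 c hc)).append (chkOn_spec hA cl1_8_9 c hc)).append (chkOn_spec hA cl1_8_10 c hc)).append (chkOn_spec hA cl1_8_11 c hc)).append (chkOn_spec hA cl1_8_12 c hc)).append (chkOn_spec hA cl1_8_13 c hc)).append (chkOn_spec hA cl1_8_14 c hc)).append (chkOn_spec hA cl1_8_15 c hc)).append (chkOn_spec hA cl1_8_16 c hc)))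
  (forall_take_drop 12 (fun c hc => HoldsOn.holds hA (((((((((((((((((chkOn_spec hA cl1_9_0 c hc).append (chkOn_spec hA cl1_9_1 c hc)).append (chkOn_spec hA cl1_9_2 c hc)).append (chkOn_spec hA cl1_9_3 c hc)).append (chkOn_spec hA cl1_9_4 c hc)).append (chkOn_spec hA cl1_9_5 c hc)).append (chkOn_spec hA cl1_9_6 c hc)).append (chkOn_spec hA cl1_9_7 c hc)).append (chkOn_spec hA cl1_9_8 c hc)).append (chkOn_spec hA cl1_9_9 c hc)).append (chkOn_spec hA cl1_9_10 c hc)).append (chkOn_spec hA cl1_9_11 c hc)).append (chkOn_spec hA cl1_9_12 c hc)).append (chkOn_spec hA cl1_9_13 c hc)).append (chkOn_spec hA cl1_9_14 c hc)).append (chkOn_spec hA cl1_9_15 c hc)).append (chkOn_spec hA cl1_9_16 c hc)))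
  (forall_take_drop 13 (fun c hc => HoldsOn.holds hA (((((((((((((((((chkOn_spec hA cl1_10_0 c hc).append (chkOn_spec hA cl1_10_1 c hc)).append (chkOn_spec hA cl1_10_2 c hc)).append (chkOn_spec hA cl1_10_3 c hc)).append (chkOn_spec hA cl1_10_4 c hc)).append (chkOn_spec hA cl1_10_5 c hc)).append (chkOn_spec hA cl1_10_6 c hc)).append (chkOn_spec hA cl1_10_7 c hc)).append (chkOn_spec hA cl1_10_8 c hc)).append (chkOn_spec hA cl1_10_9 c hc)).append (chkOn_spec hA cl1_10_10 c hc)).append (chkOn_spec hA cl1_10_11 c hc)).append (chkOn_spec hA cl1_10_12 c hc)).append (chkOn_spec hA cl1_10_13 c hc)).append (chkOn_spec hA cl1_10_14 c hc)).append (chkOn_spec hA cl1_10_15 c hc)).append (chkOn_spec hA cl1_10_16 c hc)))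
  (forall_take_drop 13 (fun c hc => HoldsOn.holds hA (((((((((((((((((chkOn_spec hA cl1_11_0 c hc).append (chkOn_spec hA cl1_11_1 c hc)).append (chkOn_spec hA cl1_11_2 c hc)).append (chkOn_spec hA cl1_11_3 c hc)).append (chkOn_spec hA cl1_11_4 c hc)).append (chkOn_spec hA cl1_11_5 c hc)).append (chkOn_spec hA cl1_11_6 c hc)).append (chkOn_spec hA cl1_11_7 c hc)).append (chkOn_spec hA cl1_11_8 c hc)).append (chkOn_spec hA cl1_11_9 c hc)).append (chkOn_spec hA cl1_11_10 c hc)).append (chkOn_spec hA cl1_11_11 c hc)).append (chkOn_spec hA cl1_11_12 c hc)).append (chkOn_spec hA cl1_11_13 c hc)).append (chkOn_spec hA cl1_11_14 c hc)).append (chkOn_spec hA cl1_11_15 c hc)).append (chkOn_spec hA cl1_11_16 c hc)))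
  (forall_take_drop 12 (fun c hc => HoldsOn.holds hA (((((((((((((((((chkOn_spec hA cl1_12_0 c hc).append (chkOn_spec hA cl1_12_1 c hc)).append (chkOn_spec hA cl1_12_2 c hc)).append (chkOn_spec hA cl1_12_3 c hc)).append (chkOn_spec hA cl1_12_4 c hc)).append (chkOn_spec hA cl1_12_5 c hc)).append (chkOn_spec hA cl1_12_6 c hc)).append (chkOn_spec hA cl1_12_7 c hc)).append (chkOn_spec hA cl1_12_8 c hc)).append (chkOn_spec hA cl1_12_9 c hc)).append (chkOn_spec hA cl1_12_10 c hc)).append (chkOn_spec hA cl1_12_11 c hc)).append (chkOn_spec hA cl1_12_12 c hc)).append (chkOn_spec hA cl1_12_13 c hc)).append (chkOn_spec hA cl1_12_14 c hc)).append (chkOn_spec hA cl1_12_15 c hc)).append (chkOn_spec hA cl1_12_16 c hc)))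
  (forall_take_drop 12 (fun c hc => HoldsOn.holds hA (((((((((((((((((chkOn_spec hA cl1_13_0 c hc).append (chkOn_spec hA cl1_13_1 c hc)).append (chkOn_spec hA cl1_13_2 c hc)).append (chkOn_spec hA cl1_13_3 c hc)).append (chkOn_spec hA cl1_13_4 c hc)).append (chkOn_spec hA cl1_13_5 c hc)).append (chkOn_spec hA cl1_13_6 c hc)).append (chkOn_spec hA cl1_13_7 c hc)).append (chkOn_spec hA cl1_13_8 c hc)).append (chkOn_spec hA cl1_13_9 c hc)).append (chkOn_spec hA cl1_13_10 c hc)).append (chkOn_spec hA cl1_13_11 c hc)).append (chkOn_spec hA cl1_13_12 c hc)).append (chkOn_spec hA cl1_13_13 c hc)).append (chkOn_spec hA cl1_13_14 c hc)).append (chkOn_spec hA cl1_13_15 c hc)).append (chkOn_spec hA cl1_13_16 c hc)))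
  (forall_take_drop 12 (fun c hc => HoldsOn.holds hA (((((((((((((((((chkOn_spec hA cl1_14_0 c hc).append (chkOn_spec hA cl1_14_1 c hc)).append (chkOn_spec hA cl1_14_2 c hc)).append (chkOn_spec hA cl1_14_3 c hc)).append (chkOn_spec hA cl1_14_4 c hc)).append (chkOn_spec hA cl1_14_5 c hc)).append (chkOn_spec hA cl1_14_6 c hc)).append (chkOn_spec hA cl1_14_7 c hc)).append (chkOn_spec hA cl1_14_8 c hc)).append (chkOn_spec hA cl1_14_9 c hc)).append (chkOn_spec hA cl1_14_10 c hc)).append (chkOn_spec hA cl1_14_11 c hc)).append (chkOn_spec hA cl1_14_12 c hc)).append (chkOn_spec hA cl1_14_13 c hc)).append (chkOn_spec hA cl1_14_14 c hc)).append (chkOn_spec hA cl1_14_15 c hc)).append (chkOn_spec hA cl1_14_16 c hc)))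
  (forall_take_drop 13 (fun c hc => HoldsOn.holds hA (((((((((((((((((chkOn_spec hA cl1_15_0 c hc).append (chkOn_spec hA cl1_15_1 c hc)).append (chkOn_spec hA cl1_15_2 c hc)).append (chkOn_spec hA cl1_15_3 c hc)).append (chkOn_spec hA cl1_15_4 c hc)).append (chkOn_spec hA cl1_15_5 c hc)).append (chkOn_spec hA cl1_15_6 c hc)).append (chkOn_spec hA cl1_15_7 c hc)).append (chkOn_spec hA cl1_15_8 c hc)).append (chkOn_spec hA cl1_15_9 c hc)).append (chkOn_spec hA cl1_15_10 c hc)).append (chkOn_spec hA cl1_15_11 c hc)).append (chkOn_spec hA cl1_15_12 c hc)).append (chkOn_spec hA cl1_15_13 c hc)).append (chkOn_spec hA cl1_15_14 c hc)).append (chkOn_spec hA cl1_15_15 c hc)).append (chkOn_spec hA cl1_15_16 c hc)))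
  (forall_take_drop 12 (fun c hc => HoldsOn.holds hA (((((((((((((((((chkOn_spec hA cl1_16_0 c hc).append (chkOn_spec hA cl1_16_1 c hc)).append (chkOn_spec hA cl1_16_2 c hc)).append (chkOn_spec hA cl1_16_3 c hc)).append (chkOn_spec hA cl1_16_4 c hc)).append (chkOn_spec hA cl1_16_5 c hc)).append (chkOn_spec hA cl1_16_6 c hc)).append (chkOn_spec hA cl1_16_7 c hc)).append (chkOn_spec hA cl1_16_8 c hc)).append (chkOn_spec hA cl1_16_9 c hc)).append (chkOn_spec hA cl1_16_10 c hc)).append (chkOn_spec hA cl1_16_11 c hc)).append (chkOn_spec hA cl1_16_12 c hc)).append (chkOn_spec hA cl1_16_13 c hc)).append (chkOn_spec hA cl1_16_14 c hc)).append (chkOn_spec hA cl1_16_15 c hc)).append (chkOn_spec hA cl1_16_16 c hc)))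
  (forall_take_drop 13 (fun c hc => HoldsOn.holds hA (((((((((((((((((chkOn_spec hA cl1_17_0 c hc).append (chkOn_spec hA cl1_17_1 c hc)).append (chkOn_spec hA cl1_17_2 c hc)).append (chkOn_spec hA cl1_17_3 c hc)).append (chkOn_spec hA cl1_17_4 c hc)).append (chkOn_spec hA cl1_17_5 c hc)).append (chkOn_spec hA cl1_17_6 c hc)).append (chkOn_spec hA cl1_17_7 c hc)).append (chkOn_spec hA cl1_17_8 c hc)).append (chkOn_spec hA cl1_17_9 c hc)).append (chkOn_spec hA cl1_17_10 c hc)).append (chkOn_spec hA cl1_17_11 c hc)).append (chkOn_spec hA cl1_17_12 c hc)).append (chkOn_spec hA cl1_17_13 c hc)).append (chkOn_spec hA cl1_17_14 c hc)).append (chkOn_spec hA cl1_17_15 c hc)).append (chkOn_spec hA cl1_17_16 c hc)))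
  (forall_take_drop 12 (fun c hc => HoldsOn.holds hA (((((((((((((((((chkOn_spec hA cl1_18_0 c hc).append (chkOn_spec hA cl1_18_1 c hc)).append (chkOn_spec hA cl1_18_2 c hc)).append (chkOn_spec hA cl1_18_3 c hc)).append (chkOn_spec hA cl1_18_4 c hc)).append (chkOn_spec hA cl1_18_5 c hc)).append (chkOn_spec hA cl1_18_6 c hc)).append (chkOn_spec hA cl1_18_7 c hc)).append (chkOn_spec hA cl1_18_8 c hc)).append (chkOn_spec hA cl1_18_9 c hc)).append (chkOn_spec hA cl1_18_10 c hc)).append (chkOn_spec hA cl1_18_11 c hc)).append (chkOn_spec hA cl1_18_12 c hc)).append (chkOn_spec hA cl1_18_13 c hc)).append (chkOn_spec hA cl1_18_14 c hc)).append (chkOn_spec hA cl1_18_15 c hc)).append (chkOn_spec hA cl1_18_16 c hc)))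
  (fun c hc => HoldsOn.holds hA (((((((((((((((((chkOn_spec hA cl1_19_0 c hc).append (chkOn_spec hA cl1_19_1 c hc)).append (chkOn_spec hA cl1_19_2 c hc)).append (chkOn_spec hA cl1_19_3 c hc)).append (chkOn_spec hA cl1_19_4 c hc)).append (chkOn_spec hA cl1_19_5 c hc)).append (chkOn_spec hA cl1_19_6 c hc)).append (chkOn_spec hA cl1_19_7 c hc)).append (chkOn_spec hA cl1_19_8 c hc)).append (chkOn_spec hA cl1_19_9 c hc)).append (chkOn_spec hA cl1_19_10 c hc)).append (chkOn_spec hA cl1_19_11 c hc)).append (chkOn_spec hA cl1_19_12 c hc)).append (chkOn_spec hA cl1_19_13 c hc)).append (chkOn_spec hA cl1_19_14 c hc)).append (chkOn_spec hA cl1_19_15 c hc)).append (chkOn_spec hA cl1_19_16 c hc))))))))))))))))))))))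

theorem stab1 : StabIs A 1 272 2 := stabIs_dc' hA stab2 ok1
  (forall_take_drop 1 (allL_spec ok1_0)
  (forall_take_drop 1 (allL_spec ok1_1)
  (forall_take_drop 1 (allL_spec ok1_2)
  (forall_take_drop 1 (allL_spec ok1_3)
  (forall_take_drop 1 (allL_spec ok1_4)
  (forall_take_drop 1 (allL_spec ok1_5)
  (forall_take_drop 1 (allL_spec ok1_6)
  (forall_take_drop 1 (allL_spec ok1_7)
  (forall_take_drop 1 (allL_spec ok1_8)
  (forall_take_drop 1 (allL_spec ok1_9)
  (forall_take_drop 1 (allL_spec ok1_10)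
  (forall_take_drop 1 (allL_spec ok1_11)
  (forall_take_drop 1 (allL_spec ok1_12)
  (forall_take_drop 1 (allL_spec ok1_13)
  (forall_take_drop 1 (allL_spec ok1_14)
  (forall_take_drop 1 (allL_spec ok1_15)
  (forall_take_drop 1 (allL_spec ok1_16)
  (forall_take_drop 1 (allL_spec ok1_17)
  (forall_take_drop 1 (allL_spec ok1_18)
  (forall_take_drop 1 (allL_spec ok1_19)
  (forall_take_drop 1 (allL_spec ok1_20)
  (forall_take_drop 1 (allL_spec ok1_21)
  (forall_take_drop 1 (allL_spec ok1_22)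
  (allL_spec ok1_23)))))))))))))))))))))))) cl1

theorem card1 : Nat.card (K A 1) = 3753792 := card_K_step hA stab1 orb1 card2

theorem cl0 : ∀ c ∈ cl0_l, Holds A c :=
  (forall_take_drop 23 (fun c hc => HoldsOn.holds hA (((((((((((((((((chkOn_spec hA cl0_0_0 c hc).append (chkOn_spec hA cl0_0_1 c hc)).append (chkOn_spec hA cl0_0_2 c hc)).append (chkOn_spec hA cl0_0_3 c hc)).append (chkOn_spec hA cl0_0_4 c hc)).append (chkOn_spec hA cl0_0_5 c hc)).append (chkOn_spec hA cl0_0_6 c hc)).append (chkOn_spec hA cl0_0_7 c hc)).append (chkOn_spec hA cl0_0_8 c hc)).append (chkOn_spec hA cl0_0_9 c hc)).append (chkOn_spec hA cl0_0_10 c hc)).append (chkOn_spec hA cl0_0_11 c hc)).append (chkOn_spec hA cl0_0_12 c hc)).append (chkOn_spec hA cl0_0_13 c hc)).append (chkOn_spec hA cl0_0_14 c hc)).append (chkOn_spec hA cl0_0_15 c hc)).append (chkOn_spec hA cl0_0_16 c hc)))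
  (forall_take_drop 9 (fun c hc => HoldsOn.holds hA (((((((((((((((((chkOn_spec hA cl0_1_0 c hc).append (chkOn_spec hA cl0_1_1 c hc)).append (chkOn_spec hA cl0_1_2 c hc)).append (chkOn_spec hA cl0_1_3 c hc)).append (chkOn_spec hA cl0_1_4 c hc)).append (chkOn_spec hA cl0_1_5 c hc)).append (chkOn_spec hA cl0_1_6 c hc)).append (chkOn_spec hA cl0_1_7 c hc)).append (chkOn_spec hA cl0_1_8 c hc)).append (chkOn_spec hA cl0_1_9 c hc)).append (chkOn_spec hA cl0_1_10 c hc)).append (chkOn_spec hA cl0_1_11 c hc)).append (chkOn_spec hA cl0_1_12 c hc)).append (chkOn_spec hA cl0_1_13 c hc)).append (chkOn_spec hA cl0_1_14 c hc)).append (chkOn_spec hA cl0_1_15 c hc)).append (chkOn_spec hA cl0_1_16 c hc)))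
  (forall_take_drop 10 (fun c hc => HoldsOn.holds hA (((((((((((((((((chkOn_spec hA cl0_2_0 c hc).append (chkOn_spec hA cl0_2_1 c hc)).append (chkOn_spec hA cl0_2_2 c hc)).append (chkOn_spec hA cl0_2_3 c hc)).append (chkOn_spec hA cl0_2_4 c hc)).append (chkOn_spec hA cl0_2_5 c hc)).append (chkOn_spec hA cl0_2_6 c hc)).append (chkOn_spec hA cl0_2_7 c hc)).append (chkOn_spec hA cl0_2_8 c hc)).append (chkOn_spec hA cl0_2_9 c hc)).append (chkOn_spec hA cl0_2_10 c hc)).append (chkOn_spec hA cl0_2_11 c hc)).append (chkOn_spec hA cl0_2_12 c hc)).append (chkOn_spec hA cl0_2_13 c hc)).append (chkOn_spec hA cl0_2_14 c hc)).append (chkOn_spec hA cl0_2_15 c hc)).append (chkOn_spec hA cl0_2_16 c hc)))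
  (forall_take_drop 10 (fun c hc => HoldsOn.holds hA (((((((((((((((((chkOn_spec hA cl0_3_0 c hc).append (chkOn_spec hA cl0_3_1 c hc)).append (chkOn_spec hA cl0_3_2 c hc)).append (chkOn_spec hA cl0_3_3 c hc)).append (chkOn_spec hA cl0_3_4 c hc)).append (chkOn_spec hA cl0_3_5 c hc)).append (chkOn_spec hA cl0_3_6 c hc)).append (chkOn_spec hA cl0_3_7 c hc)).append (chkOn_spec hA cl0_3_8 c hc)).append (chkOn_spec hA cl0_3_9 c hc)).append (chkOn_spec hA cl0_3_10 c hc)).append (chkOn_spec hA cl0_3_11 c hc)).append (chkOn_spec hA cl0_3_12 c hc)).append (chkOn_spec hA cl0_3_13 c hc)).append (chkOn_spec hA cl0_3_14 c hc)).append (chkOn_spec hA cl0_3_15 c hc)).append (chkOn_spec hA cl0_3_16 c hc)))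
  (forall_take_drop 9 (fun c hc => HoldsOn.holds hA (((((((((((((((((chkOn_spec hA cl0_4_0 c hc).append (chkOn_spec hA cl0_4_1 c hc)).append (chkOn_spec hA cl0_4_2 c hc)).append (chkOn_spec hA cl0_4_3 c hc)).append (chkOn_spec hA cl0_4_4 c hc)).append (chkOn_spec hA cl0_4_5 c hc)).append (chkOn_spec hA cl0_4_6 c hc)).append (chkOn_spec hA cl0_4_7 c hc)).append (chkOn_spec hA cl0_4_8 c hc)).append (chkOn_spec hA cl0_4_9 c hc)).append (chkOn_spec hA cl0_4_10 c hc)).append (chkOn_spec hA cl0_4_11 c hc)).append (chkOn_spec hA cl0_4_12 c hc)).append (chkOn_spec hA cl0_4_13 c hc)).append (chkOn_spec hA cl0_4_14 c hc)).append (chkOn_spec hA cl0_4_15 c hc)).append (chkOn_spec hA cl0_4_16 c hc)))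
  (forall_take_drop 9 (fun c hc => HoldsOn.holds hA (((((((((((((((((chkOn_spec hA cl0_5_0 c hc).append (chkOn_spec hA cl0_5_1 c hc)).append (chkOn_spec hA cl0_5_2 c hc)).append (chkOn_spec hA cl0_5_3 c hc)).append (chkOn_spec hA cl0_5_4 c hc)).append (chkOn_spec hA cl0_5_5 c hc)).append (chkOn_spec hA cl0_5_6 c hc)).append (chkOn_spec hA cl0_5_7 c hc)).append (chkOn_spec hA cl0_5_8 c hc)).append (chkOn_spec hA cl0_5_9 c hc)).append (chkOn_spec hA cl0_5_10 c hc)).append (chkOn_spec hA cl0_5_11 c hc)).append (chkOn_spec hA cl0_5_12 c hc)).append (chkOn_spec hA cl0_5_13 c hc)).append (chkOn_spec hA cl0_5_14 c hc)).append (chkOn_spec hA cl0_5_15 c hc)).append (chkOn_spec hA cl0_5_16 c hc)))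
  (forall_take_drop 8 (fun c hc => HoldsOn.holds hA (((((((((((((((((chkOn_spec hA cl0_6_0 c hc).append (chkOn_spec hA cl0_6_1 c hc)).append (chkOn_spec hA cl0_6_2 c hc)).append (chkOn_spec hA cl0_6_3 c hc)).append (chkOn_spec hA cl0_6_4 c hc)).append (chkOn_spec hA cl0_6_5 c hc)).append (chkOn_spec hA cl0_6_6 c hc)).append (chkOn_spec hA cl0_6_7 c hc)).append (chkOn_spec hA cl0_6_8 c hc)).append (chkOn_spec hA cl0_6_9 c hc)).append (chkOn_spec hA cl0_6_10 c hc)).append (chkOn_spec hA cl0_6_11 c hc)).append (chkOn_spec hA cl0_6_12 c hc)).append (chkOn_spec hA cl0_6_13 c hc)).append (chkOn_spec hA cl0_6_14 c hc)).append (chkOn_spec hA cl0_6_15 c hc)).append (chkOn_spec hA cl0_6_16 c hc)))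
  (forall_take_drop 8 (fun c hc => HoldsOn.holds hA (((((((((((((((((chkOn_spec hA cl0_7_0 c hc).append (chkOn_spec hA cl0_7_1 c hc)).append (chkOn_spec hA cl0_7_2 c hc)).append (chkOn_spec hA cl0_7_3 c hc)).append (chkOn_spec hA cl0_7_4 c hc)).append (chkOn_spec hA cl0_7_5 c hc)).append (chkOn_spec hA cl0_7_6 c hc)).append (chkOn_spec hA cl0_7_7 c hc)).append (chkOn_spec hA cl0_7_8 c hc)).append (chkOn_spec hA cl0_7_9 c hc)).append (chkOn_spec hA cl0_7_10 c hc)).append (chkOn_spec hA cl0_7_11 c hc)).append (chkOn_spec hA cl0_7_12 c hc)).append (chkOn_spec hA cl0_7_13 c hc)).append (chkOn_spec hA cl0_7_14 c hc)).append (chkOn_spec hA cl0_7_15 c hc)).append (chkOn_spec hA cl0_7_16 c hc)))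
  (forall_take_drop 8 (fun c hc => HoldsOn.holds hA (((((((((((((((((chkOn_spec hA cl0_8_0 c hc).append (chkOn_spec hA cl0_8_1 c hc)).append (chkOn_spec hA cl0_8_2 c hc)).append (chkOn_spec hA cl0_8_3 c hc)).append (chkOn_spec hA cl0_8_4 c hc)).append (chkOn_spec hA cl0_8_5 c hc)).append (chkOn_spec hA cl0_8_6 c hc)).append (chkOn_spec hA cl0_8_7 c hc)).append (chkOn_spec hA cl0_8_8 c hc)).append (chkOn_spec hA cl0_8_9 c hc)).append (chkOn_spec hA cl0_8_10 c hc)).append (chkOn_spec hA cl0_8_11 c hc)).append (chkOn_spec hA cl0_8_12 c hc)).append (chkOn_spec hA cl0_8_13 c hc)).append (chkOn_spec hA cl0_8_14 c hc)).append (chkOn_spec hA cl0_8_15 c hc)).append (chkOn_spec hA cl0_8_16 c hc)))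
  (forall_take_drop 8 (fun c hc => HoldsOn.holds hA (((((((((((((((((chkOn_spec hA cl0_9_0 c hc).append (chkOn_spec hA cl0_9_1 c hc)).append (chkOn_spec hA cl0_9_2 c hc)).append (chkOn_spec hA cl0_9_3 c hc)).append (chkOn_spec hA cl0_9_4 c hc)).append (chkOn_spec hA cl0_9_5 c hc)).append (chkOn_spec hA cl0_9_6 c hc)).append (chkOn_spec hA cl0_9_7 c hc)).append (chkOn_spec hA cl0_9_8 c hc)).append (chkOn_spec hA cl0_9_9 c hc)).append (chkOn_spec hA cl0_9_10 c hc)).append (chkOn_spec hA cl0_9_11 c hc)).append (chkOn_spec hA cl0_9_12 c hc)).append (chkOn_spec hA cl0_9_13 c hc)).append (chkOn_spec hA cl0_9_14 c hc)).append (chkOn_spec hA cl0_9_15 c hc)).append (chkOn_spec hA cl0_9_16 c hc)))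
  (forall_take_drop 8 (fun c hc => HoldsOn.holds hA (((((((((((((((((chkOn_spec hA cl0_10_0 c hc).append (chkOn_spec hA cl0_10_1 c hc)).append (chkOn_spec hA cl0_10_2 c hc)).append (chkOn_spec hA cl0_10_3 c hc)).append (chkOn_spec hA cl0_10_4 c hc)).append (chkOn_spec hA cl0_10_5 c hc)).append (chkOn_spec hA cl0_10_6 c hc)).append (chkOn_spec hA cl0_10_7 c hc)).append (chkOn_spec hA cl0_10_8 c hc)).append (chkOn_spec hA cl0_10_9 c hc)).append (chkOn_spec hA cl0_10_10 c hc)).append (chkOn_spec hA cl0_10_11 c hc)).append (chkOn_spec hA cl0_10_12 c hc)).append (chkOn_spec hA cl0_10_13 c hc)).append (chkOn_spec hA cl0_10_14 c hc)).append (chkOn_spec hA cl0_10_15 c hc)).append (chkOn_spec hA cl0_10_16 c hc)))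
  (forall_take_drop 8 (fun c hc => HoldsOn.holds hA (((((((((((((((((chkOn_spec hA cl0_11_0 c hc).append (chkOn_spec hA cl0_11_1 c hc)).append (chkOn_spec hA cl0_11_2 c hc)).append (chkOn_spec hA cl0_11_3 c hc)).append (chkOn_spec hA cl0_11_4 c hc)).append (chkOn_spec hA cl0_11_5 c hc)).append (chkOn_spec hA cl0_11_6 c hc)).append (chkOn_spec hA cl0_11_7 c hc)).append (chkOn_spec hA cl0_11_8 c hc)).append (chkOn_spec hA cl0_11_9 c hc)).append (chkOn_spec hA cl0_11_10 c hc)).append (chkOn_spec hA cl0_11_11 c hc)).append (chkOn_spec hA cl0_11_12 c hc)).append (chkOn_spec hA cl0_11_13 c hc)).append (chkOn_spec hA cl0_11_14 c hc)).append (chkOn_spec hA cl0_11_15 c hc)).append (chkOn_spec hA cl0_11_16 c hc)))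
  (forall_take_drop 8 (fun c hc => HoldsOn.holds hA (((((((((((((((((chkOn_spec hA cl0_12_0 c hc).append (chkOn_spec hA cl0_12_1 c hc)).append (chkOn_spec hA cl0_12_2 c hc)).append (chkOn_spec hA cl0_12_3 c hc)).append (chkOn_spec hA cl0_12_4 c hc)).append (chkOn_spec hA cl0_12_5 c hc)).append (chkOn_spec hA cl0_12_6 c hc)).append (chkOn_spec hA cl0_12_7 c hc)).append (chkOn_spec hA cl0_12_8 c hc)).append (chkOn_spec hA cl0_12_9 c hc)).append (chkOn_spec hA cl0_12_10 c hc)).append (chkOn_spec hA cl0_12_11 c hc)).append (chkOn_spec hA cl0_12_12 c hc)).append (chkOn_spec hA cl0_12_13 c hc)).append (chkOn_spec hA cl0_12_14 c hc)).append (chkOn_spec hA cl0_12_15 c hc)).append (chkOn_spec hA cl0_12_16 c hc)))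
  (forall_take_drop 8 (fun c hc => HoldsOn.holds hA (((((((((((((((((chkOn_spec hA cl0_13_0 c hc).append (chkOn_spec hA cl0_13_1 c hc)).append (chkOn_spec hA cl0_13_2 c hc)).append (chkOn_spec hA cl0_13_3 c hc)).append (chkOn_spec hA cl0_13_4 c hc)).append (chkOn_spec hA cl0_13_5 c hc)).append (chkOn_spec hA cl0_13_6 c hc)).append (chkOn_spec hA cl0_13_7 c hc)).append (chkOn_spec hA cl0_13_8 c hc)).append (chkOn_spec hA cl0_13_9 c hc)).append (chkOn_spec hA cl0_13_10 c hc)).append (chkOn_spec hA cl0_13_11 c hc)).append (chkOn_spec hA cl0_13_12 c hc)).append (chkOn_spec hA cl0_13_13 c hc)).append (chkOn_spec hA cl0_13_14 c hc)).append (chkOn_spec hA cl0_13_15 c hc)).append (chkOn_spec hA cl0_13_16 c hc)))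
  (forall_take_drop 8 (fun c hc => HoldsOn.holds hA (((((((((((((((((chkOn_spec hA cl0_14_0 c hc).append (chkOn_spec hA cl0_14_1 c hc)).append (chkOn_spec hA cl0_14_2 c hc)).append (chkOn_spec hA cl0_14_3 c hc)).append (chkOn_spec hA cl0_14_4 c hc)).append (chkOn_spec hA cl0_14_5 c hc)).append (chkOn_spec hA cl0_14_6 c hc)).append (chkOn_spec hA cl0_14_7 c hc)).append (chkOn_spec hA cl0_14_8 c hc)).append (chkOn_spec hA cl0_14_9 c hc)).append (chkOn_spec hA cl0_14_10 c hc)).append (chkOn_spec hA cl0_14_11 c hc)).append (chkOn_spec hA cl0_14_12 c hc)).append (chkOn_spec hA cl0_14_13 c hc)).append (chkOn_spec hA cl0_14_14 c hc)).append (chkOn_spec hA cl0_14_15 c hc)).append (chkOn_spec hA cl0_14_16 c hc)))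
  (forall_take_drop 8 (fun c hc => HoldsOn.holds hA (((((((((((((((((chkOn_spec hA cl0_15_0 c hc).append (chkOn_spec hA cl0_15_1 c hc)).append (chkOn_spec hA cl0_15_2 c hc)).append (chkOn_spec hA cl0_15_3 c hc)).append (chkOn_spec hA cl0_15_4 c hc)).append (chkOn_spec hA cl0_15_5 c hc)).append (chkOn_spec hA cl0_15_6 c hc)).append (chkOn_spec hA cl0_15_7 c hc)).append (chkOn_spec hA cl0_15_8 c hc)).append (chkOn_spec hA cl0_15_9 c hc)).append (chkOn_spec hA cl0_15_10 c hc)).append (chkOn_spec hA cl0_15_11 c hc)).append (chkOn_spec hA cl0_15_12 c hc)).append (chkOn_spec hA cl0_15_13 c hc)).append (chkOn_spec hA cl0_15_14 c hc)).append (chkOn_spec hA cl0_15_15 c hc)).append (chkOn_spec hA cl0_15_16 c hc)))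
  (forall_take_drop 8 (fun c hc => HoldsOn.holds hA (((((((((((((((((chkOn_spec hA cl0_16_0 c hc).append (chkOn_spec hA cl0_16_1 c hc)).append (chkOn_spec hA cl0_16_2 c hc)).append (chkOn_spec hA cl0_16_3 c hc)).append (chkOn_spec hA cl0_16_4 c hc)).append (chkOn_spec hA cl0_16_5 c hc)).append (chkOn_spec hA cl0_16_6 c hc)).append (chkOn_spec hA cl0_16_7 c hc)).append (chkOn_spec hA cl0_16_8 c hc)).append (chkOn_spec hA cl0_16_9 c hc)).append (chkOn_spec hA cl0_16_10 c hc)).append (chkOn_spec hA cl0_16_11 c hc)).append (chkOn_spec hA cl0_16_12 c hc)).append (chkOn_spec hA cl0_16_13 c hc)).append (chkOn_spec hA cl0_16_14 c hc)).append (chkOn_spec hA cl0_16_15 c hc)).append (chkOn_spec hA cl0_16_16 c hc)))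
  (forall_take_drop 9 (fun c hc => HoldsOn.holds hA (((((((((((((((((chkOn_spec hA cl0_17_0 c hc).append (chkOn_spec hA cl0_17_1 c hc)).append (chkOn_spec hA cl0_17_2 c hc)).append (chkOn_spec hA cl0_17_3 c hc)).append (chkOn_spec hA cl0_17_4 c hc)).append (chkOn_spec hA cl0_17_5 c hc)).append (chkOn_spec hA cl0_17_6 c hc)).append (chkOn_spec hA cl0_17_7 c hc)).append (chkOn_spec hA cl0_17_8 c hc)).append (chkOn_spec hA cl0_17_9 c hc)).append (chkOn_spec hA cl0_17_10 c hc)).append (chkOn_spec hA cl0_17_11 c hc)).append (chkOn_spec hA cl0_17_12 c hc)).append (chkOn_spec hA cl0_17_13 c hc)).append (chkOn_spec hA cl0_17_14 c hc)).append (chkOn_spec hA cl0_17_15 c hc)).append (chkOn_spec hA cl0_17_16 c hc)))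
  (forall_take_drop 8 (fun c hc => HoldsOn.holds hA (((((((((((((((((chkOn_spec hA cl0_18_0 c hc).append (chkOn_spec hA cl0_18_1 c hc)).append (chkOn_spec hA cl0_18_2 c hc)).append (chkOn_spec hA cl0_18_3 c hc)).append (chkOn_spec hA cl0_18_4 c hc)).append (chkOn_spec hA cl0_18_5 c hc)).append (chkOn_spec hA cl0_18_6 c hc)).append (chkOn_spec hA cl0_18_7 c hc)).append (chkOn_spec hA cl0_18_8 c hc)).append (chkOn_spec hA cl0_18_9 c hc)).append (chkOn_spec hA cl0_18_10 c hc)).append (chkOn_spec hA cl0_18_11 c hc)).append (chkOn_spec hA cl0_18_12 c hc)).append (chkOn_spec hA cl0_18_13 c hc)).append (chkOn_spec hA cl0_18_14 c hc)).append (chkOn_spec hA cl0_18_15 c hc)).append (chkOn_spec hA cl0_18_16 c hc)))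
  (forall_take_drop 8 (fun c hc => HoldsOn.holds hA (((((((((((((((((chkOn_spec hA cl0_19_0 c hc).append (chkOn_spec hA cl0_19_1 c hc)).append (chkOn_spec hA cl0_19_2 c hc)).append (chkOn_spec hA cl0_19_3 c hc)).append (chkOn_spec hA cl0_19_4 c hc)).append (chkOn_spec hA cl0_19_5 c hc)).append (chkOn_spec hA cl0_19_6 c hc)).append (chkOn_spec hA cl0_19_7 c hc)).append (chkOn_spec hA cl0_19_8 c hc)).append (chkOn_spec hA cl0_19_9 c hc)).append (chkOn_spec hA cl0_19_10 c hc)).append (chkOn_spec hA cl0_19_11 c hc)).append (chkOn_spec hA cl0_19_12 c hc)).append (chkOn_spec hA cl0_19_13 c hc)).append (chkOn_spec hA cl0_19_14 c hc)).append (chkOn_spec hA cl0_19_15 c hc)).append (chkOn_spec hA cl0_19_16 c hc)))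
  (forall_take_drop 8 (fun c hc => HoldsOn.holds hA (((((((((((((((((chkOn_spec hA cl0_20_0 c hc).append (chkOn_spec hA cl0_20_1 c hc)).append (chkOn_spec hA cl0_20_2 c hc)).append (chkOn_spec hA cl0_20_3 c hc)).append (chkOn_spec hA cl0_20_4 c hc)).append (chkOn_spec hA cl0_20_5 c hc)).append (chkOn_spec hA cl0_20_6 c hc)).append (chkOn_spec hA cl0_20_7 c hc)).append (chkOn_spec hA cl0_20_8 c hc)).append (chkOn_spec hA cl0_20_9 c hc)).append (chkOn_spec hA cl0_20_10 c hc)).append (chkOn_spec hA cl0_20_11 c hc)).append (chkOn_spec hA cl0_20_12 c hc)).append (chkOn_spec hA cl0_20_13 c hc)).append (chkOn_spec hA cl0_20_14 c hc)).append (chkOn_spec hA cl0_20_15 c hc)).append (chkOn_spec hA cl0_20_16 c hc)))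
  (forall_take_drop 8 (fun c hc => HoldsOn.holds hA (((((((((((((((((chkOn_spec hA cl0_21_0 c hc).append (chkOn_spec hA cl0_21_1 c hc)).append (chkOn_spec hA cl0_21_2 c hc)).append (chkOn_spec hA cl0_21_3 c hc)).append (chkOn_spec hA cl0_21_4 c hc)).append (chkOn_spec hA cl0_21_5 c hc)).append (chkOn_spec hA cl0_21_6 c hc)).append (chkOn_spec hA cl0_21_7 c hc)).append (chkOn_spec hA cl0_21_8 c hc)).append (chkOn_spec hA cl0_21_9 c hc)).append (chkOn_spec hA cl0_21_10 c hc)).append (chkOn_spec hA cl0_21_11 c hc)).append (chkOn_spec hA cl0_21_12 c hc)).append (chkOn_spec hA cl0_21_13 c hc)).append (chkOn_spec hA cl0_21_14 c hc)).append (chkOn_spec hA cl0_21_15 c hc)).append (chkOn_spec hA cl0_21_16 c hc)))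
  (forall_take_drop 8 (fun c hc => HoldsOn.holds hA (((((((((((((((((chkOn_spec hA cl0_22_0 c hc).append (chkOn_spec hA cl0_22_1 c hc)).append (chkOn_spec hA cl0_22_2 c hc)).append (chkOn_spec hA cl0_22_3 c hc)).append (chkOn_spec hA cl0_22_4 c hc)).append (chkOn_spec hA cl0_22_5 c hc)).append (chkOn_spec hA cl0_22_6 c hc)).append (chkOn_spec hA cl0_22_7 c hc)).append (chkOn_spec hA cl0_22_8 c hc)).append (chkOn_spec hA cl0_22_9 c hc)).append (chkOn_spec hA cl0_22_10 c hc)).append (chkOn_spec hA cl0_22_11 c hc)).append (chkOn_spec hA cl0_22_12 c hc)).append (chkOn_spec hA cl0_22_13 c hc)).append (chkOn_spec hA cl0_22_14 c hc)).append (chkOn_spec hA cl0_22_15 c hc)).append (chkOn_spec hA cl0_22_16 c hc)))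
  (forall_take_drop 8 (fun c hc => HoldsOn.holds hA (((((((((((((((((chkOn_spec hA cl0_23_0 c hc).append (chkOn_spec hA cl0_23_1 c hc)).append (chkOn_spec hA cl0_23_2 c hc)).append (chkOn_spec hA cl0_23_3 c hc)).append (chkOn_spec hA cl0_23_4 c hc)).append (chkOn_spec hA cl0_23_5 c hc)).append (chkOn_spec hA cl0_23_6 c hc)).append (chkOn_spec hA cl0_23_7 c hc)).append (chkOn_spec hA cl0_23_8 c hc)).append (chkOn_spec hA cl0_23_9 c hc)).append (chkOn_spec hA cl0_23_10 c hc)).append (chkOn_spec hA cl0_23_11 c hc)).append (chkOn_spec hA cl0_23_12 c hc)).append (chkOn_spec hA cl0_23_13 c hc)).append (chkOn_spec hA cl0_23_14 c hc)).append (chkOn_spec hA cl0_23_15 c hc)).append (chkOn_spec hA cl0_23_16 c hc)))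
  (forall_take_drop 8 (fun c hc => HoldsOn.holds hA (((((((((((((((((chkOn_spec hA cl0_24_0 c hc).append (chkOn_spec hA cl0_24_1 c hc)).append (chkOn_spec hA cl0_24_2 c hc)).append (chkOn_spec hA cl0_24_3 c hc)).append (chkOn_spec hA cl0_24_4 c hc)).append (chkOn_spec hA cl0_24_5 c hc)).append (chkOn_spec hA cl0_24_6 c hc)).append (chkOn_spec hA cl0_24_7 c hc)).append (chkOn_spec hA cl0_24_8 c hc)).append (chkOn_spec hA cl0_24_9 c hc)).append (chkOn_spec hA cl0_24_10 c hc)).append (chkOn_spec hA cl0_24_11 c hc)).append (chkOn_spec hA cl0_24_12 c hc)).append (chkOn_spec hA cl0_24_13 c hc)).append (chkOn_spec hA cl0_24_14 c hc)).append (chkOn_spec hA cl0_24_15 c hc)).append (chkOn_spec hA cl0_24_16 c hc)))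
  (forall_take_drop 8 (fun c hc => HoldsOn.holds hA (((((((((((((((((chkOn_spec hA cl0_25_0 c hc).append (chkOn_spec hA cl0_25_1 c hc)).append (chkOn_spec hA cl0_25_2 c hc)).append (chkOn_spec hA cl0_25_3 c hc)).append (chkOn_spec hA cl0_25_4 c hc)).append (chkOn_spec hA cl0_25_5 c hc)).append (chkOn_spec hA cl0_25_6 c hc)).append (chkOn_spec hA cl0_25_7 c hc)).append (chkOn_spec hA cl0_25_8 c hc)).append (chkOn_spec hA cl0_25_9 c hc)).append (chkOn_spec hA cl0_25_10 c hc)).append (chkOn_spec hA cl0_25_11 c hc)).append (chkOn_spec hA cl0_25_12 c hc)).append (chkOn_spec hA cl0_25_13 c hc)).append (chkOn_spec hA cl0_25_14 c hc)).append (chkOn_spec hA cl0_25_15 c hc)).append (chkOn_spec hA cl0_25_16 c hc)))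
  (forall_take_drop 8 (fun c hc => HoldsOn.holds hA (((((((((((((((((chkOn_spec hA cl0_26_0 c hc).append (chkOn_spec hA cl0_26_1 c hc)).append (chkOn_spec hA cl0_26_2 c hc)).append (chkOn_spec hA cl0_26_3 c hc)).append (chkOn_spec hA cl0_26_4 c hc)).append (chkOn_spec hA cl0_26_5 c hc)).append (chkOn_spec hA cl0_26_6 c hc)).append (chkOn_spec hA cl0_26_7 c hc)).append (chkOn_spec hA cl0_26_8 c hc)).append (chkOn_spec hA cl0_26_9 c hc)).append (chkOn_spec hA cl0_26_10 c hc)).append (chkOn_spec hA cl0_26_11 c hc)).append (chkOn_spec hA cl0_26_12 c hc)).append (chkOn_spec hA cl0_26_13 c hc)).append (chkOn_spec hA cl0_26_14 c hc)).append (chkOn_spec hA cl0_26_15 c hc)).append (chkOn_spec hA cl0_26_16 c hc)))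
  (forall_take_drop 7 (fun c hc => HoldsOn.holds hA (((((((((((((((((chkOn_spec hA cl0_27_0 c hc).append (chkOn_spec hA cl0_27_1 c hc)).append (chkOn_spec hA cl0_27_2 c hc)).append (chkOn_spec hA cl0_27_3 c hc)).append (chkOn_spec hA cl0_27_4 c hc)).append (chkOn_spec hA cl0_27_5 c hc)).append (chkOn_spec hA cl0_27_6 c hc)).append (chkOn_spec hA cl0_27_7 c hc)).append (chkOn_spec hA cl0_27_8 c hc)).append (chkOn_spec hA cl0_27_9 c hc)).append (chkOn_spec hA cl0_27_10 c hc)).append (chkOn_spec hA cl0_27_11 c hc)).append (chkOn_spec hA cl0_27_12 c hc)).append (chkOn_spec hA cl0_27_13 c hc)).append (chkOn_spec hA cl0_27_14 c hc)).append (chkOn_spec hA cl0_27_15 c hc)).append (chkOn_spec hA cl0_27_16 c hc)))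
  (forall_take_drop 8 (fun c hc => HoldsOn.holds hA (((((((((((((((((chkOn_spec hA cl0_28_0 c hc).append (chkOn_spec hA cl0_28_1 c hc)).append (chkOn_spec hA cl0_28_2 c hc)).append (chkOn_spec hA cl0_28_3 c hc)).append (chkOn_spec hA cl0_28_4 c hc)).append (chkOn_spec hA cl0_28_5 c hc)).append (chkOn_spec hA cl0_28_6 c hc)).append (chkOn_spec hA cl0_28_7 c hc)).append (chkOn_spec hA cl0_28_8 c hc)).append (chkOn_spec hA cl0_28_9 c hc)).append (chkOn_spec hA cl0_28_10 c hc)).append (chkOn_spec hA cl0_28_11 c hc)).append (chkOn_spec hA cl0_28_12 c hc)).append (chkOn_spec hA cl0_28_13 c hc)).append (chkOn_spec hA cl0_28_14 c hc)).append (chkOn_spec hA cl0_28_15 c hc)).append (chkOn_spec hA cl0_28_16 c hc)))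
  (forall_take_drop 9 (fun c hc => HoldsOn.holds hA (((((((((((((((((chkOn_spec hA cl0_29_0 c hc).append (chkOn_spec hA cl0_29_1 c hc)).append (chkOn_spec hA cl0_29_2 c hc)).append (chkOn_spec hA cl0_29_3 c hc)).append (chkOn_spec hA cl0_29_4 c hc)).append (chkOn_spec hA cl0_29_5 c hc)).append (chkOn_spec hA cl0_29_6 c hc)).append (chkOn_spec hA cl0_29_7 c hc)).append (chkOn_spec hA cl0_29_8 c hc)).append (chkOn_spec hA cl0_29_9 c hc)).append (chkOn_spec hA cl0_29_10 c hc)).append (chkOn_spec hA cl0_29_11 c hc)).append (chkOn_spec hA cl0_29_12 c hc)).append (chkOn_spec hA cl0_29_13 c hc)).append (chkOn_spec hA cl0_29_14 c hc)).append (chkOn_spec hA cl0_29_15 c hc)).append (chkOn_spec hA cl0_29_16 c hc)))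
  (forall_take_drop 8 (fun c hc => HoldsOn.holds hA (((((((((((((((((chkOn_spec hA cl0_30_0 c hc).append (chkOn_spec hA cl0_30_1 c hc)).append (chkOn_spec hA cl0_30_2 c hc)).append (chkOn_spec hA cl0_30_3 c hc)).append (chkOn_spec hA cl0_30_4 c hc)).append (chkOn_spec hA cl0_30_5 c hc)).append (chkOn_spec hA cl0_30_6 c hc)).append (chkOn_spec hA cl0_30_7 c hc)).append (chkOn_spec hA cl0_30_8 c hc)).append (chkOn_spec hA cl0_30_9 c hc)).append (chkOn_spec hA cl0_30_10 c hc)).append (chkOn_spec hA cl0_30_11 c hc)).append (chkOn_spec hA cl0_30_12 c hc)).append (chkOn_spec hA cl0_30_13 c hc)).append (chkOn_spec hA cl0_30_14 c hc)).append (chkOn_spec hA cl0_30_15 c hc)).append (chkOn_spec hA cl0_30_16 c hc)))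
  (fun c hc => HoldsOn.holds hA (((((((((((((((((chkOn_spec hA cl0_31_0 c hc).append (chkOn_spec hA cl0_31_1 c hc)).append (chkOn_spec hA cl0_31_2 c hc)).append (chkOn_spec hA cl0_31_3 c hc)).append (chkOn_spec hA cl0_31_4 c hc)).append (chkOn_spec hA cl0_31_5 c hc)).append (chkOn_spec hA cl0_31_6 c hc)).append (chkOn_spec hA cl0_31_7 c hc)).append (chkOn_spec hA cl0_31_8 c hc)).append (chkOn_spec hA cl0_31_9 c hc)).append (chkOn_spec hA cl0_31_10 c hc)).append (chkOn_spec hA cl0_31_11 c hc)).append (chkOn_spec hA cl0_31_12 c hc)).append (chkOn_spec hA cl0_31_13 c hc)).append (chkOn_spec hA cl0_31_14 c hc)).append (chkOn_spec hA cl0_31_15 c hc)).append (chkOn_spec hA cl0_31_16 c hc))))))))))))))))))))))))))))))))))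

theorem stab0 : StabIs A 0 266 1 := stabIs_dc' hA stab1 ok0
  (forall_take_drop 1 (allL_spec ok0_0)
  (forall_take_drop 1 (allL_spec ok0_1)
  (forall_take_drop 1 (allL_spec ok0_2)
  (forall_take_drop 1 (allL_spec ok0_3)
  (allL_spec ok0_4))))) cl0

theorem card0 : Nat.card (K A 0) = 460815505920 := card_K_step hA stab0 orb0 card1

theorem fixTriv0 {B : Set ℕ} (h0 : 266 ∈ B) (h1 : 272 ∈ B) (h2 : 2794 ∈ B) (h3 : 2467 ∈ B) (h4 : 3534 ∈ B) (h5 : 0 ∈ B) (h6 : 1 ∈ B) : FixTriv (K A 0) B :=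
  fixTriv_step stab0 h0 <| fixTriv_step stab1 h1 <| fixTriv_step stab2 h2 <| fixTriv_step stab3 h3 <| fixTriv_step stab4 h4 <| fixTriv_step stab5 h5 <| fixTriv_step stab6 h6 <| fixTriv_last A (le_of_eq hlen) B

theorem fixTriv1 {B : Set ℕ} (h1 : 272 ∈ B) (h2 : 2794 ∈ B) (h3 : 2467 ∈ B) (h4 : 3534 ∈ B) (h5 : 0 ∈ B) (h6 : 1 ∈ B) : FixTriv (K A 1) B :=
  fixTriv_step stab1 h1 <| fixTriv_step stab2 h2 <| fixTriv_step stab3 h3 <| fixTriv_step stab4 h4 <| fixTriv_step stab5 h5 <| fixTriv_step stab6 h6 <| fixTriv_last A (le_of_eq hlen) B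

theorem fixTriv2 {B : Set ℕ} (h2 : 2794 ∈ B) (h3 : 2467 ∈ B) (h4 : 3534 ∈ B) (h5 : 0 ∈ B) (h6 : 1 ∈ B) : FixTriv (K A 2) B :=
  fixTriv_step stab2 h2 <| fixTriv_step stab3 h3 <| fixTriv_step stab4 h4 <| fixTriv_step stab5 h5 <| fixTriv_step stab6 h6 <| fixTriv_last A (le_of_eq hlen) B

theorem fixTriv3 {B : Set ℕ} (h3 : 2467 ∈ B) (h4 : 3534 ∈ B) (h5 : 0 ∈ B) (h6 : 1 ∈ B) : FixTriv (K A 3) B :=
  fixTriv_step stab3 h3 <| fixTriv_step stab4 h4 <| fixTriv_step stab5 h5 <| fixTriv_step stab6 h6 <| fixTriv_last A (le_of_eq hlen) B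

theorem fixTriv4 {B : Set ℕ} (h4 : 3534 ∈ B) (h5 : 0 ∈ B) (h6 : 1 ∈ B) : FixTriv (K A 4) B :=
  fixTriv_step stab4 h4 <| fixTriv_step stab5 h5 <| fixTriv_step stab6 h6 <| fixTriv_last A (le_of_eq hlen) B

theorem fixTriv5 {B : Set ℕ} (h5 : 0 ∈ B) (h6 : 1 ∈ B) : FixTriv (K A 5) B :=
  fixTriv_step stab5 h5 <| fixTriv_step stab6 h6 <| fixTriv_last A (le_of_eq hlen) B

theorem fixTriv6 {B : Set ℕ} (h6 : 1 ∈ B) : FixTriv (K A 6) B :=
  fixTriv_step stab6 h6 <| fixTriv_last A (le_of_eq hlen) B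

theorem max0 (L : Subgroup (Equiv.Perm ℕ)) (h1 : K A 1 ≤ L) (h2 : L ≤ K A 0) : L = K A 1 ∨ L = K A 0 :=
  max_spec hA stab0 maxok0 h1 h2

theorem zcls0 : ∀ c ∈ zcls0_l, Holds A c :=
  (fun c hc => HoldsOn.holds hA (((((((((((((((((chkOn_spec hA zcls0_0_0 c hc).append (chkOn_spec hA zcls0_0_1 c hc)).append (chkOn_spec hA zcls0_0_2 c hc)).append (chkOn_spec hA zcls0_0_3 c hc)).append (chkOn_spec hA zcls0_0_4 c hc)).append (chkOn_spec hA zcls0_0_5 c hc)).append (chkOn_spec hA zcls0_0_6 c hc)).append (chkOn_spec hA zcls0_0_7 c hc)).append (chkOn_spec hA zcls0_0_8 c hc)).append (chkOn_spec hA zcls0_0_9 c hc)).append (chkOn_spec hA zcls0_0_10 c hc)).append (chkOn_spec hA zcls0_0_11 c hc)).append (chkOn_spec hA zcls0_0_12 c hc)).append (chkOn_spec hA zcls0_0_13 c hc)).append (chkOn_spec hA zcls0_0_14 c hc)).append (chkOn_spec hA zcls0_0_15 c hc)).append (chkOn_spec hA zcls0_0_16 c hc)))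

theorem ncls0 (M : Subgroup (Equiv.Perm ℕ)) (hM : ∀ σ ∈ K A 0, ∀ n ∈ M, σ * n * σ⁻¹ ∈ M) (hy : pp A [0x02061600040a] ∈ M) : K A 0 ≤ M :=
  have hz := z_mem hM hy (zc := zcs0) (by decide +kernel) zcls0
  ncl_step hA stab0 ncloks0_0 (by decide) hM (sub_z hz (by decide +kernel)) <|
  ncl_step hA stab1 ncloks0_1 (by decide) hM (sub_z hz (by decide +kernel)) <|
  ncl_step hA stab2 ncloks0_2 (by decide) hM (sub_z hz (by decide +kernel)) <|
  ncl_step hA stab3 ncloks0_3 (by decide) hM (sub_z hz (by decide +kernel)) <|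
  ncl_step hA stab4 ncloks0_4 (by decide) hM (sub_z hz (by decide +kernel)) <|
  ncl_step hA stab5 ncloks0_5 (by decide) hM (sub_z hz (by decide +kernel)) <|
  ncl_step hA stab6 ncloks0_6 (by decide) hM (sub_z hz (by decide +kernel)) <|
  K_last_le A (le_of_eq hlen) M

theorem yp0 : ∀ c ∈ yp0_l, Holds A c :=
  (fun c hc => HoldsOn.holds hA (((((((((((((((((chkOn_spec hA yp0_0_0 c hc).append (chkOn_spec hA yp0_0_1 c hc)).append (chkOn_spec hA yp0_0_2 c hc)).append (chkOn_spec hA yp0_0_3 c hc)).append (chkOn_spec hA yp0_0_4 c hc)).append (chkOn_spec hA yp0_0_5 c hc)).append (chkOn_spec hA yp0_0_6 c hc)).append (chkOn_spec hA yp0_0_7 c hc)).append (chkOn_spec hA yp0_0_8 c hc)).append (chkOn_spec hA yp0_0_9 c hc)).append (chkOn_spec hA yp0_0_10 c hc)).append (chkOn_spec hA yp0_0_11 c hc)).append (chkOn_spec hA yp0_0_12 c hc)).append (chkOn_spec hA yp0_0_13 c hc)).append (chkOn_spec hA yp0_0_14 c hc)).append (chkOn_spec hA yp0_0_15 c hc)).append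 (chkOn_spec hA yp0_0_16 c hc)))

theorem simple0 : IsSimpleGroup (K A 0) :=
  isSimpleGroup_K hA stab0 (exists_moved hA (j := 0) (by decide +kernel)) max0 (fixTriv0
    (mem_orbit_of_word hA (w := 1) (by decide +kernel))
    (mem_orbit_of_word hA (w := 0x100) (by decide +kernel))
    (mem_orbit_of_word hA (w := 0x10003) (by decide +kernel))
    (mem_orbit_of_word hA (w := 0x1000305) (by decide +kernel))
    (mem_orbit_of_word hA (w := 0x1000304) (by decide +kernel))
    (mem_orbit_of_word hA (w := 0x10002000300030506) (by decide +kernel))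
    (mem_orbit_of_word hA (w := 0x1000202000205070206) (by decide +kernel)))
    (p := 31) (e := 1) (by norm_num) (by rw [card1]; norm_num) (pp_mem (l := [0x02061600040a]) (by decide +kernel))
    (pow_of_claim yp0) ncls0


end Cfsg.Agent.Spor.ON
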